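import Cfsg.Agent.Lib.SuzukiGroup.Matrices

/-!
`Cfsg.Lie.Sz`: order, Borel subgroup, Bruhat decomposition, Sylow 2-subgroup, action on the cosets of the
Borel subgroup, simplicity.
-/

set_option autoImplicit false

open scoped MatrixGroups Matrix

namespace CfsgLib.SuzukiGroup

open Cfsg.Lie (Sz)

/-- a field with `2^(2m+1)` elements with the parameters of the Suzuki group -/
structure Params (F : Type*) [Field F] (e : ℕ) where
  /-- the endomorphism -/
  θ : F →+* F
  pow_eq : ∀ x, θ x = x ^ e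
  sq : ∀ x, θ (θ x) = x ^ 2

theorem exists_params {F : Type*} [Field F] [Fintype F] {m : ℕ}
    (hF : Fintype.card F = 2 ^ (2 * m + 1)) : CharP F 2 ∧ Nonempty (Params F (2 ^ (m + 1))) := by
  obtain ⟨p, hp⟩ := CharP.exists F
  haveI := hp
  obtain ⟨n, hprime, hn⟩ := FiniteField.card F p
  have hp2 : p = 2 := by
    have : p ∣ 2 ^ (2 * m + 1) := hF ▸ hn ▸ dvd_pow_self p n.2.ne'
    exact (Nat.prime_dvd_prime_iff_eq hprime Nat.prime_two).1 (hprime.dvd_of_dvd_pow this)
  subst hp2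
  haveI : Fact (Nat.Prime 2) := ⟨Nat.prime_two⟩
  haveI : ExpChar F 2 := ExpChar.prime Nat.prime_two
  refine ⟨hp, ⟨⟨iterateFrobenius F 2 (m + 1), fun x => iterateFrobenius_def 2 (m + 1) x, fun x => ?_⟩⟩⟩
  rw [iterateFrobenius_def, iterateFrobenius_def, ← pow_mul, ← pow_add,
    show m + 1 + (m + 1) = 2 * m + 1 + 1 by ring, pow_succ 2 (2 * m + 1), pow_mul, ← hF,
    FiniteField.pow_card]

variable {F : Type*} [Field F] [Fintype F] [CharP F 2] {e : ℕ} (P : Params F e)

/-- the matrix of an element -/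
abbrev mat (g : Sz F e) : Matrix (Fin 4) (Fin 4) F := ((g : GL (Fin 4) F) : Matrix (Fin 4) (Fin 4) F)

omit [Fintype F] in
theorem uMat_zero : uMat P.θ 0 0 = (1 : Matrix (Fin 4) (Fin 4) F) := by
  ext i j
  fin_cases i <;> fin_cases j <;> simp [uMat]

/-- the elements of `Rel`, as a subgroup -/
def relSub : Subgroup (GL (Fin 4) F) where
  carrier := {g | Rel P.θ (g : Matrix (Fin 4) (Fin 4) F)}
  mul_mem' := by
    intro g h hg hh
    simpa using Rel.mul hg hh
  one_mem' := by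
    show Rel P.θ ((1 : GL (Fin 4) F) : Matrix (Fin 4) (Fin 4) F)
    rw [Units.val_one, ← uMat_zero P]
    exact rel_uMat P.sq 0 0
  inv_mem' := by
    intro g hg
    have hone : Rel P.θ (1 : Matrix (Fin 4) (Fin 4) F) := by
      rw [← uMat_zero P]; exact rel_uMat P.sq 0 0
    have hpow : ∀ n : ℕ, Rel P.θ ((g : Matrix (Fin 4) (Fin 4) F) ^ n) := fun n => by
      induction n with
      | zero => simpa using hone
      | succ n ih => rw [pow_succ]; exact ih.mul hg
    show Rel P.θ ((g⁻¹ : GL (Fin 4) F) : Matrix (Fin 4) (Fin 4) F)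
    have : g⁻¹ = g ^ (orderOf g - 1) := inv_eq_of_mul_eq_one_right (by
      rw [← pow_succ', Nat.sub_add_cancel (orderOf_pos g), pow_orderOf_eq_one])
    rw [this, Units.val_pow_eq_pow_val]
    exact hpow _

theorem mem_iff (g : GL (Fin 4) F) : g ∈ Sz F e ↔ Rel P.θ (g : Matrix (Fin 4) (Fin 4) F) := by
  have hset : {g : GL (Fin 4) F | g ∈ Cfsg.Lie.Sp4 F ∧
      Cfsg.Lie.star4 (g : Matrix (Fin 4) (Fin 4) F) =
        (g : Matrix (Fin 4) (Fin 4) F).map (fun x => x ^ e)} =
      (relSub P : Set (GL (Fin 4) F)) := by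
    ext g
    show _ ∧ _ ↔ Rel P.θ _
    rw [mem_sp4_iff, Rel, show (P.θ : F → F) = fun x => x ^ e from funext P.pow_eq]
  show g ∈ Subgroup.closure _ ↔ _
  rw [hset, Subgroup.closure_eq]
  rfl

theorem rel_mat (g : Sz F e) : Rel P.θ (mat g) := (mem_iff P _).1 g.2

/-- unitriangular element of `Sz` -/
def uEl (a b : F) : Sz F e :=
  ⟨⟨uMat P.θ a b, uMat P.θ a (b + a * P.θ a), by
      rw [uMat_mul P.sq, ← uMat_zero P]
      congr 1 <;> grind, by
      rw [uMat_mul P.sq, ← uMat_zero P]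
      congr 1 <;> grind⟩, (mem_iff P _).2 (rel_uMat P.sq a b)⟩

omit [CharP F 2] [Fintype F] in
theorem dMat_one : dMat P.θ 1 = (1 : Matrix (Fin 4) (Fin 4) F) := by
  ext i j
  fin_cases i <;> fin_cases j <;> simp [dMat]

/-- diagonal element of `Sz` -/
def dEl (x : Fˣ) : Sz F e :=
  ⟨⟨dMat P.θ x, dMat P.θ (x⁻¹ : Fˣ),
      by rw [dMat_mul, ← Units.val_mul, mul_inv_cancel, Units.val_one, dMat_one],
      by rw [dMat_mul, ← Units.val_mul, inv_mul_cancel, Units.val_one, dMat_one]⟩,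
    (mem_iff P _).2 (rel_dMat P.sq x.ne_zero)⟩

/-- the antidiagonal element of `Sz` -/
def jEl : Sz F e :=
  ⟨⟨jMat, jMat, jMat_mul_jMat, jMat_mul_jMat⟩, (mem_iff P _).2 rel_jMat⟩

@[simp] theorem mat_uEl (a b : F) : mat (uEl P a b) = uMat P.θ a b := rfl
@[simp] theorem mat_dEl (x : Fˣ) : mat (dEl P x) = dMat P.θ x := rfl
@[simp] theorem mat_jEl : mat (jEl P) = jMat := rfl

omit [Fintype F] [CharP F 2] in
theorem mat_ext {g h : Sz F e} (H : mat g = mat h) : g = h := Subtype.ext (Units.ext H)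

omit [Fintype F] [CharP F 2] in
@[simp] theorem mat_mul (g h : Sz F e) : mat (g * h) = mat g * mat h := rfl

omit [Fintype F] [CharP F 2] in
@[simp] theorem mat_one : mat (1 : Sz F e) = 1 := rfl

theorem uEl_mul (a b a' b' : F) :
    uEl P a b * uEl P a' b' = uEl P (a + a') (b + b' + a * P.θ a') :=
  mat_ext (by simp [uMat_mul P.sq])

theorem uEl_zero : uEl P 0 0 = 1 := mat_ext (by simp [uMat_zero])

theorem uEl_inv (a b : F) : (uEl P a b)⁻¹ = uEl P a (b + a * P.θ a) :=
  inv_eq_of_mul_eq_one_right (by rw [uEl_mul, ← uEl_zero P]; congr 1 <;> grind)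

theorem uEl_inj {a b a' b' : F} (h : uEl P a b = uEl P a' b') : a = a' ∧ b = b' := by
  have h' := congrArg mat h
  simp only [mat_uEl] at h'
  exact ⟨by simpa [uMat] using congrFun (congrFun h' 0) 1,
    by simpa [uMat] using congrFun (congrFun h' 0) 2⟩

theorem dEl_mul (x y : Fˣ) : dEl P x * dEl P y = dEl P (x * y) :=
  mat_ext (by simp [dMat_mul])

theorem dEl_one : dEl P 1 = 1 := mat_ext (by simp [dMat_one])

theorem jEl_mul_self : jEl P * jEl P = 1 := mat_ext (by simp [jMat_mul_jMat])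

theorem jEl_mul_dEl (x : Fˣ) : jEl P * dEl P x = dEl P x⁻¹ * jEl P :=
  mat_ext (by simp [jMat_mul_dMat x.ne_zero])

theorem dEl_mul_uEl (x : Fˣ) (a b : F) :
    dEl P x * uEl P a b = uEl P ((x : F) * x / P.θ x * a) (P.θ x * b) * dEl P x :=
  mat_ext (by simp [dMat_mul_uMat x.ne_zero P.sq])

/-- the Borel subgroup: stabiliser of the first coordinate line -/
def borel : Subgroup (Sz F e) where
  carrier := {g | mat g 1 0 = 0 ∧ mat g 2 0 = 0 ∧ mat g 3 0 = 0}
  mul_mem' := by
    rintro g h ⟨g1, g2, g3⟩ ⟨h1, h2, h3⟩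
    simp [Matrix.mul_apply, Fin.sum_univ_four, g1, g2, g3, h1, h2, h3]
  one_mem' := by simp
  inv_mem' := by
    intro g hg
    have hpow : ∀ n : ℕ, mat (g ^ n) 1 0 = 0 ∧ mat (g ^ n) 2 0 = 0 ∧ mat (g ^ n) 3 0 = 0 := fun n => by
      induction n with
      | zero => simp
      | succ n ih =>
        obtain ⟨g1, g2, g3⟩ := ih
        obtain ⟨h1, h2, h3⟩ := hg
        rw [pow_succ, mat_mul]
        simp [Matrix.mul_apply, Fin.sum_univ_four, g1, g2, g3, h1, h2, h3]
    have : g⁻¹ = g ^ (orderOf g - 1) := inv_eq_of_mul_eq_one_right (by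
      rw [← pow_succ', Nat.sub_add_cancel (orderOf_pos g), pow_orderOf_eq_one])
    rw [this]
    exact hpow _

theorem mem_borel {g : Sz F e} :
    g ∈ borel (F := F) (e := e) ↔ mat g 1 0 = 0 ∧ mat g 2 0 = 0 ∧ mat g 3 0 = 0 := Iff.rfl

theorem uEl_mem_borel (a b : F) : uEl P a b ∈ borel (F := F) (e := e) := by simp [mem_borel, uMat]

theorem dEl_mem_borel (x : Fˣ) : dEl P x ∈ borel (F := F) (e := e) := by simp [mem_borel, dMat]

omit [Fintype F] [CharP F 2] in
theorem mat_mul_inv (g : Sz F e) : mat g⁻¹ * mat g = 1 := by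
  rw [← mat_mul, inv_mul_cancel, mat_one]

theorem borel_form {g : Sz F e} (hg : g ∈ borel (F := F) (e := e)) :
    ∃ (a b : F) (x : Fˣ), g = uEl P a b * dEl P x := by
  obtain ⟨g1, g2, g3⟩ := mem_borel.1 hg
  have h0 : mat g 0 0 ≠ 0 := by
    intro h
    have e0 := congrFun (congrFun (mat_mul_inv g) 0) 0
    simp [Matrix.mul_apply, Fin.sum_univ_four, h, g1, g2, g3] at e0
  set x : Fˣ := Units.mk0 _ h0 with hx
  have hA := rel_mat P (dEl P x⁻¹ * g)
  have hcol : mat (dEl P x⁻¹ * g) 0 0 = 1 ∧ mat (dEl P x⁻¹ * g) 1 0 = 0 ∧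
      mat (dEl P x⁻¹ * g) 2 0 = 0 ∧ mat (dEl P x⁻¹ * g) 3 0 = 0 := by
    simp [Matrix.mul_apply, Fin.sum_univ_four, dMat, g1, g2, g3, hx, h0]
  have he := eq_uMat_of_first_col hA hcol.1 hcol.2.1 hcol.2.2.1 hcol.2.2.2
  refine ⟨(x : F) * x / P.θ x * mat (dEl P x⁻¹ * g) 0 1, P.θ x * mat (dEl P x⁻¹ * g) 0 2, x, ?_⟩
  rw [← dEl_mul_uEl P x (mat (dEl P x⁻¹ * g) 0 1) (mat (dEl P x⁻¹ * g) 0 2)]
  have : dEl P x⁻¹ * g = uEl P (mat (dEl P x⁻¹ * g) 0 1) (mat (dEl P x⁻¹ * g) 0 2) :=
    mat_ext (by rw [mat_uEl]; exact he)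
  rw [← this, ← mul_assoc, dEl_mul, mul_inv_cancel, dEl_one, one_mul]

/-- the column reached by `u(a,b) j` -/
theorem uj_col (a b : F) :
    mat (uEl P a b * jEl P) 0 0 = uMat P.θ a b 0 3 ∧
    mat (uEl P a b * jEl P) 1 0 = uMat P.θ a b 1 3 ∧
    mat (uEl P a b * jEl P) 2 0 = uMat P.θ a b 2 3 ∧ mat (uEl P a b * jEl P) 3 0 = 1 := by
  simp [Matrix.mul_apply, Fin.sum_univ_four, jMat, uMat]

theorem bruhat {g : Sz F e} (hg : g ∉ borel (F := F) (e := e)) :
    ∃ (a b : F), ∃ h ∈ borel (F := F) (e := e), g = uEl P a b * jEl P * h := by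
  rcases first_col P.sq (rel_mat P g) with h | ⟨h4, a, b, c2, c1, c0⟩
  · exact absurd (mem_borel.2 h) hg
  refine ⟨a, b, (uEl P a b * jEl P)⁻¹ * g, ?_, (mul_inv_cancel_left _ _).symm⟩
  rw [mem_borel]
  set y := uEl P a b * jEl P with hy
  obtain ⟨y0, y1, y2, y3⟩ := uj_col P a b
  rw [← hy] at y0 y1 y2 y3
  have key : ∀ i, mat (y⁻¹ * g) i 0 = mat g 3 0 * (1 : Matrix (Fin 4) (Fin 4) F) i 0 := by
    intro i
    rw [← mat_mul_inv y, mat_mul]
    simp only [Matrix.mul_apply, Fin.sum_univ_four, c0, c1, c2, y0, y1, y2, y3]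
    ring
  refine ⟨?_, ?_, ?_⟩ <;> simp [key]

theorem uj_unique {a b a' b' : F} {h : Sz F e} (hh : h ∈ borel (F := F) (e := e))
    (H : uEl P a b * jEl P * h = uEl P a' b' * jEl P) : a = a' ∧ b = b' := by
  obtain ⟨h1, h2, h3⟩ := mem_borel.1 hh
  obtain ⟨y0, y1, y2, y3⟩ := uj_col P a b
  obtain ⟨z0, z1, z2, z3⟩ := uj_col P a' b'
  have H' : ∀ i, mat (uEl P a b * jEl P) i 0 * mat h 0 0 = mat (uEl P a' b' * jEl P) i 0 := by
    intro i
    rw [← H, mat_mul (uEl P a b * jEl P) h]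
    simp [Matrix.mul_apply, Fin.sum_univ_four, h1, h2, h3]
  have e3 := H' 3
  rw [y3, z3, one_mul] at e3
  have e2 := H' 2
  have e1 := H' 1
  rw [y2, z2, e3, mul_one] at e2
  rw [y1, z1, e3, mul_one] at e1
  simp [uMat] at e1 e2
  subst e2
  exact ⟨rfl, by simpa using e1⟩

theorem uj_notMem (a b : F) : uEl P a b * jEl P ∉ borel (F := F) (e := e) := by
  intro h
  obtain ⟨-, -, h3⟩ := mem_borel.1 h
  rw [(uj_col P a b).2.2.2] at h3
  exact one_ne_zero h3

include P in
theorem card_borel : Nat.card ↥(borel (F := F) (e := e)) =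
    Fintype.card F ^ 2 * (Fintype.card F - 1) := by
  have hb : Function.Bijective (fun p : (F × F) × Fˣ =>
      (⟨uEl P p.1.1 p.1.2 * dEl P p.2, mul_mem (uEl_mem_borel P _ _) (dEl_mem_borel P _)⟩ :
        borel (F := F) (e := e))) := by
    constructor
    · rintro ⟨⟨a, b⟩, x⟩ ⟨⟨a', b'⟩, x'⟩ h
      have h' := Subtype.ext_iff.1 h
      simp only at h'
      have h0 := congrFun (congrFun (congrArg mat h') 0) 0
      simp [Matrix.mul_apply, Fin.sum_univ_four, uMat, dMat] at h0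
      obtain rfl : x = x' := Units.ext h0
      obtain ⟨rfl, rfl⟩ := uEl_inj P (mul_right_cancel h')
      rfl
    · rintro ⟨g, hg⟩
      obtain ⟨a, b, x, rfl⟩ := borel_form P hg
      exact ⟨((a, b), x), rfl⟩
  rw [← Nat.card_eq_of_bijective _ hb, Nat.card_prod, Nat.card_prod, Nat.card_units,
    Nat.card_eq_fintype_card]
  ring

theorem exists_rep (x : Sz F e ⧸ borel (F := F) (e := e))
    (hx : x ≠ QuotientGroup.mk 1) : ∃ a b : F, x = QuotientGroup.mk (uEl P a b * jEl P) := by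
  revert hx
  refine QuotientGroup.induction_on x (fun g hg => ?_)
  have : g ∉ borel (F := F) (e := e) := fun h => hg (QuotientGroup.eq.2 (by simpa using h))
  obtain ⟨a, b, h, hh, rfl⟩ := bruhat P this
  exact ⟨a, b, QuotientGroup.eq.2 (by simpa [mul_assoc] using inv_mem hh)⟩

theorem rep_inj {a b a' b' : F}
    (H : (QuotientGroup.mk (uEl P a b * jEl P) : Sz F e ⧸ borel (F := F) (e := e)) =
      QuotientGroup.mk (uEl P a' b' * jEl P)) : a = a' ∧ b = b' :=
  uj_unique P (QuotientGroup.eq.1 H) (mul_inv_cancel_left _ _)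

include P in
theorem index_borel : (borel (F := F) (e := e)).index = Fintype.card F ^ 2 + 1 := by
  classical
  have hb : Function.Bijective (fun o : Option (F × F) =>
      (o.elim (QuotientGroup.mk 1) (fun p => QuotientGroup.mk (uEl P p.1 p.2 * jEl P)) :
        Sz F e ⧸ borel (F := F) (e := e))) := by
    constructor
    · rintro (_ | ⟨a, b⟩) (_ | ⟨a', b'⟩) h <;> simp only [Option.elim] at h
      · rfl
      · exact absurd (by simpa using QuotientGroup.eq.1 h) (uj_notMem P a' b')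
      · exact absurd (by simpa using QuotientGroup.eq.1 h.symm) (uj_notMem P a b)
      · obtain ⟨rfl, rfl⟩ := rep_inj P h; rfl
    · intro x
      by_cases hx : x = QuotientGroup.mk 1
      · exact ⟨none, hx.symm⟩
      · obtain ⟨a, b, rfl⟩ := exists_rep P x hx
        exact ⟨some (a, b), rfl⟩
  rw [Subgroup.index, ← Nat.card_eq_of_bijective _ hb, Finite.card_option, Nat.card_prod,
    Nat.card_eq_fintype_card]
  ring

include P in
theorem card_sz : Nat.card ↥(Sz F e) =
    Fintype.card F ^ 2 * (Fintype.card F - 1) * (Fintype.card F ^ 2 + 1) := by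
  rw [← Subgroup.card_mul_index (borel (F := F) (e := e)), card_borel P, index_borel P]

/-- the group of unitriangular elements -/
def unip : Subgroup (Sz F e) where
  carrier := {g | ∃ a b : F, g = uEl P a b}
  mul_mem' := by rintro _ _ ⟨a, b, rfl⟩ ⟨a', b', rfl⟩; exact ⟨_, _, uEl_mul P a b a' b'⟩
  one_mem' := ⟨0, 0, (uEl_zero P).symm⟩
  inv_mem' := by rintro _ ⟨a, b, rfl⟩; exact ⟨_, _, uEl_inv P a b⟩

theorem card_unip : Nat.card ↥(unip P) = Fintype.card F ^ 2 := by
  have hb : Function.Bijective (fun p : F × F => (⟨uEl P p.1 p.2, p.1, p.2, rfl⟩ : unip P)) := by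
    constructor
    · rintro ⟨a, b⟩ ⟨a', b'⟩ h
      obtain ⟨rfl, rfl⟩ := uEl_inj P (Subtype.ext_iff.1 h)
      rfl
    · rintro ⟨g, a, b, rfl⟩
      exact ⟨(a, b), rfl⟩
  rw [← Nat.card_eq_of_bijective _ hb, Nat.card_prod, Nat.card_eq_fintype_card]
  ring

theorem even_card : 2 ∣ Fintype.card F := by
  obtain ⟨n, -, hn⟩ := FiniteField.card F 2
  exact hn ▸ dvd_pow_self 2 n.2.ne'

theorem unip_odd_index : ¬ 2 ∣ (unip P).index := by
  have h1 := Subgroup.card_mul_index (unip P)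
  rw [card_sz P, card_unip P, mul_assoc] at h1
  have h2 := Nat.eq_of_mul_eq_mul_left (pow_pos Fintype.card_pos 2) h1
  rw [h2, Nat.Prime.dvd_mul Nat.prime_two]
  obtain ⟨k, hk⟩ := even_card (F := F)
  have := Fintype.one_lt_card (α := F)
  have hsq : 2 ∣ Fintype.card F ^ 2 := dvd_pow ⟨k, hk⟩ two_ne_zero
  omega

/-- the Sylow 2-subgroup -/
noncomputable def sylowTwo : Sylow 2 ↥(Sz F e) :=
  haveI : Fact (Nat.Prime 2) := ⟨Nat.prime_two⟩
  (IsPGroup.of_card (p := 2) (G := unip P) (n := 2 * (FiniteField.card F 2).choose) (by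
      rw [card_unip P]
      obtain ⟨-, hn⟩ := (FiniteField.card F 2).choose_spec
      conv_lhs => rw [hn]
      rw [← pow_mul, mul_comm])).toSylow (unip_odd_index P)

theorem coe_sylowTwo : (sylowTwo P : Subgroup ↥(Sz F e)) = unip P := rfl

theorem dEl_conj_unip (x : Fˣ) {g : Sz F e} (hg : g ∈ unip P) :
    dEl P x * g * (dEl P x)⁻¹ ∈ unip P := by
  obtain ⟨a, b, rfl⟩ := hg
  exact ⟨_, _, by rw [dEl_mul_uEl, mul_inv_cancel_right]⟩

theorem borel_le_normalizer :
    borel (F := F) (e := e) ≤ Subgroup.normalizer (unip P : Set (Sz F e)) := by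
  refine Subgroup.le_normalizer_iff.2 fun g hg u hu => ?_
  obtain ⟨a, b, x, rfl⟩ := borel_form P hg
  have : uEl P a b ∈ unip P := ⟨a, b, rfl⟩
  rw [show uEl P a b * dEl P x * u * (uEl P a b * dEl P x)⁻¹ =
    uEl P a b * (dEl P x * u * (dEl P x)⁻¹) * (uEl P a b)⁻¹ by group]
  exact mul_mem (mul_mem this (dEl_conj_unip P x hu)) (inv_mem this)

theorem normalizer_unip : Subgroup.normalizer (unip P : Set (Sz F e)) = borel (F := F) (e := e) := by
  refine le_antisymm (fun g hg => ?_) (borel_le_normalizer P)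
  by_contra hgB
  obtain ⟨a, b, h, hh, rfl⟩ := bruhat P hgB
  have hu : uEl P a b ∈ Subgroup.normalizer (unip P : Set (Sz F e)) :=
    borel_le_normalizer P (uEl_mem_borel P a b)
  have hj : jEl P ∈ Subgroup.normalizer (unip P : Set (Sz F e)) := by
    have := mul_mem (mul_mem (inv_mem hu) hg) (inv_mem (borel_le_normalizer P hh))
    simpa [mul_assoc] using this
  have h1 := (Subgroup.mem_normalizer_iff.1 hj (uEl P 1 0)).1 ⟨1, 0, rfl⟩
  rw [inv_eq_of_mul_eq_one_right (jEl_mul_self P)] at h1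
  obtain ⟨a', b', h'⟩ := h1
  have := congrFun (congrFun (congrArg mat h') 3) 2
  simp [Matrix.mul_apply, Fin.sum_univ_four, uMat, jMat] at this

include P in
theorem two_transitive :
    MulAction.IsMultiplyPretransitive (Sz F e) (Sz F e ⧸ borel (F := F) (e := e)) 2 := by
  rw [MulAction.is_two_pretransitive_iff]
  have main : ∀ x y : Sz F e ⧸ borel (F := F) (e := e), x ≠ y →
      ∃ g : Sz F e, g • (QuotientGroup.mk 1 : Sz F e ⧸ borel (F := F) (e := e)) = x ∧
        g • (QuotientGroup.mk (jEl P) : Sz F e ⧸ borel (F := F) (e := e)) = y := by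
    intro x
    refine QuotientGroup.induction_on x (fun g y hne => ?_)
    have hne' : g⁻¹ • y ≠ QuotientGroup.mk 1 := fun h => hne (by
      rw [inv_smul_eq_iff, MulAction.Quotient.smul_mk, smul_eq_mul, mul_one] at h
      exact h.symm)
    obtain ⟨a, b, hab⟩ := exists_rep P _ hne'
    refine ⟨g * uEl P a b, ?_, ?_⟩
    · rw [MulAction.Quotient.smul_mk, smul_eq_mul, mul_one]
      exact QuotientGroup.eq.2 (by simpa using inv_mem (uEl_mem_borel P a b))
    · rw [MulAction.Quotient.smul_mk, smul_eq_mul, mul_assoc, ← smul_eq_mul,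
        ← MulAction.Quotient.smul_mk, ← hab, smul_inv_smul]
  intro x y x' y' hxy hxy'
  obtain ⟨g, hg1, hg2⟩ := main x y hxy
  obtain ⟨g', hg1', hg2'⟩ := main x' y' hxy'
  exact ⟨g' * g⁻¹, by rw [mul_smul, ← hg1, inv_smul_smul, hg1'],
    by rw [mul_smul, ← hg2, inv_smul_smul, hg2']⟩

theorem unip_regular (x y : Sz F e ⧸ borel (F := F) (e := e))
    (hx : x ≠ QuotientGroup.mk 1) (hy : y ≠ QuotientGroup.mk 1) :
    ∃! s : ↥(unip P), (s : Sz F e) • x = y := by
  obtain ⟨a, b, rfl⟩ := exists_rep P x hx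
  obtain ⟨a', b', rfl⟩ := exists_rep P y hy
  refine ⟨⟨uEl P a' b' * (uEl P a b)⁻¹, mul_mem ⟨a', b', rfl⟩ (inv_mem ⟨a, b, rfl⟩)⟩, ?_, ?_⟩
  · show (uEl P a' b' * (uEl P a b)⁻¹) • (QuotientGroup.mk (uEl P a b * jEl P) :
      Sz F e ⧸ borel (F := F) (e := e)) = _
    rw [MulAction.Quotient.smul_mk, smul_eq_mul, mul_assoc, inv_mul_cancel_left]
  · rintro ⟨s, c, d, rfl⟩ hs
    apply Subtype.ext
    have hs' : uEl P c d • (QuotientGroup.mk (uEl P a b * jEl P) :
        Sz F e ⧸ borel (F := F) (e := e)) = QuotientGroup.mk (uEl P a' b' * jEl P) := hs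
    rw [MulAction.Quotient.smul_mk, smul_eq_mul, ← mul_assoc, uEl_mul] at hs'
    obtain ⟨e1, e2⟩ := rep_inj P hs'
    show uEl P c d = uEl P a' b' * (uEl P a b)⁻¹
    rw [eq_mul_inv_iff_mul_eq, uEl_mul, e1, e2]

include P in
open scoped commutatorElement in
theorem commutator_eq_top (hq : 2 < Fintype.card F) : commutator ↥(Sz F e) = ⊤ := by
  obtain ⟨l, hl⟩ : ∃ x : Fˣ, x ≠ 1 := by
    have : 1 < Nat.card Fˣ := by rw [Nat.card_units, Nat.card_eq_fintype_card]; omega
    haveI := Finite.one_lt_card_iff_nontrivial.1 this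
    exact exists_ne 1
  have hl1 : (l : F) ≠ 1 := fun h => hl (Units.ext h)
  have hl0 : P.θ (l : F) ≠ 0 := by simp
  have hth : P.θ (l : F) + 1 ≠ 0 := fun h => hl1 (P.θ.injective (by rw [map_one]; grind))
  have hmu : (l : F) * l / P.θ l + 1 ≠ 0 := by
    intro h
    have h1 : P.θ (l : F) = (l : F) ^ 2 := by field_simp at h; grind
    have h2 := congrArg P.θ h1
    rw [P.sq, map_pow, h1] at h2
    have h3 : (l : F) ^ 2 = 1 := by
      have : (l : F) ^ 2 * ((l : F) ^ 2 - 1) = 0 := by linear_combination -h2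
      rcases mul_eq_zero.1 this with h | h
      · simp at h
      · exact sub_eq_zero.1 h
    exact hl1 (by grind)
  set D := commutator ↥(Sz F e) with hD
  have hcom : ∀ g h : Sz F e, g * h * g⁻¹ * h⁻¹ ∈ D := fun g h =>
    Subgroup.commutator_mem_commutator (Subgroup.mem_top g) (Subgroup.mem_top h)
  have key : ∀ a b : F, uEl P ((((l : F) * l / P.θ l) + 1) * a)
      (P.θ l * b + (b + a * P.θ a) + (l : F) * l / P.θ l * a * P.θ a) ∈ D := by
    intro a b
    have := hcom (dEl P l) (uEl P a b)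
    rw [dEl_mul_uEl, mul_inv_cancel_right, uEl_inv, uEl_mul] at this
    rwa [add_mul, one_mul]
  have hcent : ∀ b, uEl P 0 b ∈ D := by
    intro b
    have := key 0 (b / (P.θ l + 1))
    simp only [mul_zero, zero_mul, add_zero, map_zero] at this
    convert this using 2
    field_simp
  have hU : ∀ a b, uEl P a b ∈ D := by
    intro a b
    have h1 := key (a / ((l : F) * l / P.θ l + 1)) 0
    rw [mul_div_cancel₀ _ hmu] at h1
    generalize hc : P.θ (l : F) * 0 + _ + _ = c at h1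
    have := mul_mem h1 (hcent (b + c))
    rw [uEl_mul] at this
    convert this using 2 <;> simp <;> grind
  have hle : unip P ≤ D := by rintro _ ⟨a, b, rfl⟩; exact hU a b
  have hodd : ¬ 2 ∣ D.index := fun h => unip_odd_index P (h.trans (Subgroup.index_dvd_of_le hle))
  haveI : D.Normal := by rw [hD]; infer_instance
  haveI hcm : IsMulCommutative (Sz F e ⧸ D) := ⟨⟨fun x y => by
    refine QuotientGroup.induction_on x (fun g => ?_)
    refine QuotientGroup.induction_on y (fun h => ?_)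
    rw [← QuotientGroup.mk_mul, ← QuotientGroup.mk_mul, QuotientGroup.eq]
    convert hcom h⁻¹ g⁻¹ using 1
    group⟩⟩
  have hsq : ∀ g : Sz F e, g * g ∈ D → g ∈ D := by
    intro g hg
    rw [← QuotientGroup.eq_one_iff] at hg ⊢
    rw [QuotientGroup.mk_mul] at hg
    set x : Sz F e ⧸ D := QuotientGroup.mk g
    have h1 : orderOf x ∣ 2 := orderOf_dvd_of_pow_eq_one (by rw [pow_two, hg])
    rcases (Nat.dvd_prime Nat.prime_two).1 h1 with h | h
    · exact orderOf_eq_one_iff.1 h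
    · exact absurd (h ▸ orderOf_dvd_natCard x) hodd
  have hjD : jEl P ∈ D := hsq _ (by rw [jEl_mul_self]; exact one_mem D)
  have hdD : ∀ x : Fˣ, dEl P x ∈ D := by
    intro x
    apply hsq
    have h1 : jEl P * dEl P x * (jEl P)⁻¹ * (dEl P x)⁻¹ ∈ D := hcom _ _
    have hinv : (dEl P x)⁻¹ = dEl P x⁻¹ :=
      inv_eq_of_mul_eq_one_right (by rw [dEl_mul, mul_inv_cancel, dEl_one])
    rw [jEl_mul_dEl, mul_inv_cancel_right, ← hinv] at h1
    have := inv_mem h1
    simpa using this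
  rw [eq_top_iff]
  intro g _
  by_cases hg : g ∈ borel (F := F) (e := e)
  · obtain ⟨a, b, x, rfl⟩ := borel_form P hg
    exact mul_mem (hU a b) (hdD x)
  · obtain ⟨a, b, h, hh, rfl⟩ := bruhat P hg
    obtain ⟨a', b', x, rfl⟩ := borel_form P hh
    exact mul_mem (mul_mem (hU a b) hjD) (mul_mem (hU a' b') (hdD x))

include P in
theorem core_borel {g : Sz F e} (h : ∀ k : Sz F e, k * g * k⁻¹ ∈ borel (F := F) (e := e)) : g = 1 := by
  have hg : g ∈ borel (F := F) (e := e) := by simpa using h 1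
  obtain ⟨a, b, x, rfl⟩ := borel_form P hg
  have hfix : ∀ a' b' : F, (uEl P a b * dEl P x) • (QuotientGroup.mk (uEl P a' b' * jEl P) :
      Sz F e ⧸ borel (F := F) (e := e)) = QuotientGroup.mk (uEl P a' b' * jEl P) := by
    intro a' b'
    rw [MulAction.Quotient.smul_mk, smul_eq_mul, QuotientGroup.eq]
    have := inv_mem (h (uEl P a' b' * jEl P)⁻¹)
    convert this using 1
    group
  have hpull : ∀ a' b' : F, (uEl P (a + (x : F) * x / P.θ x * a')
      (b + P.θ x * b' + a * P.θ ((x : F) * x / P.θ x * a'))) = uEl P a' b' := by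
    intro a' b'
    have h1 := hfix a' b'
    rw [MulAction.Quotient.smul_mk, smul_eq_mul] at h1
    have e1 : uEl P a b * dEl P x * (uEl P a' b' * jEl P) =
        uEl P a b * uEl P ((x : F) * x / P.θ x * a') (P.θ x * b') * jEl P * dEl P x⁻¹ := by
      have e2 : jEl P * dEl P x⁻¹ = dEl P x * jEl P := by rw [jEl_mul_dEl, inv_inv]
      calc uEl P a b * dEl P x * (uEl P a' b' * jEl P)
          = uEl P a b * (dEl P x * uEl P a' b') * jEl P := by group
        _ = uEl P a b * uEl P ((x : F) * x / P.θ x * a') (P.θ x * b') * (dEl P x * jEl P) := by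
          rw [dEl_mul_uEl]; group
        _ = _ := by rw [← e2]; group
    rw [e1, uEl_mul] at h1
    have h2 : (QuotientGroup.mk (uEl P (a + (x : F) * x / P.θ x * a')
        (b + P.θ x * b' + a * P.θ ((x : F) * x / P.θ x * a')) * jEl P) :
        Sz F e ⧸ borel (F := F) (e := e)) = QuotientGroup.mk (uEl P a' b' * jEl P) := by
      rw [← h1, QuotientGroup.eq, inv_mul_cancel_left]
      exact dEl_mem_borel P _
    obtain ⟨r1, r2⟩ := rep_inj P h2
    rw [r1, r2]
  obtain ⟨ha, hb⟩ := uEl_inj P (hpull 0 0)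
  simp at ha hb
  subst ha
  obtain ⟨-, hx⟩ := uEl_inj P (hpull 0 1)
  simp at hx hb
  subst hb
  simp at hx
  obtain rfl : x = 1 := Units.ext (P.θ.injective (by rw [hx]; simp))
  rw [uEl_zero, dEl_one, one_mul]

include P in
theorem isSimple (hq : 2 < Fintype.card F) : IsSimpleGroup ↥(Sz F e) := by
  haveI : Nontrivial ↥(Sz F e) := ⟨⟨jEl P, 1, fun h => by
    have := congrFun (congrFun (congrArg mat h) 0) 0
    simp [jMat] at this⟩⟩
  refine ⟨fun N hN => ?_⟩
  haveI := hN
  by_cases hle : N ≤ borel (F := F) (e := e)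
  · left
    rw [eq_bot_iff]
    intro g hg
    exact Subgroup.mem_bot.2 (core_borel P fun k => hle (hN.conj_mem g hg k))
  right
  obtain ⟨n, hn, hnB⟩ := SetLike.not_le_iff_exists.1 hle
  have htrans : ∀ g : Sz F e, ∃ k ∈ N, ∃ h ∈ borel (F := F) (e := e), g = k * h := by
    intro g
    by_cases hg : g ∈ borel (F := F) (e := e)
    · exact ⟨1, N.one_mem, g, hg, (one_mul g).symm⟩
    obtain ⟨a, b, hb, hhb, rfl⟩ := bruhat P hg
    obtain ⟨a', b', hb', hhb', rfl⟩ := bruhat P hnB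
    set u := uEl P a b * (uEl P a' b')⁻¹ with hu
    refine ⟨u * (uEl P a' b' * jEl P * hb') * u⁻¹, hN.conj_mem _ hn u, u * hb'⁻¹ * hb, ?_, ?_⟩
    · exact mul_mem (mul_mem (mul_mem (uEl_mem_borel P _ _) (inv_mem (uEl_mem_borel P _ _)))
        (inv_mem hhb')) hhb
    · rw [hu]; group
  let φ : borel (F := F) (e := e) →* Sz F e ⧸ N :=
    (QuotientGroup.mk' N).comp (borel (F := F) (e := e)).subtype
  have hφ : Function.Surjective φ := by
    intro y
    refine QuotientGroup.induction_on y (fun g => ?_)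
    obtain ⟨k, hk, h, hh, rfl⟩ := htrans g
    refine ⟨⟨h, hh⟩, ?_⟩
    show QuotientGroup.mk h = QuotientGroup.mk (k * h)
    rw [QuotientGroup.mk_mul, (QuotientGroup.eq_one_iff k).2 hk, one_mul]
  haveI : Group.IsSolvable ↥(borel (F := F) (e := e)) := by
    let f : ↥(borel (F := F) (e := e)) →* F :=
      { toFun := fun g => mat (g : Sz F e) 0 0
        map_one' := by simp
        map_mul' := fun g h => by
          obtain ⟨h1, h2, h3⟩ := mem_borel.1 h.2
          simp [Matrix.mul_apply, Fin.sum_univ_four, h1, h2, h3] }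
    haveI : Fact (Nat.Prime 2) := ⟨Nat.prime_two⟩
    haveI : Group.IsSolvable ↥((unip P).subgroupOf (borel (F := F) (e := e))) := by
      have hp : IsPGroup 2 ↥((unip P).subgroupOf (borel (F := F) (e := e))) :=
        (sylowTwo P).isPGroup'.of_injective
          ((Subgroup.subgroupOfEquivOfLe (fun g hg => by
            obtain ⟨a, b, rfl⟩ := hg; exact uEl_mem_borel P a b)).toMonoidHom)
          (MulEquiv.injective _)
      haveI := hp.isNilpotent
      infer_instance
    refine Group.isSolvable_of_ker_le_range ((unip P).subgroupOf (borel (F := F) (e := e))).subtype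
      f.toHomUnits ?_
    intro g hg
    rw [Subgroup.range_subtype, Subgroup.mem_subgroupOf]
    have h00 : mat (g : Sz F e) 0 0 = 1 := congrArg Units.val (MonoidHom.mem_ker.1 hg)
    obtain ⟨a, b, x, hx⟩ := borel_form P g.2
    rw [hx] at h00 ⊢
    simp [Matrix.mul_apply, Fin.sum_univ_four, uMat, dMat] at h00
    subst h00
    rw [dEl_one, mul_one]
    exact ⟨a, b, rfl⟩
  haveI : Group.IsSolvable (Sz F e ⧸ N) := Group.isSolvable_of_surjective hφ
  by_contra htop
  haveI : Nontrivial (Sz F e ⧸ N) := QuotientGroup.nontrivial_iff.2 htop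
  have h1 := Group.IsSolvable.commutator_lt_top_of_nontrivial (Sz F e ⧸ N)
  rw [commutator_def, ← Subgroup.map_top_of_surjective (QuotientGroup.mk' N) (QuotientGroup.mk'_surjective N),
    ← Subgroup.map_commutator, ← commutator_def, commutator_eq_top P hq] at h1
  exact lt_irrefl _ h1

end CfsgLib.SuzukiGroup
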