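import Cfsg.Agent.Lib.SuzukiGroup.SubgroupBasic

/-!
# Suzuki's theorem on the subgroups of `Sz(q)`

`subgroup_cases`: a subgroup is contained in the normaliser of a Sylow `2`-subgroup or of a maximal
torus, or is conjugate to a subfield group `Sz(s)`, `s ≥ 8`.
-/

set_option autoImplicit false

open scoped MatrixGroups Matrix Pointwise

namespace CfsgLib.SuzukiGroup

open Cfsg.Lie

variable {F : Type*} [Field F] [Fintype F] [CharP F 2] {m : ℕ}
  (P : Params F (2 ^ (m + 1))) (hF : Fintype.card F = 2 ^ (2 * m + 1)) (hm : 1 ≤ m)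

omit [CharP F 2] in
lemma theta_root (L : Subfield F) {x : F} (hx : P.θ x ∈ L) : x ∈ L := by
  have hinj : Function.Injective (fun c : ↥L => (⟨P.θ (c : F), theta_mem P L c.2⟩ : ↥L)) :=
    fun c d h => Subtype.ext (P.θ.injective (congrArg Subtype.val h))
  obtain ⟨c, hc⟩ := (Finite.injective_iff_bijective.1 hinj).2 ⟨_, hx⟩
  rw [← P.θ.injective (congrArg Subtype.val hc)]
  exact c.2

omit [CharP F 2] in
lemma theta_eq_of_scale {x : F} (hx : x ≠ 0) : P.θ x = x * x / P.θ x * P.θ (x * x / P.θ x) := by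
  have hθ : P.θ x ≠ 0 := by simpa using hx
  rw [map_div₀, map_mul, P.sq]
  field_simp

omit [CharP F 2] in
lemma exists_scale (L : Subfield F) {k : F} (hk : k ∈ L) (hk0 : k ≠ 0) :
    ∃ x : Fˣ, (x : F) ∈ L ∧ (x : F) * x / P.θ x = k := by
  obtain ⟨y, hy⟩ := (theta_bijective P).2 (k * P.θ k)
  have hy0 : y ≠ 0 := fun e => mul_ne_zero hk0 (show P.θ k ≠ 0 by simpa using hk0) (by rw [← hy, e, map_zero])
  refine ⟨Units.mk0 y hy0, theta_root P L (hy ▸ L.mul_mem hk (theta_mem P L hk)), ?_⟩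
  exact theta_mul_inj P ((theta_eq_of_scale P hy0).symm.trans hy)

lemma uEl_div (a b b' : F) : (uEl P a b)⁻¹ * uEl P a b' = uEl P 0 (b + b') := by
  rw [uEl_inv, uEl_mul, CharTwo.add_self_eq_zero]
  congr 1
  linear_combination (a * P.θ a) * (CharTwo.two_eq_zero (R := F))

section main

variable {M : Subgroup ↥(Sz F (2 ^ (m + 1)))} (fr : Frame P M)

include fr in
lemma dEl_conj_mem (hdia : ∀ x : Fˣ, (x : F) ∈ fr.L → dEl P x ∈ M) {x : Fˣ} (hx : (x : F) ∈ fr.L)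
    {a b : F} (h : uEl P a b ∈ M) : uEl P ((x : F) * x / P.θ x * a) (P.θ x * b) ∈ M := by
  have := mul_mem (mul_mem (hdia x hx) h) (inv_mem (hdia x hx))
  rwa [dEl_mul_uEl, mul_inv_cancel_right] at this

include hF hm in
/-- the size of the parameter field is at least eight unless the subgroup is local -/
lemma frame_l_ge (hloc : ¬ Local M) (h01 : uEl P 0 1 ∈ M) : 3 ≤ fr.l := by
  by_contra hlt
  have hodd : Odd fr.l := Odd.of_dvd_nat ⟨m, rfl⟩ fr.l_dvd
  have hl : fr.l = 1 := by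
    rw [Nat.odd_iff] at hodd; omega
  have hL : ∀ a ∈ fr.L, a = 0 ∨ a = 1 := by
    intro a ha
    by_contra hne
    rw [not_or] at hne
    classical
    haveI : Fintype ↥fr.L := Fintype.ofFinite _
    have hc : Fintype.card ↥fr.L = 2 := by rw [← Nat.card_eq_fintype_card, fr.card_L, hl]; rfl
    have h3 : ({0, 1, ⟨a, ha⟩} : Finset ↥fr.L).card = 3 :=
      Finset.card_eq_three.2 ⟨0, 1, ⟨a, ha⟩, zero_ne_one,
        fun e => hne.1 (congrArg Subtype.val e).symm, fun e => hne.2 (congrArg Subtype.val e).symm, rfl⟩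
    have := Finset.card_le_univ ({0, 1, ⟨a, ha⟩} : Finset ↥fr.L)
    omega
  haveI : Fact (Nat.Prime 2) := ⟨Nat.prime_two⟩
  set T := (unip P).subgroupOf M with hT
  obtain ⟨g, hgM, hgU, hgen⟩ : ∃ g ∈ M, g ∈ unip P ∧
      ∀ x ∈ M, x ∈ unip P → x ∈ Subgroup.zpowers g := by
    by_cases hA : ∃ b, uEl P 1 b ∈ M
    · obtain ⟨β, hβ⟩ := hA
      have h01' : uEl P 0 1 = uEl P 1 β ^ 2 := by rw [uEl_sq, map_one, mul_one]
      have hz0 : ∀ b, uEl P 0 b ∈ M → uEl P 0 b ∈ Subgroup.zpowers (uEl P 1 β) := by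
        intro b hb
        rcases hL b ((fr.cen b).1 hb) with rfl | rfl
        · rw [uEl_zero]; exact one_mem _
        · rw [h01']; exact pow_mem (Subgroup.mem_zpowers _) 2
      refine ⟨_, hβ, ⟨1, β, rfl⟩, ?_⟩
      rintro _ hxM ⟨a, b, rfl⟩
      rcases hL a (fr.sq_mem a b hxM) with rfl | rfl
      · exact hz0 b hxM
      · have h := mul_mem (inv_mem hβ) hxM
        rw [uEl_div] at h
        rw [show uEl P 1 b = uEl P 1 β * uEl P 0 (β + b) by rw [← uEl_div P 1 β b, mul_inv_cancel_left]]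
        exact mul_mem (Subgroup.mem_zpowers _) (hz0 _ h)
    · refine ⟨_, h01, ⟨0, 1, rfl⟩, ?_⟩
      rintro _ hxM ⟨a, b, rfl⟩
      rcases hL a (fr.sq_mem a b hxM) with rfl | rfl
      · rcases hL b ((fr.cen b).1 hxM) with rfl | rfl
        · rw [uEl_zero]; exact one_mem _
        · exact Subgroup.mem_zpowers _
      · exact absurd ⟨b, hxM⟩ hA
  have hTz : T = Subgroup.zpowers (⟨g, hgM⟩ : ↥M) := by
    ext x
    constructor
    · intro hx
      obtain ⟨j, hj⟩ := hgen x x.2 hx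
      exact ⟨j, Subtype.ext hj⟩
    · rintro ⟨j, rfl⟩
      exact zpow_mem (show (g : ↥(Sz F (2 ^ (m + 1)))) ∈ unip P from hgU) j
  have hTp : IsPGroup 2 ↥T := by
    intro x
    refine ⟨2, Subtype.ext (Subtype.ext (orderOf_dvd_iff_pow_eq_one.1
      (orderOf_dvd_four P (k := 1) (g := ((x : ↥M) : ↥(Sz F (2 ^ (m + 1))))) ?_)))⟩
    rw [one_mul, inv_one, mul_one]
    exact x.2
  obtain ⟨S, hS⟩ := hTp.exists_le_sylow
  refine hloc (local_of_sylow_two P hF hm S ?_)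
  have hST : (S : Subgroup ↥M) ≤ T := by
    have hu : (⟨_, h01⟩ : ↥M) ∈ (S : Subgroup ↥M) := hS (show uEl P 0 1 ∈ unip P from ⟨0, 1, rfl⟩)
    have hu1 : (⟨_, h01⟩ : ↥M) ≠ 1 := fun e => one_ne_zero ((uEl_eq_one P).1 (congrArg Subtype.val e)).2
    haveI : Nontrivial ↥(S : Subgroup ↥M) := ⟨⟨⟨_, hu⟩, 1, fun e => hu1 (congrArg Subtype.val e)⟩⟩
    haveI := S.2.center_nontrivial
    obtain ⟨⟨z, hzc⟩, hz⟩ := exists_ne (1 : ↥(Subgroup.center ↥(S : Subgroup ↥M)))
    rw [Subgroup.mem_center_iff] at hzc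
    have hz1 : ((z : ↥M) : ↥(Sz F (2 ^ (m + 1)))) ≠ 1 := fun e => hz (Subtype.ext (Subtype.ext (Subtype.ext e)))
    have hzU := centralizer_le_unip P (show uEl P 0 1 ∈ unip P from ⟨0, 1, rfl⟩)
      (fun e => one_ne_zero ((uEl_eq_one P).1 e).2) (Subgroup.mem_centralizer_singleton_iff.2
        (congrArg (fun w : ↥(S : Subgroup ↥M) => ((w : ↥M) : ↥(Sz F (2 ^ (m + 1))))) (hzc ⟨_, hu⟩)).symm)
    intro x hx
    exact centralizer_le_unip P hzU hz1 (Subgroup.mem_centralizer_singleton_iff.2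
      (congrArg (fun w : ↥(S : Subgroup ↥M) => ((w : ↥M) : ↥(Sz F (2 ^ (m + 1))))) (hzc ⟨x, hx⟩)))
  rw [le_antisymm hST hS, hTz]
  infer_instance

/-- the arithmetic of the two-class case -/
lemma arith_two {z j s D : ℤ} (hz : 8 ≤ z) (hz2 : ∃ w, z = 2 * w) (hj : 0 ≤ j) (hD : 0 ≤ D)
    (hs : s = z + 1 + j * (z ^ 2 - 2))
    (hDs : D ^ 2 = s ^ 2 - 1 - z ^ 2 - z ^ 2 * (z - 1) * j) : j = 0 := by
  by_contra hne
  have hj1 : 1 ≤ j := by omega
  obtain ⟨δ, rfl⟩ : ∃ δ, D = (z ^ 2 - 2) * j + δ := ⟨D - (z ^ 2 - 2) * j, by ring⟩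
  have he : 0 < z ^ 2 - 2 := by nlinarith
  set A := z ^ 3 + 3 * z ^ 2 - 4 * z - 4 with hA
  have key : δ ^ 2 - 2 * z = j * (A - 2 * (z ^ 2 - 2) * δ) := by
    subst hs
    rw [hA]
    linear_combination hDs
  rcases lt_or_ge δ 0 with hneg | hpos
  · -- `δ < 0`
    have h1 : -δ ≤ (z ^ 2 - 2) * j := by omega
    have h2 : 0 < A := by rw [hA]; nlinarith
    have h3 : δ ^ 2 ≤ (z ^ 2 - 2) * j * (-δ) := by nlinarith
    nlinarith
  rcases le_or_gt (z + 4) (2 * δ) with hbig | hsmall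
  · have h1 : A - 2 * (z ^ 2 - 2) * δ < 0 := by
      have : (z ^ 2 - 2) * (z + 4) ≤ (z ^ 2 - 2) * (2 * δ) := mul_le_mul_of_nonneg_left hbig he.le
      rw [hA]; nlinarith
    have h2 : 0 < δ ^ 2 - 2 * z := by nlinarith
    nlinarith
  · obtain ⟨w, hw⟩ := hz2
    have hle : 2 * δ ≤ z + 2 := by omega
    have h1 : z * (z - 2) ≤ A - 2 * (z ^ 2 - 2) * δ := by
      have : (z ^ 2 - 2) * (2 * δ) ≤ (z ^ 2 - 2) * (z + 2) := mul_le_mul_of_nonneg_left hle he.le
      rw [hA]; nlinarith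
    have h2 : 4 * δ ^ 2 ≤ (z + 2) ^ 2 := by nlinarith
    have h0 : 0 < z * (z - 2) := mul_pos (by omega) (by omega)
    have h3 : z * (z - 2) ≤ j * (A - 2 * (z ^ 2 - 2) * δ) :=
      h1.trans (le_mul_of_one_le_left (h0.le.trans h1) hj1)
    nlinarith [key]

include hF hm in
/-- A normalised non-local subgroup is the subfield group. -/
theorem eq_subGroup (hloc : ¬ Local M) (h01 : uEl P 0 1 ∈ M)
    (hdia : ∀ x : Fˣ, (x : F) ∈ fr.L → dEl P x ∈ M) :
    8 ≤ Nat.card ↥fr.L ∧ M = subGroup (e := 2 ^ (m + 1)) fr.L := by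
  classical
  have hl3 := frame_l_ge P hF hm fr hloc h01
  have hodd : Odd fr.l := Odd.of_dvd_nat ⟨m, rfl⟩ fr.l_dvd
  set L := fr.L
  set z := Nat.card ↥L with hzdef
  have hz8 : 8 ≤ z := by
    rw [hzdef, fr.card_L]
    exact (show 8 = 2 ^ 3 from rfl) ▸ Nat.pow_le_pow_right (by norm_num) hl3
  refine ⟨hz8, ?_⟩
  haveI : Fact (Nat.Prime 2) := ⟨Nat.prime_two⟩
  have hOM := (oddTI P hF hm).subgroup M
  set T := (unip P).subgroupOf M with hTdef
  have hT2 : ∀ u ∈ T, orderOf u ∣ 4 := by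
    intro u hu
    rw [← Subgroup.orderOf_coe]
    exact orderOf_dvd_four P (k := 1) (by rw [one_mul, inv_one, mul_one]; exact hu)
  have hu01 : (⟨_, h01⟩ : ↥M) ∈ T := (show uEl P 0 1 ∈ unip P from ⟨0, 1, rfl⟩)
  have hu01' : uEl P 0 1 ≠ 1 := fun e => one_ne_zero ((uEl_eq_one P).1 e).2
  have hN : Subgroup.normalizer (T : Set ↥M) = (borel (F := F) (e := 2 ^ (m + 1))).subgroupOf M := by
    ext x
    constructor
    · intro hx
      exact conj_unip_ne P (show uEl P 0 1 ∈ unip P from ⟨0, 1, rfl⟩) hu01'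
        ((Subgroup.mem_normalizer_iff.1 hx _).1 hu01)
    · intro hx
      refine Subgroup.mem_normalizer_iff.2 fun u => ?_
      exact Subgroup.mem_normalizer_iff.1 (borel_le_normalizer P hx) (u : ↥(Sz F (2 ^ (m + 1))))
  have hTI : ∀ u ∈ T, u ≠ 1 → ∀ k : ↥M, k * u * k⁻¹ ∈ T → k ∈ Subgroup.normalizer (T : Set ↥M) := by
    intro u hu h1 k hk
    rw [hN]
    exact conj_unip_ne P hu (fun e => h1 (Subtype.ext e)) hk
  have hTp : IsPGroup 2 ↥T := fun x => ⟨2, Subtype.ext (by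
    rw [Subgroup.coe_pow, OneMemClass.coe_one, ← orderOf_dvd_iff_pow_eq_one]
    exact hT2 _ x.2)⟩
  -- `T` is a Sylow subgroup of `M`
  obtain ⟨S, hTS⟩ := hTp.exists_le_sylow
  have hST : (S : Subgroup ↥M) = T := by
    refine le_antisymm ?_ hTS
    have hu := hTS hu01
    haveI : Nontrivial ↥(S : Subgroup ↥M) :=
      ⟨⟨⟨_, hu⟩, 1, fun e => hu01' (congrArg (fun w : ↥(S : Subgroup ↥M) => ((w : ↥M) : ↥(Sz F (2 ^ (m + 1))))) e)⟩⟩
    haveI := S.2.center_nontrivial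
    obtain ⟨⟨c, hcc⟩, hc⟩ := exists_ne (1 : ↥(Subgroup.center ↥(S : Subgroup ↥M)))
    rw [Subgroup.mem_center_iff] at hcc
    have hc1 : ((c : ↥M) : ↥(Sz F (2 ^ (m + 1)))) ≠ 1 := fun e => hc (Subtype.ext (Subtype.ext (Subtype.ext e)))
    have hcU := centralizer_le_unip P (show uEl P 0 1 ∈ unip P from ⟨0, 1, rfl⟩) hu01'
      (Subgroup.mem_centralizer_singleton_iff.2
        (congrArg (fun w : ↥(S : Subgroup ↥M) => ((w : ↥M) : ↥(Sz F (2 ^ (m + 1))))) (hcc ⟨_, hu⟩)).symm)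
    intro x hx
    exact centralizer_le_unip P hcU hc1 (Subgroup.mem_centralizer_singleton_iff.2
      (congrArg (fun w : ↥(S : Subgroup ↥M) => ((w : ↥M) : ↥(Sz F (2 ^ (m + 1))))) (hcc ⟨x, hx⟩)))
  have hT : ∀ x : ↥M, x ≠ 1 → orderOf x ∣ 4 → x ∈ conjSet T := by
    intro x h1 h4
    obtain ⟨j, -, hj⟩ := (Nat.dvd_prime_pow Nat.prime_two).1 (show orderOf x ∣ 2 ^ 2 from h4)
    obtain ⟨S', hS'⟩ := (IsPGroup.of_card (p := 2) (G := ↥(Subgroup.zpowers x)) (n := j)
      (by rw [Nat.card_zpowers, hj])).exists_le_sylow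
    obtain ⟨k, hk⟩ := MulAction.exists_smul_eq ↥M S' S
    refine ⟨h1, k, ?_⟩
    rw [← hST, ← hk, Sylow.coe_subgroup_smul]
    exact ⟨x, hS' (Subgroup.mem_zpowers x), rfl⟩
  obtain ⟨w₀, hw₀M, hw₀B⟩ : ∃ w ∈ M, w ∉ borel (F := F) (e := 2 ^ (m + 1)) := by
    by_contra hno
    refine hloc (Or.inl ⟨1, fun x hx => ?_⟩)
    by_contra hxB
    exact hno ⟨x, hx, by simpa using hxB⟩
  set n := (Subgroup.normalizer (T : Set ↥M)).index with hn
  have hn2 : 2 ≤ n := by
    have h0 : n ≠ 0 := Subgroup.index_ne_zero_of_finite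
    have h1 : n ≠ 1 := fun e => by
      rw [hn, Subgroup.index_eq_one, hN] at e
      have : (⟨w₀, hw₀M⟩ : ↥M) ∈ (borel (F := F) (e := 2 ^ (m + 1))).subgroupOf M := by
        rw [e]; exact Subgroup.mem_top _
      exact hw₀B this
    omega
  have hnodd : Odd n := by
    refine Nat.not_even_iff_odd.1 fun he => ?_
    have hd : n ∣ T.index := Subgroup.index_dvd_of_le Subgroup.le_normalizer
    rw [← hST] at hd
    exact S.not_dvd_index (he.two_dvd.trans hd)
  -- the torus part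
  have hunit : ∀ c : (↥L)ˣ, ((Units.map L.subtype.toMonoidHom c : Fˣ) : F) ∈ L := fun c => (c : ↥L).2
  have hcardU : Nat.card (↥L)ˣ = z - 1 := by rw [Nat.card_units]
  set t := Nat.card ↥T with ht
  have hcardN : Nat.card ↥(Subgroup.normalizer (T : Set ↥M)) = t * (z - 1) := by
    rw [hN, ← hcardU, ht, ← Nat.card_prod]
    refine (Nat.card_eq_of_bijective (fun p : ↥T × (↥L)ˣ =>
      (⟨(p.1 : ↥M) * ⟨dEl P (Units.map L.subtype.toMonoidHom p.2), hdia _ (hunit p.2)⟩,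
        mul_mem (unip_le_borel P p.1.2) (dEl_mem_borel P _)⟩ :
        ↥((borel (F := F) (e := 2 ^ (m + 1))).subgroupOf M))) ⟨?_, ?_⟩).symm
    · rintro ⟨⟨⟨u, hu⟩, ⟨a, b, hab⟩⟩, x⟩ ⟨⟨⟨v, hv⟩, ⟨a', b', hab'⟩⟩, y⟩ h
      have h' := congrArg (fun q : ↥((borel (F := F) (e := 2 ^ (m + 1))).subgroupOf M) =>
        ((q : ↥M) : ↥(Sz F (2 ^ (m + 1))))) h
      simp only at h' hab hab'
      change u = uEl P a b at hab
      change v = uEl P a' b' at hab'
      change u * dEl P (Units.map L.subtype.toMonoidHom x) = v * dEl P (Units.map L.subtype.toMonoidHom y) at h'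
      have hxy : Units.map L.subtype.toMonoidHom x = Units.map L.subtype.toMonoidHom y := by
        subst hab hab'
        exact Units.ext (by
          have := congrFun (congrFun (congrArg mat h') 0) 0
          simpa [uMat, dMat, Matrix.mul_apply, Fin.sum_univ_four] using this)
      have hxy' : x = y := Units.map_injective L.subtype_injective hxy
      subst hxy'
      have huv : u = v := mul_right_cancel h'
      subst huv
      rfl
    · rintro ⟨⟨g, hg⟩, hgB⟩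
      obtain ⟨a, b, x, rfl⟩ := borel_form P hgB
      have hx := (fr.dia x).1 ⟨a, b, hg⟩
      have hab : uEl P a b ∈ M := by simpa using mul_mem hg (inv_mem (hdia x hx))
      refine ⟨⟨⟨⟨_, hab⟩, ⟨a, b, rfl⟩⟩, Units.mk0 ⟨x, hx⟩ (fun e => x.ne_zero (congrArg Subtype.val e))⟩,
        Subtype.ext (Subtype.ext ?_)⟩
      show uEl P a b * dEl P _ = uEl P a b * dEl P x
      congr 2
      exact Units.ext rfl
  -- a diagonal element
  obtain ⟨x₀, hx₀, hx₀1⟩ : ∃ x : Fˣ, (x : F) ∈ L ∧ x ≠ 1 := by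
    haveI : Nontrivial (↥L)ˣ := Finite.one_lt_card_iff_nontrivial.1 (by rw [hcardU]; omega)
    obtain ⟨c, hc⟩ := exists_ne (1 : (↥L)ˣ)
    exact ⟨_, hunit c, fun e => hc (Units.map_injective L.subtype_injective (e.trans (map_one _).symm))⟩
  set d : ↥M := ⟨dEl P x₀, hdia x₀ hx₀⟩ with hd
  have hd4 : ¬ orderOf d ∣ 4 := by
    intro h4
    rw [← Subgroup.orderOf_coe] at h4
    exact hx₀1 (borel_decomp_mem_unip P (a := 0) (b := 0) (by
      rw [uEl_zero, one_mul]; exact mem_unip_of_even P hF hm (dEl_mem_borel P x₀) h4))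
  have hCd : Subgroup.centralizer {d} = (torus P).subgroupOf M := by
    rw [centralizer_subgroupOf, show ((d : ↥M) : ↥(Sz F (2 ^ (m + 1)))) = dEl P x₀ from rfl,
      centralizer_dEl P hx₀1]
  have hdC : Nat.card ↥(Subgroup.centralizer {d}) = z - 1 := by
    rw [hCd, ← hcardU]
    refine (Nat.card_eq_of_bijective (fun c : (↥L)ˣ =>
      (⟨⟨dEl P (Units.map L.subtype.toMonoidHom c), hdia _ (hunit c)⟩, dEl_mem_torus P _⟩ :
        ↥((torus P).subgroupOf M))) ⟨?_, ?_⟩).symm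
    · intro c c' h
      exact Units.map_injective L.subtype_injective (dEl_inj P
        (congrArg (fun q : ↥((torus P).subgroupOf M) => ((q : ↥M) : ↥(Sz F (2 ^ (m + 1))))) h))
    · rintro ⟨⟨g, hg⟩, hgT⟩
      obtain ⟨x, rfl⟩ := (mem_torus P).1 hgT
      have hx := (fr.dia x).1 ⟨0, 0, by rwa [uEl_zero, one_mul]⟩
      refine ⟨Units.mk0 ⟨x, hx⟩ (fun e => x.ne_zero (congrArg Subtype.val e)), Subtype.ext (Subtype.ext ?_)⟩
      show dEl P _ = dEl P x
      congr 1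
      exact Units.ext rfl
  have hq : 2 < Fintype.card F := by have := eight_le hF hm; omega
  have hdsplit : ∀ x ∈ Subgroup.normalizer (Subgroup.centralizer {d} : Set ↥M),
      (x : ↥(Sz F (2 ^ (m + 1)))) ∈ torus P ∨ jEl P * (x : ↥(Sz F (2 ^ (m + 1)))) ∈ torus P := by
    intro x hx
    refine (mem_normalizer_torus P hq).1 (torus_TI P (dEl_mem_torus P x₀)
      (fun e => hx₀1 ((dEl_eq_one P).1 e)) _ ?_)
    have := (Subgroup.mem_normalizer_iff.1 hx d).1 (mem_centralizer_self d)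
    rw [hCd] at this
    exact this
  have hdN : Nat.card ↥(Subgroup.normalizer (Subgroup.centralizer {d} : Set ↥M)) ≤ 2 * (z - 1) := by
    rw [← hdC]
    by_cases hw : ∃ w ∈ Subgroup.normalizer (Subgroup.centralizer {d} : Set ↥M),
        (w : ↥(Sz F (2 ^ (m + 1)))) ∉ torus P
    · obtain ⟨w, hwN, hwT⟩ := hw
      refine le_of_le_of_eq (Nat.card_le_card_of_surjective (fun p : Bool × ↥(Subgroup.centralizer {d}) =>
        (⟨(cond p.1 w 1) * (p.2 : ↥M), mul_mem (by cases p.1; exacts [one_mem _, hwN])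
          (Subgroup.le_normalizer p.2.2)⟩ : ↥(Subgroup.normalizer (Subgroup.centralizer {d} : Set ↥M)))) ?_)
        (by rw [Nat.card_prod]; simp)
      rintro ⟨x, hx⟩
      by_cases hxT : (x : ↥(Sz F (2 ^ (m + 1)))) ∈ torus P
      · exact ⟨(false, ⟨x, hCd ▸ hxT⟩), Subtype.ext (one_mul x)⟩
      · have h1 := (hdsplit w hwN).resolve_left hwT
        have h2 := (hdsplit x hx).resolve_left hxT
        have h3 : ((w⁻¹ * x : ↥M) : ↥(Sz F (2 ^ (m + 1)))) ∈ torus P := by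
          have := mul_mem (inv_mem h1) h2
          rwa [mul_inv_rev, mul_assoc, inv_mul_cancel_left] at this
        exact ⟨(true, ⟨w⁻¹ * x, hCd ▸ h3⟩), Subtype.ext (mul_inv_cancel_left w x)⟩
    · have hle : Subgroup.normalizer (Subgroup.centralizer {d} : Set ↥M) ≤ Subgroup.centralizer {d} := by
        intro x hx
        rw [hCd]
        by_contra hxT
        exact hw ⟨x, hx, hxT⟩
      exact (Subgroup.card_le_of_le hle).trans (Nat.le_mul_of_pos_left _ (by norm_num))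
  have hdvdn : n ∣ Nat.card ↥M := hn ▸ Subgroup.index_dvd_card _
  -- shape of `T`
  by_cases hA : ∀ a b : F, uEl P a b ∈ M → a = 0
  · -- `T` elementary: impossible
    exfalso
    have htz : t = z := by
      rw [ht, hzdef]
      refine (Nat.card_eq_of_bijective (fun b : ↥L =>
        (⟨⟨uEl P 0 (b : F), (fr.cen _).2 b.2⟩, ⟨0, b, rfl⟩⟩ : ↥T)) ⟨?_, ?_⟩).symm
      · intro b c h
        exact Subtype.ext (uEl_inj P (congrArg (fun q : ↥T => ((q : ↥M) : ↥(Sz F (2 ^ (m + 1))))) h)).2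
      · rintro ⟨⟨g, hg⟩, ⟨a, b, hab⟩⟩
        change g = uEl P a b at hab
        subst hab
        obtain rfl := hA a b hg
        exact ⟨⟨b, (fr.cen b).1 hg⟩, rfl⟩
    have hsq : ∀ x : ↥M, orderOf x ∣ 4 → x * x = 1 := by
      intro x h4
      rcases eq_or_ne x 1 with rfl | h1
      · exact one_mul 1
      obtain ⟨-, k, hk⟩ := hT x h1 h4
      obtain ⟨a, b, hab⟩ := hk
      have hmem : uEl P a b ∈ M := hab ▸ (k * x * k⁻¹).2
      obtain rfl := hA a b hmem
      have h2 : (k * x * k⁻¹) * (k * x * k⁻¹) = 1 := Subtype.ext (by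
        show ((k * x * k⁻¹ : ↥M) : ↥(Sz F (2 ^ (m + 1)))) * ((k * x * k⁻¹ : ↥M) : ↥(Sz F (2 ^ (m + 1)))) = 1
        rw [show ((k * x * k⁻¹ : ↥M) : ↥(Sz F (2 ^ (m + 1)))) = uEl P 0 b from hab, ← pow_two, uEl_sq,
          zero_mul, uEl_zero])
      rw [show k * x * k⁻¹ * (k * x * k⁻¹) = k * (x * x) * k⁻¹ by group] at h2
      exact conj_eq_one_iff.1 h2
    obtain ⟨-, h | h⟩ := count_analysis hOM T hT2 hT hTI rfl hcardN hn.symm hn2 hnodd hd4 hdC
      (by omega) (by omega) hdN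
    · obtain ⟨c, g, -, -, -, -, heq⟩ := h
      rw [← ht, htz] at heq
      push_cast [Nat.cast_sub (show 1 ≤ z by omega)] at heq
      have hn' : ((n : ℤ) - (z + 1)) * ((z : ℤ) - 2) = 0 := by linear_combination -heq
      have h3 : n = z + 1 := by
        have := (mul_eq_zero.1 hn').resolve_right (by omega)
        omega
      refine (oddTI P hF hm).three ((dvd_trans ?_ (h3 ▸ hdvdn)).trans (Subgroup.card_subgroup_dvd_card M))
      obtain ⟨i, hi⟩ := hodd
      rw [hzdef, fr.card_L, hi, pow_succ, pow_mul, Nat.dvd_iff_mod_eq_zero, Nat.add_mod, Nat.mul_mod,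
        Nat.pow_mod]
      norm_num
    · obtain ⟨c₁, c₂, g, hg, hgc, hgN, -, -⟩ := h
      have hodd1 := hOM.odd g hg
      rw [hgc] at hodd1
      obtain ⟨V, hV⟩ := Sylow.exists_subgroup_card_pow_prime
        (G := ↥(Subgroup.normalizer (Subgroup.centralizer {g} : Set ↥M))) 2 (n := 2)
        (by rw [hgN]; exact dvd_mul_right 4 c₁)
      have h4 : ∀ v ∈ V, orderOf ((v : ↥(Subgroup.normalizer (Subgroup.centralizer {g} : Set ↥M))) : ↥M) ∣ 4 := by
        intro v hv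
        rw [Subgroup.orderOf_coe]
        exact (Subgroup.orderOf_dvd_natCard _ hv).trans (dvd_of_eq hV)
      have hinv : ∀ v ∈ V, v ≠ 1 → (v : ↥M) * g * (v : ↥M)⁻¹ = g⁻¹ := by
        intro v hv hv1
        have hvv := hsq _ (h4 v hv)
        have hgv : (v : ↥M) * g * (v : ↥M)⁻¹ ∈ Subgroup.centralizer {g} :=
          (Subgroup.mem_normalizer_iff.1 v.2 g).1 (mem_centralizer_self g)
        by_contra hne
        set y := g * ((v : ↥M) * g * (v : ↥M)⁻¹) with hy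
        have hy1 : y ≠ 1 := fun e => hne (eq_inv_of_mul_eq_one_right e)
        have hyC : y ∈ Subgroup.centralizer {g} := mul_mem (mem_centralizer_self g) hgv
        have hvy : (v : ↥M) ∈ Subgroup.centralizer {y} := by
          rw [Subgroup.mem_centralizer_singleton_iff, ← mul_inv_eq_iff_eq_mul, hy]
          calc (v : ↥M) * (g * ((v : ↥M) * g * (v : ↥M)⁻¹)) * (v : ↥M)⁻¹ =
              ((v : ↥M) * g * (v : ↥M)⁻¹) * (((v : ↥M) * (v : ↥M)) * g * ((v : ↥M) * (v : ↥M))⁻¹) := by group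
            _ = ((v : ↥M) * g * (v : ↥M)⁻¹) * g := by rw [hvv]; group
            _ = g * ((v : ↥M) * g * (v : ↥M)⁻¹) := Subgroup.mem_centralizer_singleton_iff.1 hgv
        rw [hOM.centralizer_eq g y hg hyC hy1] at hvy
        exact hOM.not_dvd_four hg hvy (fun e => hv1 (Subtype.ext e)) (h4 v hv)
      obtain ⟨⟨v, hv⟩, hv1⟩ : ∃ v : ↥V, v ≠ 1 := by
        haveI : Nontrivial ↥V := Finite.one_lt_card_iff_nontrivial.1 (by rw [hV]; norm_num)
        exact exists_ne 1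
      obtain ⟨⟨v', hv'⟩, hv'1, hv'v⟩ : ∃ v' : ↥V, v' ≠ 1 ∧ v' ≠ ⟨v, hv⟩ := by
        by_contra hno
        push_neg at hno
        have : Nat.card ↥V ≤ ({1, ⟨v, hv⟩} : Set ↥V).ncard := by
          rw [← Set.ncard_univ]
          refine Set.ncard_le_ncard (fun u _ => ?_) (Set.toFinite _)
          rcases eq_or_ne u 1 with h | h
          · exact Or.inl h
          · exact Or.inr (hno u h)
        have h2 := Set.ncard_insert_le (1 : ↥V) {⟨v, hv⟩}
        rw [Set.ncard_singleton] at h2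
        rw [hV] at this
        omega
      have hv1' : v ≠ 1 := fun e => hv1 (Subtype.ext e)
      have hv'1' : v' ≠ 1 := fun e => hv'1 (Subtype.ext e)
      have i1 := hinv v hv hv1'
      have i2 := hinv v' hv' hv'1'
      have hcen : ((v : ↥M) * (v' : ↥M)) ∈ Subgroup.centralizer {g} := by
        rw [Subgroup.mem_centralizer_singleton_iff, ← mul_inv_eq_iff_eq_mul]
        calc (v : ↥M) * (v' : ↥M) * g * ((v : ↥M) * (v' : ↥M))⁻¹ =
            (v : ↥M) * ((v' : ↥M) * g * (v' : ↥M)⁻¹) * (v : ↥M)⁻¹ := by group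
          _ = ((v : ↥M) * g * (v : ↥M)⁻¹)⁻¹ := by rw [i2]; group
          _ = g := by rw [i1, inv_inv]
      refine hOM.not_dvd_four hg hcen (fun e => hv'v (Subtype.ext (Subtype.ext ?_))) (h4 (v * v') (mul_mem hv hv'))
      show (v' : ↥M) = (v : ↥M)
      rw [eq_inv_of_mul_eq_one_right e]
      exact inv_eq_of_mul_eq_one_right (hsq _ (h4 v hv))
  -- `T` is the full Sylow subgroup of the subfield group
  push_neg at hA
  obtain ⟨a₀, b₀, hab₀, ha₀⟩ := hA
  have hTmem : ∀ a b : F, uEl P a b ∈ M ↔ a ∈ L ∧ b ∈ L := by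
    obtain ⟨x₁, hx₁, hx₁k⟩ := exists_scale P L (L.inv_mem (fr.sq_mem a₀ b₀ hab₀)) (inv_ne_zero ha₀)
    have h1 := dEl_conj_mem P fr hdia hx₁ hab₀
    rw [hx₁k, inv_mul_cancel₀ ha₀] at h1
    set β := P.θ (x₁ : F) * b₀
    have hall : ∀ c ∈ L, c ≠ 0 → uEl P c (c * P.θ c * β) ∈ M := by
      intro c hc hc0
      obtain ⟨y, hy, hyk⟩ := exists_scale P L hc hc0
      have h2 := dEl_conj_mem P fr hdia hy h1
      rwa [hyk, mul_one, show P.θ (y : F) = c * P.θ c by rw [theta_eq_of_scale P y.ne_zero, hyk]] at h2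
    obtain ⟨c, hc, hc0, hc1⟩ : ∃ c ∈ L, c ≠ 0 ∧ c ≠ 1 :=
      ⟨x₀, hx₀, x₀.ne_zero, fun e => hx₀1 (Units.ext e)⟩
    have hc10 : 1 + c ≠ 0 := fun e => hc1 (CharTwo.add_eq_zero.1 e).symm
    have hβ : β ∈ L := by
      have h2 := mul_mem h1 (hall c hc hc0)
      rw [uEl_mul, one_mul] at h2
      have h3 := mul_mem (inv_mem h2) (hall (1 + c) (L.add_mem L.one_mem hc) hc10)
      rw [uEl_div] at h3
      have h4 := (fr.cen _).1 h3
      have hne : c + P.θ c ≠ 0 := fun e => by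
        rcases theta_fix P (CharTwo.add_eq_zero.1 e).symm with h | h
        exacts [hc0 h, hc1 h]
      have h5 : β + c * P.θ c * β + P.θ c + (1 + c) * P.θ (1 + c) * β = β * (c + P.θ c) + P.θ c := by
        rw [map_add, map_one]
        linear_combination (β + c * P.θ c * β) * (CharTwo.two_eq_zero (R := F))
      rw [h5] at h4
      have h6 := L.add_mem h4 (theta_mem P L hc)
      rw [add_assoc, CharTwo.add_self_eq_zero, add_zero] at h6
      have h7 := L.div_mem h6 (L.add_mem hc (theta_mem P L hc))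
      rwa [mul_div_cancel_right₀ β hne] at h7
    intro a b
    constructor
    · intro h
      refine ⟨fr.sq_mem a b h, ?_⟩
      rcases eq_or_ne a 0 with rfl | ha
      · exact (fr.cen b).1 h
      have h2 := mul_mem (inv_mem (hall a (fr.sq_mem a b h) ha)) h
      rw [uEl_div] at h2
      have h3 := L.add_mem (L.mul_mem (L.mul_mem (fr.sq_mem a b h) (theta_mem P L (fr.sq_mem a b h))) hβ)
        ((fr.cen _).1 h2)
      rwa [← add_assoc, CharTwo.add_self_eq_zero, zero_add] at h3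
    · rintro ⟨ha, hb⟩
      rcases eq_or_ne a 0 with rfl | ha0
      · exact (fr.cen b).2 hb
      have h2 := mul_mem (hall a ha ha0)
        ((fr.cen (a * P.θ a * β + b)).2 (L.add_mem (L.mul_mem (L.mul_mem ha (theta_mem P L ha)) hβ) hb))
      rwa [uEl_mul, map_zero, mul_zero, add_zero, add_zero, ← add_assoc, CharTwo.add_self_eq_zero,
        zero_add] at h2
  have htz : t = z ^ 2 := by
    rw [ht, hzdef, pow_two, ← Nat.card_prod]
    refine (Nat.card_eq_of_bijective (fun p : ↥L × ↥L =>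
      (⟨⟨uEl P (p.1 : F) (p.2 : F), (hTmem _ _).2 ⟨p.1.2, p.2.2⟩⟩, ⟨p.1, p.2, rfl⟩⟩ : ↥T)) ⟨?_, ?_⟩).symm
    · intro p q h
      obtain ⟨e1, e2⟩ := uEl_inj P (congrArg (fun q : ↥T => ((q : ↥M) : ↥(Sz F (2 ^ (m + 1))))) h)
      exact Prod.ext (Subtype.ext e1) (Subtype.ext e2)
    · rintro ⟨⟨g, hg⟩, ⟨a, b, hab⟩⟩
      change g = uEl P a b at hab
      subst hab
      obtain ⟨ha, hb⟩ := (hTmem a b).1 hg
      exact ⟨(⟨a, ha⟩, ⟨b, hb⟩), rfl⟩
  have hz2 : z - 1 < z ^ 2 := lt_of_lt_of_le (show z - 1 < z by omega) (Nat.le_self_pow two_ne_zero z)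
  obtain ⟨hdN2, h⟩ := count_analysis hOM T hT2 hT hTI rfl hcardN hn.symm hn2 hnodd hd4 hdC
    (by omega) (by rw [← ht, htz]; exact hz2) hdN
  rcases h with ⟨c, g, -, -, -, -, heq⟩ | ⟨c₁, c₂, g, hg, hgc, -, hnc, heq⟩
  · exfalso
    rw [← ht, htz] at heq
    push_cast [Nat.cast_sub (show 1 ≤ z by omega)] at heq
    have hz' : (8 : ℤ) ≤ z := by exact_mod_cast hz8
    rcases lt_or_ge (n : ℤ) z with hlt | hge
    · have : (n : ℤ) * ((z : ℤ) ^ 2 - 2) ≤ ((z : ℤ) - 1) * ((z : ℤ) ^ 2 - 2) :=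
        mul_le_mul_of_nonneg_right (by omega) (by nlinarith)
      nlinarith
    · have : (z : ℤ) * ((z : ℤ) ^ 2 - 2) ≤ (n : ℤ) * ((z : ℤ) ^ 2 - 2) :=
        mul_le_mul_of_nonneg_right hge (by nlinarith)
      nlinarith
  obtain ⟨k, hk⟩ := index_normalizer_mod T hTI (by
    intro u hu k hk
    rcases eq_or_ne u 1 with rfl | hu1
    · simp
    rw [hN] at hk
    refine mem_unip_of_even P hF hm hk ?_
    show orderOf ((k * u * k⁻¹ : ↥M) : ↥(Sz F (2 ^ (m + 1)))) ∣ 4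
    rw [Subgroup.orderOf_coe, show orderOf (k * u * k⁻¹) = orderOf u from
      orderOf_injective (MulAut.conj k).toMonoidHom (MulAut.conj k).injective u]
    exact hT2 u hu)
  rw [← hn, ← ht] at hk
  have hk1 : k = 1 := by
    rw [← ht, htz] at heq
    rw [htz] at hk
    push_cast [Nat.cast_sub (show 1 ≤ z by omega)] at heq
    have hz' : (8 : ℤ) ≤ z := by exact_mod_cast hz8
    have hnk : (n : ℤ) = 1 + (k : ℤ) * (z : ℤ) ^ 2 := by exact_mod_cast hk
    have hzne : ((z : ℤ) ^ 2) ≠ 0 := by positivity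
    have hS : ((z : ℤ) - 1) * (c₁ + c₂) = 2 + 2 * (k : ℤ) * ((z : ℤ) ^ 2 - 2) :=
      mul_left_cancel₀ hzne (by linear_combination heq + (2 * (z : ℤ) ^ 2 - 4) * hnk)
    have hodd1 := hOM.odd g hg
    rw [hgc] at hodd1
    have hodd2 : Odd c₂ := by
      rw [hnc, Nat.odd_mul] at hnodd
      exact hnodd.2
    obtain ⟨i₁, hi₁⟩ := hodd1
    obtain ⟨i₂, hi₂⟩ := hodd2
    set s : ℤ := i₁ + i₂ + 1 with hs
    have hc1 : (c₁ : ℤ) = 2 * i₁ + 1 := by exact_mod_cast hi₁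
    have hc2 : (c₂ : ℤ) = 2 * i₂ + 1 := by exact_mod_cast hi₂
    have hS' : ((z : ℤ) - 1) * s = 1 + (k : ℤ) * ((z : ℤ) ^ 2 - 2) := by
      rw [hc1, hc2] at hS
      refine mul_left_cancel₀ (two_ne_zero (α := ℤ)) ?_
      rw [hs]
      linear_combination hS
    set j : ℤ := (k : ℤ) * ((z : ℤ) + 1) - s with hj
    have hkj : (k : ℤ) = 1 + ((z : ℤ) - 1) * j := by rw [hj]; linear_combination hS'
    have hkpos : 1 ≤ k := by
      by_contra h0
      have : k = 0 := by omega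
      rw [this, zero_mul, add_zero] at hk
      omega
    have hj0 : 0 ≤ j := by
      by_contra hneg
      have h1 : ((z : ℤ) - 1) * j ≤ ((z : ℤ) - 1) * (-1) := mul_le_mul_of_nonneg_left (by omega) (by omega)
      omega
    have hsj : s = (z : ℤ) + 1 + j * ((z : ℤ) ^ 2 - 2) := by
      have : s = (k : ℤ) * ((z : ℤ) + 1) - j := by rw [hj]; ring
      rw [this, hkj]; ring
    have hnc' : (n : ℤ) = (c₁ : ℤ) * c₂ := by exact_mod_cast hnc
    have hD : (|(c₁ : ℤ) - s|) ^ 2 = s ^ 2 - 1 - (z : ℤ) ^ 2 - (z : ℤ) ^ 2 * ((z : ℤ) - 1) * j := by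
      rw [sq_abs]
      have e1 : (c₁ : ℤ) + c₂ = 2 * s := by rw [hs, hc1, hc2]; ring
      have e2 : (n : ℤ) = 1 + (z : ℤ) ^ 2 + (z : ℤ) ^ 2 * ((z : ℤ) - 1) * j := by rw [hnk, hkj]; ring
      rw [← sub_eq_iff_eq_add'.2 e1.symm] at hnc'
      linear_combination hnc' - e2
    have := arith_two hz' (by obtain ⟨i, hi⟩ := hodd; exact ⟨2 ^ (2 * i), by rw [hzdef, fr.card_L, hi]; push_cast; ring⟩) hj0 (abs_nonneg _) hsj hD
    rw [this, mul_zero, add_zero] at hkj
    exact_mod_cast hkj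
  rw [hk1, one_mul] at hk
  -- the element swapping the two points
  obtain ⟨w, hwM, x₁, hw⟩ : ∃ w ∈ M, ∃ x : Fˣ, w = jEl P * dEl P x := by
    by_contra hno
    have hle : Subgroup.normalizer (Subgroup.centralizer {d} : Set ↥M) ≤ Subgroup.centralizer {d} := by
      intro x hx
      rcases hdsplit x hx with h | h
      · rw [hCd]; exact h
      · obtain ⟨y, hy⟩ := (mem_torus P).1 h
        refine absurd ⟨(x : ↥(Sz F (2 ^ (m + 1)))), x.2, y, ?_⟩ hno
        rw [hy, ← mul_assoc, jEl_mul_self, one_mul]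
    have := Subgroup.card_le_of_le hle
    rw [hdN2, hdC] at this
    omega
  have hwB : w ∉ borel (F := F) (e := 2 ^ (m + 1)) := fun h => jEl_notMem_borel P (by
    have := mul_mem h (inv_mem (dEl_mem_borel P x₁))
    rwa [hw, mul_inv_cancel_right] at this)
  set N := Subgroup.normalizer (T : Set ↥M)
  set wM : ↥M := ⟨w, hwM⟩
  have hreach : ∀ g ∈ M, g ∉ borel (F := F) (e := 2 ^ (m + 1)) →
      ∃ a b : F, a ∈ L ∧ b ∈ L ∧ (uEl P a b * w)⁻¹ * g ∈ borel (F := F) (e := 2 ^ (m + 1)) := by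
    let f : ↥T → {x : ↥M ⧸ N // x ≠ QuotientGroup.mk 1} := fun u =>
      ⟨QuotientGroup.mk ((u : ↥M) * wM), fun e => hwB (by
        have h := QuotientGroup.eq.1 e
        rw [mul_one, hN, Subgroup.mem_subgroupOf] at h
        have h2 := mul_mem (inv_mem (unip_le_borel P u.2)) (inv_mem h)
        simpa using h2)⟩
    have hf : Function.Injective f := by
      intro u v huv
      have h := QuotientGroup.eq.1 (congrArg Subtype.val huv)
      rw [hN, Subgroup.mem_subgroupOf] at h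
      by_contra hne
      set q : ↥T := u⁻¹ * v
      have hq1 : q ≠ 1 := fun e => hne (inv_mul_eq_one.1 e)
      have hq' : w⁻¹ * ((q : ↥M) : ↥(Sz F (2 ^ (m + 1)))) * w⁻¹⁻¹ ∈ borel (F := F) (e := 2 ^ (m + 1)) := by
        simpa [q, wM, mul_assoc] using h
      have hU := mem_unip_of_even P hF hm hq' (by
        rw [show orderOf (w⁻¹ * ((q : ↥M) : ↥(Sz F (2 ^ (m + 1)))) * w⁻¹⁻¹) =
          orderOf ((q : ↥M) : ↥(Sz F (2 ^ (m + 1)))) from
            orderOf_injective (MulAut.conj w⁻¹).toMonoidHom (MulAut.conj w⁻¹).injective _,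
          Subgroup.orderOf_coe]
        exact hT2 _ q.2)
      exact hwB (by simpa using inv_mem (conj_unip_ne P q.2
        (fun e => hq1 (Subtype.ext (Subtype.ext e))) hU))
    have hcard : Nat.card {x : ↥M ⧸ N // x ≠ QuotientGroup.mk 1} = Nat.card ↥T := by
      have h2 : ({x : ↥M ⧸ N | x ≠ QuotientGroup.mk 1}).ncard = n - 1 := by
        rw [show {x : ↥M ⧸ N | x ≠ QuotientGroup.mk 1} = ({QuotientGroup.mk 1}ᶜ : Set (↥M ⧸ N)) from rfl,
          Set.ncard_compl, Set.ncard_singleton, ← Subgroup.index_eq_card]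
      rw [← ht]
      rw [← Nat.card_coe_set_eq] at h2
      exact h2.trans (by omega)
    have hsurj := ((Nat.bijective_iff_injective_and_card f).2 ⟨hf, hcard.symm⟩).2
    intro g hgM hgB
    obtain ⟨⟨⟨u, hu⟩, ⟨a, b, hab⟩⟩, he⟩ := hsurj ⟨QuotientGroup.mk ⟨g, hgM⟩, fun e => hgB (by
      have h := QuotientGroup.eq.1 e
      rw [mul_one, hN, Subgroup.mem_subgroupOf] at h
      simpa using inv_mem h)⟩
    change u = uEl P a b at hab
    subst hab
    have h := QuotientGroup.eq.1 (congrArg Subtype.val he)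
    rw [hN, Subgroup.mem_subgroupOf] at h
    exact ⟨a, b, ((hTmem a b).1 hu).1, ((hTmem a b).1 hu).2, h⟩
  have hx₁ : (x₁ : F) ∈ L := by
    set g := w * uEl P 0 1 * w with hg
    have hθ0 : P.θ (x₁ : F) ≠ 0 := by simp
    have hg3 : mat g 3 0 = (x₁ : F) * x₁ := by
      simp [hg, hw, Matrix.mul_apply, Fin.sum_univ_four, jMat, dMat, uMat]
    have hg2 : mat g 2 0 = P.θ (x₁ : F) := by
      simp [hg, hw, Matrix.mul_apply, Fin.sum_univ_four, jMat, dMat, uMat]
    have hgB : g ∉ borel (F := F) (e := 2 ^ (m + 1)) := fun h => by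
      have := (mem_borel.1 h).2.2
      rw [hg3] at this
      exact x₁.ne_zero (mul_self_eq_zero.1 this)
    obtain ⟨a, b, ha, hb, hh⟩ := hreach g (mul_mem (mul_mem hwM h01) hwM) hgB
    set h := (uEl P a b * w)⁻¹ * g with hhdef
    obtain ⟨h1, h2, h3⟩ := mem_borel.1 hh
    have e : g = uEl P a b * w * h := (mul_inv_cancel_left _ _).symm
    have e3 := congrFun (congrFun (congrArg mat e) 3) 0
    have e2 := congrFun (congrFun (congrArg mat e) 2) 0
    simp [hw, Matrix.mul_apply, Fin.sum_univ_four, jMat, dMat, uMat, h1, h2, h3] at e3 e2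
    rw [hg3] at e3
    rw [hg2] at e2
    have he : P.θ (x₁ : F) = a * ((x₁ : F) * x₁) := by rw [e2, e3]; ring
    have hk : (x₁ : F) * x₁ / P.θ (x₁ : F) ∈ L := by
      have : (x₁ : F) * x₁ / P.θ (x₁ : F) = a⁻¹ := by
        refine eq_inv_of_mul_eq_one_left ?_
        rw [div_mul_eq_mul_div, mul_comm _ a, ← he, div_self hθ0]
      rw [this]; exact L.inv_mem ha
    refine theta_root P L ?_
    rw [theta_eq_of_scale P x₁.ne_zero]
    exact L.mul_mem hk (theta_mem P L hk)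
  have hj : jEl P ∈ M := by
    have := mul_mem hwM (inv_mem (hdia x₁ hx₁))
    rwa [hw, mul_inv_cancel_right] at this
  have hBS : ∀ g ∈ M, g ∈ borel (F := F) (e := 2 ^ (m + 1)) → g ∈ subGroup (e := 2 ^ (m + 1)) L := by
    intro g hgM hgB
    obtain ⟨a, b, x, rfl⟩ := borel_form P hgB
    have hx := (fr.dia x).1 ⟨a, b, hgM⟩
    have hab : uEl P a b ∈ M := by simpa using mul_mem hgM (inv_mem (hdia x hx))
    exact mul_mem ((uEl_mem_subGroup P L).2 ((hTmem a b).1 hab)) ((dEl_mem_subGroup P L).2 hx)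
  have hMS : M ≤ subGroup (e := 2 ^ (m + 1)) L := by
    intro g hgM
    by_cases hgB : g ∈ borel (F := F) (e := 2 ^ (m + 1))
    · exact hBS g hgM hgB
    obtain ⟨a, b, ha, hb, hh⟩ := hreach g hgM hgB
    have huw : uEl P a b * w ∈ M := mul_mem ((hTmem a b).2 ⟨ha, hb⟩) hwM
    rw [← mul_inv_cancel_left (uEl P a b * w) g]
    refine mul_mem ?_ (hBS _ (mul_mem (inv_mem huw) hgM) hh)
    rw [hw]
    exact mul_mem ((uEl_mem_subGroup P L).2 ⟨ha, hb⟩)
      (mul_mem (jEl_mem_subGroup P L) ((dEl_mem_subGroup P L).2 hx₁))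
  refine Subgroup.eq_of_le_of_card_ge hMS (le_of_eq ?_)
  rw [card_subGroup P L, ← Subgroup.card_mul_index (Subgroup.normalizer (T : Set ↥M)), hcardN, ← hzdef]
  show _ = t * (z - 1) * n
  rw [hk, htz]
  ring

end main

include P hF hm in
/-- Suzuki's theorem. -/
theorem subgroup_cases (M : Subgroup ↥(Sz F (2 ^ (m + 1)))) :
    Local M ∨ ∃ (k : ↥(Sz F (2 ^ (m + 1)))) (L : Subfield F) (l : ℕ), 8 ≤ Nat.card ↥L ∧
      Nat.card ↥L = 2 ^ l ∧ l ∣ 2 * m + 1 ∧
      M.map (MulAut.conj k).toMonoidHom = subGroup (e := 2 ^ (m + 1)) L := by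
  refine or_iff_not_imp_left.2 fun hloc => ?_
  obtain ⟨k, hk⟩ := exists_conj_u01 P hF hm hloc
  set M₁ := M.map (MulAut.conj k).toMonoidHom
  have hloc₁ : ¬ Local M₁ := fun h => hloc h.of_map
  obtain ⟨fr⟩ := exists_frame P hF hm hloc₁ hk
  haveI : Finite ↥fr.L := inferInstance
  obtain ⟨c₀, hc₀⟩ := IsCyclic.exists_generator (α := (↥fr.L)ˣ)
  set x₀ : Fˣ := Units.map fr.L.subtype.toMonoidHom c₀ with hx₀
  have hgen : ∀ x : Fˣ, (x : F) ∈ fr.L → ∃ j : ℤ, x = x₀ ^ j := by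
    intro x hx
    obtain ⟨j, hj⟩ := hc₀ (Units.mk0 ⟨x, hx⟩ (fun e => x.ne_zero (congrArg Subtype.val e)))
    refine ⟨j, ?_⟩
    rw [hx₀, ← map_zpow, show c₀ ^ j = _ from hj]
    exact Units.ext rfl
  obtain ⟨v, hv, hvM⟩ : ∃ v ∈ unip P, 
      dEl P x₀ ∈ M₁.map (MulAut.conj v⁻¹).toMonoidHom := by
    obtain ⟨a, b, hab⟩ := (fr.dia x₀).2 (c₀ : ↥fr.L).2
    rcases eq_or_ne x₀ 1 with h | h
    · exact ⟨1, one_mem _, 1, one_mem _, by rw [h, dEl_one]; simp⟩
    · obtain ⟨v, hv, hve⟩ := exists_conj_dEl P a b h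
      refine ⟨v, hv, _, hab, ?_⟩
      show v⁻¹ * (uEl P a b * dEl P x₀) * v⁻¹⁻¹ = dEl P x₀
      rw [hve]; group
  set M₂ := M₁.map (MulAut.conj v⁻¹).toMonoidHom with hM₂
  have hmap : M₂ = M.map (MulAut.conj (v⁻¹ * k)).toMonoidHom := by
    rw [hM₂, Subgroup.map_map]
    congr 1
    ext y
    simp [mul_assoc]
  have hloc₂ : ¬ Local M₂ := fun h => hloc₁ h.of_map
  obtain ⟨c, d, rfl⟩ := hv
  have hcen : ∀ b : F, uEl P 0 b ∈ M₂ ↔ uEl P 0 b ∈ M₁ := by
    intro b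
    have hcomm : (uEl P c d)⁻¹ * uEl P 0 b * uEl P c d = uEl P 0 b := by
      rw [mul_assoc, (uEl_comm_iff P 0 b c d).2 (by simp), inv_mul_cancel_left]
    rw [hM₂, Subgroup.mem_map_equiv, MulAut.conj_symm_apply, inv_inv]
    rw [show uEl P c d * uEl P 0 b * (uEl P c d)⁻¹ = uEl P 0 b by
      nth_rw 1 [← hcomm]; group]
  have hk₂ : uEl P 0 1 ∈ M₂ := (hcen 1).2 hk
  obtain ⟨fr₂⟩ := exists_frame P hF hm hloc₂ hk₂
  have hdia : ∀ x : Fˣ, (x : F) ∈ fr₂.L → dEl P x ∈ M₂ := by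
    intro x hx
    have hx' : (x : F) ∈ fr.L := (fr.cen _).1 ((hcen _).1 ((fr₂.cen _).2 hx))
    obtain ⟨j, rfl⟩ := hgen x hx'
    show dHom P (x₀ ^ j) ∈ M₂
    rw [map_zpow]
    exact zpow_mem hvM j
  obtain ⟨h8, heq⟩ := eq_subGroup P hF hm fr₂ hloc₂ hk₂ hdia
  exact ⟨_, fr₂.L, fr₂.l, h8, fr₂.card_L, fr₂.l_dvd, hmap.symm.trans heq⟩

end CfsgLib.SuzukiGroup
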