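import Cfsg.Agent.Lib.SuzukiGroup.Automorphisms
import Cfsg.Agent.Lib.AutPSL.FieldGalois
import Cfsg.Agent.Lib.PCore.Basic
import Cfsg.Prelude.Def_Transfer

/-!
# Automorphisms of the Sylow 2-subgroups of the Suzuki groups

The pairs of additive maps compatible with `a ↦ a θ(a)` are semilinear (via Hua's identity), which
gives the structure of the automorphism group.
-/

set_option autoImplicit false

open scoped MatrixGroups Matrix

namespace CfsgLib.SuzukiGroup

open Cfsg.Lie

section Hua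

variable {F : Type*} [Field F] [CharP F 2]

lemma hua_two {a b : F} (ha : a ≠ 0) (hb : b ≠ 0) (hab : a * b ≠ 1) :
    (a⁻¹ + (b⁻¹ + a)⁻¹)⁻¹ = a + a * a * b := by
  have h1 : a * b + 1 ≠ 0 := fun h => hab (CharTwo.add_eq_zero.1 h)
  have h2 : b⁻¹ + a = (a * b + 1) / b := by field_simp; ring
  have h3 : (1 : F) + 1 = 0 := CharTwo.add_self_eq_zero 1
  apply inv_eq_of_mul_eq_one_right
  rw [h2, inv_div]
  field_simp
  linear_combination (a * b + a * a * b * b) * h3

/-- An injective additive map which is compatible with inversion, in the sense that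
`u ↦ g(u⁻¹)⁻¹` is additive, is multiplicative. -/
lemma map_mul_of_inv_add [Finite F] {g : F →+ F} (hg : Function.Injective g) (h1 : g 1 = 1)
    (hadd : ∀ u v, (g (u + v)⁻¹)⁻¹ = (g u⁻¹)⁻¹ + (g v⁻¹)⁻¹) (a b : F) :
    g (a * b) = g a * g b := by
  have key : ∀ a b, g (a * a * b) = g a * g a * (g b⁻¹)⁻¹ := by
    intro a b
    rcases eq_or_ne a 0 with rfl | ha
    · simp
    rcases eq_or_ne b 0 with rfl | hb
    · simp
    have hga : g a ≠ 0 := fun h => ha (hg (h.trans (map_zero g).symm))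
    have hgb : g b⁻¹ ≠ 0 := fun h => inv_ne_zero hb (hg (h.trans (map_zero g).symm))
    by_cases hab : a * b = 1
    · have hb' : b = a⁻¹ := eq_inv_of_mul_eq_one_right hab
      subst hb'
      rw [inv_inv, mul_assoc, mul_inv_cancel₀ ha, mul_one, mul_assoc, mul_inv_cancel₀ hga, mul_one]
    have hne : g a * (g b⁻¹)⁻¹ ≠ 1 := by
      intro h
      have e : g a = g b⁻¹ := (mul_inv_eq_one₀ hgb).1 h
      exact hab (by rw [hg e, inv_mul_cancel₀ hb])
    have e1 := hadd a⁻¹ (b⁻¹ + a)⁻¹
    rw [inv_inv, inv_inv, hua_two ha hb hab, map_add g b⁻¹ a] at e1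
    have e2 := hua_two hga (inv_ne_zero hgb) hne
    rw [inv_inv, ← e1, inv_inv, map_add g a (a * a * b)] at e2
    exact add_left_cancel e2
  have hgh : ∀ b, (g b⁻¹)⁻¹ = g b := fun b => by
    have := key 1 b
    rw [h1, one_mul, one_mul, one_mul] at this
    exact this.symm
  have hsq : ∀ a, g (a * a) = g a * g a := fun a => by
    have := key a 1
    rwa [mul_one, inv_one, h1, inv_one, mul_one] at this
  have hfin : Function.Surjective fun x : F => x * x :=
    Finite.injective_iff_surjective.1 fun x y h => by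
      rcases mul_self_eq_mul_self_iff.1 h with h | h
      · exact h
      · rwa [CharTwo.neg_eq] at h
  obtain ⟨c, rfl⟩ := hfin a
  show g (c * c * b) = g (c * c) * g b
  rw [key, hgh, hsq]

end Hua

variable {F : Type*} [Field F] [Fintype F] [CharP F 2] {e : ℕ} (P : Params F e)

/-- The additive map `z ↦ θ(z) + z`. -/
def asHom : F →+ F := P.θ.toAddMonoidHom + AddMonoidHom.id F

omit [Fintype F] [CharP F 2] in
lemma asHom_apply (z : F) : asHom P z = P.θ z + z := rfl

lemma index_range_asHom : (asHom P).range.index = 2 := by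
  have hk : ((asHom P).ker : Set F) = {0, 1} := by
    ext x
    rw [SetLike.mem_coe, AddMonoidHom.mem_ker, asHom_apply, CharTwo.add_eq_zero]
    constructor
    · intro h
      rcases theta_fix P h with h | h <;> simp [h]
    · rintro (rfl | rfl)
      · exact map_zero _
      · exact map_one _
  have h2 : Nat.card (asHom P).ker = 2 := by
    rw [← SetLike.coe_sort_coe, hk, Nat.card_coe_set_eq, Set.ncard_pair zero_ne_one]
  have e1 := (asHom P).ker.card_mul_index
  rw [AddSubgroup.index_ker, h2] at e1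
  have e2 := (asHom P).range.card_mul_index
  rw [← e1, mul_comm 2] at e2
  exact Nat.eq_of_mul_eq_mul_left Nat.card_pos e2

/-- Additive bijections compatible with `a ↦ a θ(a)` are semilinear. -/
theorem semilinear_pair {f g : F →+ F} (hf : Function.Bijective f) (hg : Function.Bijective g)
    (hQ : ∀ a, g (a * P.θ a) = f a * P.θ (f a)) :
    ∃ (k : Fˣ) (σ : F ≃+* F), ∀ a, f a = (k : F) * σ a ∧ g a = (k : F) * P.θ k * σ a := by
  have hQs : Function.Surjective fun a : F => a * P.θ a :=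
    Finite.injective_iff_surjective.1 fun a b h => theta_mul_inj P h
  have hB : ∀ a c, g (a * P.θ c + c * P.θ a) = f a * P.θ (f c) + f c * P.θ (f a) := by
    intro a c
    have h := hQ (a + c)
    rw [map_add P.θ, map_add f, map_add P.θ,
      show (a + c) * (P.θ a + P.θ c) = a * P.θ a + c * P.θ c + (a * P.θ c + c * P.θ a) by ring,
      map_add g, map_add g, hQ, hQ] at h
    linear_combination h
  set T := (asHom P).range with hT
  have hpair : ∀ w b, (b * w⁻¹ ∈ T ↔ g b * (g w)⁻¹ ∈ T) := by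
    intro w b
    obtain ⟨a, rfl⟩ := hQs w
    simp only
    rcases eq_or_ne a 0 with rfl | ha
    · simp
    have hfa : f a ≠ 0 := fun h => ha (hf.1 (h.trans (map_zero f).symm))
    have hθa : P.θ a ≠ 0 := by simpa using ha
    have hθfa : P.θ (f a) ≠ 0 := by simpa using hfa
    rw [hQ]
    constructor
    · rintro ⟨z, hz⟩
      rw [asHom_apply] at hz
      have hb : b = a * P.θ (a * z) + a * z * P.θ a := by
        rw [map_mul, eq_mul_inv_iff_mul_eq₀ (mul_ne_zero ha hθa)] at *
        rw [← hz]; ring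
      refine ⟨f (a * z) / f a, ?_⟩
      rw [asHom_apply, hb, hB, map_div₀]
      field_simp
    · rintro ⟨z, hz⟩
      obtain ⟨c, hc⟩ := hf.2 (f a * z)
      rw [asHom_apply, eq_mul_inv_iff_mul_eq₀ (mul_ne_zero hfa hθfa)] at hz
      have hb : b = a * P.θ c + c * P.θ a := hg.1 (by
        rw [hB, hc, map_mul, ← hz]; ring)
      refine ⟨c / a, ?_⟩
      rw [asHom_apply, hb, map_div₀]
      field_simp
  have hTi : T.index = 2 := index_range_asHom P
  have hTne : ∀ d : F, (∀ x, d * x ∈ T) → d = 0 := by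
    intro d hd
    by_contra hd0
    have : T = ⊤ := (AddSubgroup.eq_top_iff' T).2 fun x => by
      simpa [mul_inv_cancel_left₀ hd0] using hd (d⁻¹ * x)
    rw [this, AddSubgroup.index_top] at hTi
    omega
  have hh : ∀ u b, (u * b ∈ T ↔ (g u⁻¹)⁻¹ * g b ∈ T) := by
    intro u b
    have := hpair u⁻¹ b
    rwa [inv_inv, mul_comm b u, mul_comm (g b)] at this
  have hinv : ∀ u v, (g (u + v)⁻¹)⁻¹ = (g u⁻¹)⁻¹ + (g v⁻¹)⁻¹ := by
    intro u v
    refine CharTwo.add_eq_zero.1 (hTne _ fun x => ?_)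
    obtain ⟨b, rfl⟩ := hg.2 x
    rw [add_mul, add_mul, AddSubgroup.add_mem_iff_of_index_two hTi,
      AddSubgroup.add_mem_iff_of_index_two hTi, ← hh, ← hh, ← hh, add_mul,
      AddSubgroup.add_mem_iff_of_index_two hTi]
  have hf1 : f 1 ≠ 0 := fun h => one_ne_zero (hf.1 (h.trans (map_zero f).symm))
  have hg1 : g 1 = f 1 * P.θ (f 1) := by simpa using hQ 1
  have hg10 : g 1 ≠ 0 := fun h => one_ne_zero (hg.1 (h.trans (map_zero g).symm))
  let g' : F →+ F := (AddMonoidHom.mulRight (g 1)⁻¹).comp g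
  have hg' : ∀ b, g' b = g b * (g 1)⁻¹ := fun b => rfl
  have hinj : Function.Injective g' := fun x y h => hg.1 (mul_right_cancel₀ (inv_ne_zero hg10) h)
  have h1' : g' 1 = 1 := mul_inv_cancel₀ hg10
  have hmul := map_mul_of_inv_add hinj h1' (fun u v => by
    simp only [hg', mul_inv]; rw [hinv u v, add_mul])
  let gh : F →+* F :=
    { g' with
      map_one' := h1'
      map_mul' := hmul }
  let σ : F ≃+* F := RingEquiv.ofBijective gh (Finite.injective_iff_bijective.1 gh.injective)
  have hσ : ∀ b, σ b = g b * (g 1)⁻¹ := fun b => rfl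
  have hθσ : ∀ a, σ (P.θ a) = P.θ (σ a) := map_theta P σ
  refine ⟨Units.mk0 (f 1) hf1, σ, fun a => ⟨?_, ?_⟩⟩
  · refine theta_mul_inj P ?_
    rw [← hQ, Units.val_mk0, map_mul P.θ, ← hθσ,
      show f 1 * σ a * (P.θ (f 1) * σ (P.θ a)) = g 1 * (σ a * σ (P.θ a)) by rw [hg1]; ring,
      ← map_mul σ, hσ, mul_left_comm, mul_inv_cancel₀ hg10, mul_one]
  · rw [Units.val_mk0, ← hg1, hσ, mul_left_comm, mul_inv_cancel₀ hg10, mul_one]

/-- `uEl` as an element of `U`. -/
def uu (a b : F) : ↥(unip P) := ⟨uEl P a b, a, b, rfl⟩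

lemma uu_mul (a b a' b' : F) :
    uu P a b * uu P a' b' = uu P (a + a') (b + b' + a * P.θ a') :=
  Subtype.ext (uEl_mul P a b a' b')

lemma uu_inj {a b a' b' : F} (h : uu P a b = uu P a' b') : a = a' ∧ b = b' :=
  uEl_inj P (congrArg Subtype.val h)

lemma uu_zero : uu P 0 0 = 1 := Subtype.ext (uEl_zero P)

lemma uu_sq (a b : F) : uu P a b ^ 2 = uu P 0 (a * P.θ a) := Subtype.ext (uEl_sq P a b)

lemma uu_surj (u : ↥(unip P)) : ∃ a b, u = uu P a b := by
  obtain ⟨_, a, b, rfl⟩ := u
  exact ⟨a, b, rfl⟩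

/-- coordinates on `U` -/
noncomputable def uuEquiv : F × F ≃ ↥(unip P) :=
  Equiv.ofBijective (fun p => uu P p.1 p.2)
    ⟨fun _ _ h => Prod.ext (uu_inj P h).1 (uu_inj P h).2,
      fun u => by obtain ⟨a, b, rfl⟩ := uu_surj P u; exact ⟨(a, b), rfl⟩⟩

/-- the first coordinate -/
noncomputable def fstU (u : ↥(unip P)) : F := ((uuEquiv P).symm u).1

lemma fstU_uu (a b : F) : fstU P (uu P a b) = a := by
  show ((uuEquiv P).symm (uuEquiv P (a, b))).1 = a
  rw [Equiv.symm_apply_apply]

/-- the automorphism of `U` attached to `(k, σ, h)` -/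
noncomputable def autOf (p : (Fˣ × (F ≃+* F)) × (F →+ F)) : MulAut ↥(unip P) :=
  let k : F := p.1.1
  have hk : k ≠ 0 := p.1.1.ne_zero
  let F' : F × F → F × F := fun q => (k * p.1.2 q.1, k * P.θ k * p.1.2 q.2 + p.2 q.1)
  have hF' : Function.Bijective F' := Finite.injective_iff_bijective.1 fun q q' h => by
    obtain ⟨e1, e2⟩ := Prod.mk.injEq .. ▸ h
    have h1 : q.1 = q'.1 := p.1.2.injective (mul_left_cancel₀ hk e1)
    rw [h1] at e2
    exact Prod.ext h1 (p.1.2.injective (mul_left_cancel₀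
      (mul_ne_zero hk (by simpa using hk)) (add_right_cancel e2)))
  { toEquiv := (uuEquiv P).symm.trans ((Equiv.ofBijective F' hF').trans (uuEquiv P))
    map_mul' := fun u v => by
      obtain ⟨a, b, rfl⟩ := uu_surj P u
      obtain ⟨c, d, rfl⟩ := uu_surj P v
      have hu : ∀ a b, (uuEquiv P).symm (uu P a b) = (a, b) := fun a b =>
        (Equiv.symm_apply_eq _).2 rfl
      simp only [Equiv.toFun_as_coe, Equiv.trans_apply, uu_mul, hu, Equiv.ofBijective_apply]
      show uu P (k * p.1.2 (a + c)) (k * P.θ k * p.1.2 (b + d + a * P.θ c) + p.2 (a + c)) =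
        uu P (k * p.1.2 a) (k * P.θ k * p.1.2 b + p.2 a) *
          uu P (k * p.1.2 c) (k * P.θ k * p.1.2 d + p.2 c)
      rw [uu_mul]
      simp only [map_add, map_mul, map_theta P]
      congr 1 <;> ring }

lemma autOf_uu (p : (Fˣ × (F ≃+* F)) × (F →+ F)) (a b : F) :
    autOf P p (uu P a b) =
      uu P ((p.1.1 : F) * p.1.2 a) ((p.1.1 : F) * P.θ p.1.1 * p.1.2 b + p.2 a) := by
  have : (uuEquiv P).symm (uu P a b) = (a, b) := (Equiv.symm_apply_eq _).2 rfl
  show uuEquiv P _ = _
  rw [Equiv.ofBijective_apply, this]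
  rfl

lemma autOf_bijective : Function.Bijective (autOf P) := by
  constructor
  · rintro ⟨⟨k, σ⟩, h⟩ ⟨⟨k', σ'⟩, h'⟩ heq
    have he : ∀ a b, (k : F) * σ a = k' * σ' a ∧
        (k : F) * P.θ k * σ b + h a = (k' : F) * P.θ k' * σ' b + h' a := by
      intro a b
      have := congrArg (fun φ : MulAut ↥(unip P) => φ (uu P a b)) heq
      simp only [autOf_uu] at this
      exact uu_inj P this
    have hk : k = k' := Units.ext (by simpa using (he 1 0).1)
    subst hk
    have hσ : σ = σ' := RingEquiv.ext fun a => mul_left_cancel₀ k.ne_zero (he a 0).1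
    subst hσ
    have hh : h = h' := AddMonoidHom.ext fun a => add_left_cancel (he a 0).2
    subst hh
    rfl
  · intro α
    have h0 : ∀ a, ∃ c d, α (uu P a 0) = uu P c d := fun a => uu_surj P _
    choose f h hfh using h0
    have hZ : ∀ b, ∃ d, α (uu P 0 b) = uu P 0 d := by
      intro b
      obtain ⟨c, d, hcd⟩ := uu_surj P (α (uu P 0 b))
      have := map_pow α (uu P 0 b) 2
      rw [uu_sq, zero_mul, uu_zero, map_one, hcd, uu_sq, ← uu_zero P] at this
      have hc : c = 0 := theta_mul_inj P (by simpa using (uu_inj P this).2.symm)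
      exact ⟨d, hcd.trans (by rw [hc])⟩
    choose g hg using hZ
    have hfull : ∀ a b, α (uu P a b) = uu P (f a) (h a + g b) := by
      intro a b
      have : uu P a b = uu P a 0 * uu P 0 b := by rw [uu_mul]; simp
      rw [this, map_mul, hfh, hg, uu_mul]
      simp
    have hmul : ∀ a c, f (a + c) = f a + f c ∧
        h (a + c) + g (a * P.θ c) = h a + h c + f a * P.θ (f c) := by
      intro a c
      have := map_mul α (uu P a 0) (uu P c 0)
      rw [uu_mul, hfull, hfh, hfh, uu_mul] at this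
      simpa using uu_inj P this
    have hgadd : ∀ a c, g (a + c) = g a + g c := by
      intro a c
      have := map_mul α (uu P 0 a) (uu P 0 c)
      rw [uu_mul] at this
      simp only [add_zero, zero_mul] at this
      rw [hg, hg, hg, uu_mul] at this
      simpa using (uu_inj P this).2
    have hQ : ∀ a, g (a * P.θ a) = f a * P.θ (f a) := by
      intro a
      have := map_pow α (uu P a 0) 2
      rw [uu_sq, hg, hfh, uu_sq] at this
      exact (uu_inj P this).2
    let fA : F →+ F := AddMonoidHom.mk' f fun a c => (hmul a c).1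
    let gA : F →+ F := AddMonoidHom.mk' g hgadd
    have hgi : Function.Injective gA := fun a c (e : g a = g c) =>
      (uu_inj P (α.injective (by rw [hg, hg, e] : α (uu P 0 a) = α (uu P 0 c)))).2
    have hfi : Function.Injective fA := fun a c (e : f a = f c) =>
      theta_mul_inj P (hgi (show g (a * P.θ a) = g (c * P.θ c) by rw [hQ, hQ, e]))
    obtain ⟨k, σ, hkσ⟩ := semilinear_pair P (f := fA) (g := gA)
      (Finite.injective_iff_bijective.1 hfi) (Finite.injective_iff_bijective.1 hgi) hQ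
    have hhadd : ∀ a c, h (a + c) = h a + h c := by
      intro a c
      have e1 := (hmul a c).2
      have hfg : g (a * P.θ c) = f a * P.θ (f c) := by
        rw [show f a = _ from (hkσ a).1, show f c = _ from (hkσ c).1,
          show g (a * P.θ c) = _ from (hkσ (a * P.θ c)).2, map_mul σ, map_mul P.θ, map_theta P]
        ring
      rw [hfg] at e1
      exact add_right_cancel e1
    refine ⟨⟨⟨k, σ⟩, AddMonoidHom.mk' h hhadd⟩, MulEquiv.ext fun u => ?_⟩
    obtain ⟨a, b, rfl⟩ := uu_surj P u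
    rw [autOf_uu, hfull, show f a = _ from (hkσ a).1, show g b = _ from (hkσ b).2, add_comm]
    rfl

lemma fstU_aut (α : MulAut ↥(unip P)) (a b : F) :
    fstU P (α (uu P a b)) = fstU P (α (uu P a 0)) := by
  obtain ⟨p, rfl⟩ := (autOf_bijective P).2 α
  rw [autOf_uu, autOf_uu, fstU_uu, fstU_uu]

lemma fstU_comp (α β : MulAut ↥(unip P)) (a : F) :
    fstU P ((α * β) (uu P a 0)) = fstU P (α (uu P (fstU P (β (uu P a 0))) 0)) := by
  obtain ⟨c, d, hcd⟩ := uu_surj P (β (uu P a 0))
  rw [MulAut.mul_apply, hcd, fstU_uu, fstU_aut]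

/-- the action on `U/Z(U)` -/
noncomputable def quotAct : MulAut ↥(unip P) →* Equiv.Perm F where
  toFun α :=
    { toFun := fun a => fstU P (α (uu P a 0))
      invFun := fun a => fstU P (α⁻¹ (uu P a 0))
      left_inv := fun a => by
        show fstU P (α⁻¹ (uu P (fstU P (α (uu P a 0))) 0)) = a
        rw [← fstU_comp, inv_mul_cancel, MulAut.one_apply, fstU_uu]
      right_inv := fun a => by
        show fstU P (α (uu P (fstU P (α⁻¹ (uu P a 0))) 0)) = a
        rw [← fstU_comp, mul_inv_cancel, MulAut.one_apply, fstU_uu] }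
  map_one' := Equiv.ext fun a => fstU_uu P a 0
  map_mul' α β := Equiv.ext fun a => fstU_comp P α β a

lemma quotAct_autOf (p : (Fˣ × (F ≃+* F)) × (F →+ F)) (a : F) :
    quotAct P (autOf P p) a = (p.1.1 : F) * p.1.2 a := by
  show fstU P (autOf P p (uu P a 0)) = _
  rw [autOf_uu, fstU_uu]

lemma autOf_mem_ker {p : (Fˣ × (F ≃+* F)) × (F →+ F)} :
    autOf P p ∈ (quotAct P).ker ↔ p.1 = 1 := by
  rw [MonoidHom.mem_ker]
  constructor
  · intro h
    have h1 : ∀ a, (p.1.1 : F) * p.1.2 a = a := fun a => by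
      rw [← quotAct_autOf, h]; rfl
    have hk : p.1.1 = 1 := Units.ext (by simpa using h1 1)
    refine Prod.ext hk (RingEquiv.ext fun a => ?_)
    have := h1 a
    rw [hk, Units.val_one, one_mul] at this
    exact this
  · intro h
    refine Equiv.ext fun a => ?_
    rw [quotAct_autOf, h]
    exact one_mul a

lemma card_ker : Nat.card (quotAct P).ker = Nat.card (F →+ F) := by
  symm
  refine Nat.card_eq_of_bijective (fun h => ⟨autOf P (1, h), (autOf_mem_ker P).2 rfl⟩) ⟨?_, ?_⟩
  · intro h h' e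
    exact (Prod.ext_iff.1 ((autOf_bijective P).1 (congrArg Subtype.val e))).2
  · rintro ⟨α, hα⟩
    obtain ⟨⟨q, h⟩, rfl⟩ := (autOf_bijective P).2 α
    obtain rfl : q = 1 := (autOf_mem_ker P).1 hα
    exact ⟨h, rfl⟩

lemma ker_elementary : Cfsg.IsElementaryAbelian 2 (quotAct P).ker := by
  have key : ∀ α ∈ (quotAct P).ker, ∃ h : F →+ F, ∀ a b, α (uu P a b) = uu P a (b + h a) := by
    intro α hα
    obtain ⟨⟨q, h⟩, rfl⟩ := (autOf_bijective P).2 α
    obtain rfl : q = 1 := (autOf_mem_ker P).1 hα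
    exact ⟨h, fun a b => by rw [autOf_uu]; simp⟩
  refine ⟨⟨⟨fun α β => ?_⟩⟩, fun α hα => ?_⟩
  · obtain ⟨h, hh⟩ := key α α.2
    obtain ⟨h', hh'⟩ := key β β.2
    refine Subtype.ext (MulEquiv.ext fun u => ?_)
    obtain ⟨a, b, rfl⟩ := uu_surj P u
    show (α : MulAut ↥(unip P)) ((β : MulAut ↥(unip P)) (uu P a b)) =
      (β : MulAut ↥(unip P)) ((α : MulAut ↥(unip P)) (uu P a b))
    rw [hh, hh', hh, hh', add_right_comm]
  · obtain ⟨h, hh⟩ := key α hα
    refine MulEquiv.ext fun u => ?_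
    obtain ⟨a, b, rfl⟩ := uu_surj P u
    rw [pow_two, MulAut.mul_apply, hh, hh, MulAut.one_apply, add_assoc,
      CharTwo.add_self_eq_zero, add_zero]

omit [CharP F 2] in
lemma card_addHom {n : ℕ} [Fact (Nat.Prime 2)] (hF : Fintype.card F = 2 ^ n) :
    Nat.card (F →+ F) = 2 ^ (n ^ 2) := by
  have : CharP F 2 := charP_of_card_eq_prime_pow hF
  let := ZMod.algebra F 2
  have hn : Module.finrank (ZMod 2) F = n := by
    have h := Module.card_eq_pow_finrank (K := ZMod 2) (V := F)
    rw [hF, ZMod.card] at h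
    exact (Nat.pow_right_injective le_rfl h).symm
  have e : (F →+ F) ≃ (F →ₗ[ZMod 2] F) :=
    { toFun := AddMonoidHom.toZModLinearMap 2
      invFun := fun f => f.toAddMonoidHom
      left_inv := fun f => rfl
      right_inv := fun f => rfl }
  rw [Nat.card_congr e, Module.natCard_eq_pow_finrank (K := ZMod 2), Nat.card_zmod,
    Module.finrank_linearMap, hn, pow_two]

/-- `|Aut U|` and `O₂(Aut U)`. -/
theorem aut_unip {m : ℕ} (hF : Fintype.card F = 2 ^ (2 * m + 1)) :
    Nat.card (MulAut ↥(unip P)) =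
      2 ^ ((2 * m + 1) ^ 2) * ((2 * m + 1) * (2 ^ (2 * m + 1) - 1)) ∧
    Nat.card (quotAct P).ker = 2 ^ ((2 * m + 1) ^ 2) := by
  haveI : Fact (Nat.Prime 2) := ⟨Nat.prime_two⟩
  refine ⟨?_, by rw [card_ker, card_addHom hF]⟩
  rw [← Nat.card_eq_of_bijective _ (autOf_bijective P), Nat.card_prod, Nat.card_prod, Nat.card_units,
    Nat.card_eq_fintype_card (α := F), CfsgLib.FieldGalois.card_ringAut hF, card_addHom hF, hF]
  ring

omit F in
/-- A normal `p`-subgroup of index prime to `p` is the `p`-core. -/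
lemma eq_pCore {p : ℕ} [hp : Fact p.Prime] {G : Type*} [Group G] [Finite G] {K : Subgroup G}
    (hn : K.Normal) (hK : IsPGroup p K) (hi : ¬ p ∣ K.index) : Cfsg.pCore p G = K := by
  refine le_antisymm ?_ (CfsgLib.PCore.le_pCore hn hK)
  rw [← Subgroup.relIndex_eq_one]
  obtain ⟨k, hk⟩ := IsPGroup.iff_card.1 (CfsgLib.PCore.pCore_isPGroup (p := p) (G := G))
  obtain ⟨j, -, hj⟩ := (Nat.dvd_prime_pow hp.out).1
    (hk ▸ Subgroup.relIndex_dvd_card K (Cfsg.pCore p G))
  rcases Nat.eq_zero_or_pos j with rfl | hj0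
  · simpa using hj
  · exact absurd ((dvd_pow_self p hj0.ne').trans (hj ▸ Subgroup.relIndex_dvd_index_of_normal _ _)) hi

end CfsgLib.SuzukiGroup
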