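import Cfsg.Agent.Lib.SuzukiGroup.TraceOrder
import Cfsg.Agent.Lib.SuzukiGroup.SylowAut
import Cfsg.Agent.Lib.SuzukiGroup.Subgroups
import Cfsg.Agent.Lib.BinaryAct.Basic

/-!
# Binary actions of the Suzuki groups
-/

set_option autoImplicit false

open scoped MatrixGroups Matrix

namespace CfsgLib.SuzukiGroup

open Cfsg.Lie CfsgLib.BinaryAct

section Scalar

variable {F : Type*} [Field F] [Finite F] [CharP F 2]

/-- The scalar configuration attached to a proper non-trivial additive subgroup. -/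
lemma scalar_config {X : AddSubgroup F} (h0 : X ≠ ⊥) (h1 : X ≠ ⊤) :
    ∃ c e a : F, c ≠ 0 ∧ e ≠ 0 ∧ a ∈ X ∧ a / c ∉ X ∧ (a + e) / c ∈ X ∧
      ∀ x ∈ X, (∀ β ∈ X, β ≠ 0 → x / (e / β) ∈ X) → x = 0 := by
  obtain ⟨x₀, hx₀, hx₀0⟩ : ∃ x ∈ X, x ≠ 0 := by
    by_contra h
    push Not at h
    exact h0 ((AddSubgroup.eq_bot_iff_forall X).2 h)
  obtain ⟨y, hy⟩ : ∃ y, y ∉ X := by
    by_contra h
    push Not at h
    exact h1 ((AddSubgroup.eq_top_iff' X).2 h)
  set c := y / x₀ with hc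
  have hy0 : y ≠ 0 := fun h => hy (h ▸ X.zero_mem)
  have hc0 : c ≠ 0 := div_ne_zero hy0 hx₀0
  have hcx : c * x₀ ∉ X := by rwa [hc, div_mul_cancel₀ y hx₀0]
  obtain ⟨a, ha, hac⟩ : ∃ a ∈ X, a / c ∉ X := by
    by_contra h
    push Not at h
    let f : ↥X → ↥X := fun a => ⟨a / c, h a a.2⟩
    have hf : Function.Injective f := fun a b e => Subtype.ext (by
      have := congrArg Subtype.val e
      exact (div_left_inj' hc0).1 this)
    obtain ⟨⟨b, hb⟩, hbx⟩ := (Finite.injective_iff_surjective.1 hf) ⟨x₀, hx₀⟩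
    have hbx' : b / c = x₀ := congrArg Subtype.val hbx
    apply hcx
    rw [← hbx', mul_div_cancel₀ b hc0]
    exact hb
  have he : a + c * x₀ ∉ X := fun h => hcx (by
    have := X.sub_mem h ha
    rwa [add_sub_cancel_left] at this)
  have he0 : a + c * x₀ ≠ 0 := fun h => he (h ▸ X.zero_mem)
  refine ⟨c, a + c * x₀, a, hc0, he0, ha, hac, ?_, fun x hx hall => ?_⟩
  · rwa [← add_assoc, CharTwo.add_self_eq_zero, zero_add, mul_div_cancel_left₀ x₀ hc0]
  · by_contra hx0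
    let r := x / (a + c * x₀)
    have hr : ∀ β ∈ X, r * β ∈ X := fun β hβ => by
      rcases eq_or_ne β 0 with rfl | hβ0
      · rw [mul_zero]; exact X.zero_mem
      · have := hall β hβ hβ0
        rwa [div_div_eq_mul_div, mul_div_right_comm] at this
    let f : ↥X → ↥X := fun β => ⟨r * β, hr β β.2⟩
    have hr0 : r ≠ 0 := div_ne_zero hx0 he0
    have hf : Function.Injective f := fun a b e => Subtype.ext
      (mul_left_cancel₀ hr0 (congrArg Subtype.val e))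
    obtain ⟨⟨β, hβ⟩, hβx⟩ := (Finite.injective_iff_surjective.1 hf) ⟨x, hx⟩
    have hβx' : r * β = x := congrArg Subtype.val hβx
    apply he
    have hβe : β = a + c * x₀ := mul_left_cancel₀ hr0 (by rw [hβx', div_mul_cancel₀ x he0])
    exact hβe ▸ hβ

end Scalar

section Generic

variable {G : Type*} [Group G] [Finite G]

omit [Finite G] in
/-- A group of odd order satisfying `OddTI` has every non-trivial element semisimple. -/
lemma not_dvd_four_of_odd_card {g : G} (ho : Odd (Nat.card G)) (h1 : g ≠ 1) : ¬ orderOf g ∣ 4 := by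
  intro h
  refine h1 (orderOf_eq_one_iff.1 (Nat.eq_one_of_dvd_coprimes ?_ (orderOf_dvd_natCard g) h))
  rw [show 4 = 2 ^ 2 from rfl]
  exact (Nat.coprime_two_right.2 ho).pow_right 2

/-- A group of odd order satisfying `OddTI` is cyclic. -/
lemma isCyclic_of_oddTI (h : OddTI G) (ho : Odd (Nat.card G)) : IsCyclic G := by
  classical
  rcases subsingleton_or_nontrivial G with hs | hn
  · infer_instance
  have h4 : ∀ g : G, g ≠ 1 → ¬ orderOf g ∣ 4 := fun g hg => not_dvd_four_of_odd_card ho hg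
  let C : G → Subgroup G := fun g => Subgroup.centralizer {g}
  have hN : ∀ g : G, g ≠ 1 → Subgroup.normalizer (C g : Set G) = C g := by
    intro g hg
    refine le_antisymm ?_ Subgroup.le_normalizer
    rw [← Subgroup.relIndex_eq_one]
    set N := Subgroup.normalizer (C g : Set G)
    have e : Nat.card ↥(C g) * (C g).relIndex N = Nat.card ↥N := by
      rw [← (Subgroup.subgroupOfEquivOfLe (Subgroup.le_normalizer (H := C g))).toEquiv.trans
        (Equiv.refl _) |> Nat.card_congr]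
      exact Subgroup.card_mul_index _
    have hle : (C g).relIndex N ≤ 4 := by
      refine Nat.le_of_mul_le_mul_left ?_ (Nat.card_pos (α := ↥(C g)))
      rw [e, mul_comm]
      exact h.normalizer_le g (h4 g hg)
    have hdvd : (C g).relIndex N ∣ Nat.card G :=
      (Dvd.intro_left _ e).trans (Subgroup.card_subgroup_dvd_card N)
    have hodd := Odd.of_dvd_nat ho hdvd
    have h3 : (C g).relIndex N ≠ 3 := fun e3 => h.three (e3 ▸ hdvd)
    obtain ⟨j, hj⟩ := hodd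
    omega
  have hTI : ∀ g : G, g ≠ 1 → ∀ u ∈ C g, u ≠ 1 → ∀ k : G, k * u * k⁻¹ ∈ C g →
      k ∈ Subgroup.normalizer (C g : Set G) :=
    fun g hg u hu hu1 k hk => h.ti (h4 g hg) hu hu1 hk
  have hcs : ∀ g : G, g ≠ 1 → (conjSet (C g)).ncard * Nat.card ↥(C g) =
      Nat.card G * (Nat.card ↥(C g) - 1) := by
    intro g hg
    rw [ncard_conjSet (C g) (hTI g hg), hN g hg, ← Subgroup.card_mul_index (C g)]
    ring
  obtain ⟨g₀, hg₀⟩ := exists_ne (1 : G)
  have hone : ({1}ᶜ : Set G).ncard + 1 = Nat.card G := by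
    rw [Set.ncard_compl, Set.ncard_singleton]
    have : 0 < Nat.card G := Nat.card_pos
    omega
  have hall : ∀ z : G, z ≠ 1 → z ∈ conjSet (C g₀) := by
    by_contra hcon
    push Not at hcon
    obtain ⟨z, hz1, hz⟩ := hcon
    have hdis : Disjoint (conjSet (C g₀)) (conjSet (C z)) := by
      rw [Set.disjoint_left]
      rintro w ⟨hw1, k, hk⟩ ⟨-, l, hl⟩
      refine hz ⟨hz1, k * l⁻¹, ?_⟩
      have e1 := h.centralizer_eq g₀ _ (h4 _ hg₀) hk (fun e => hw1 (conj_eq_one_iff.1 e))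
      have e2 := h.centralizer_eq z _ (h4 _ hz1) hl (fun e => hw1 (conj_eq_one_iff.1 e))
      have hzc : z ∈ Subgroup.centralizer ({l * w * l⁻¹} : Set G) := by
        rw [e2]; exact mem_centralizer_self z
      show k * l⁻¹ * z * (k * l⁻¹)⁻¹ ∈ Subgroup.centralizer ({g₀} : Set G)
      rw [← e1, show k * w * k⁻¹ = k * l⁻¹ * (l * w * l⁻¹) * (k * l⁻¹)⁻¹ by group]
      exact (centralizer_conj _ _).2 hzc
    have hle := Set.ncard_le_ncard (s := conjSet (C g₀) ∪ conjSet (C z)) (t := {1}ᶜ)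
      (Set.union_subset (fun w hw => hw.1) fun w hw => hw.1) (Set.toFinite _)
    rw [Set.ncard_union_eq hdis] at hle
    obtain ⟨a, ha⟩ : ∃ a, Nat.card ↥(C g₀) = a + 5 := ⟨_, (Nat.sub_add_cancel (h.five_le (h4 _ hg₀))).symm⟩
    obtain ⟨b, hb⟩ : ∃ b, Nat.card ↥(C z) = b + 5 := ⟨_, (Nat.sub_add_cancel (h.five_le (h4 _ hz1))).symm⟩
    have h₁ := hcs g₀ hg₀
    have h₂ := hcs z hz1
    rw [ha, show a + 5 - 1 = a + 4 by omega] at h₁
    rw [hb, show b + 5 - 1 = b + 4 by omega] at h₂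
    nlinarith [Nat.mul_le_mul_right ((a + 5) * (b + 5)) hle, Nat.zero_le (a * b)]
  have heq : conjSet (C g₀) = {1}ᶜ := Set.Subset.antisymm (fun w hw => hw.1) fun z hz => hall z hz
  have h₁ := hcs g₀ hg₀
  rw [heq] at h₁
  have hfull : Nat.card G = Nat.card ↥(C g₀) := by
    obtain ⟨a, ha⟩ : ∃ a, Nat.card ↥(C g₀) = a + 5 := ⟨_, (Nat.sub_add_cancel (h.five_le (h4 _ hg₀))).symm⟩
    rw [ha, show a + 5 - 1 = a + 4 by omega] at h₁
    rw [ha]; nlinarith
  have htop : C g₀ = ⊤ := Subgroup.eq_top_of_card_eq _ hfull.symm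
  haveI : IsCyclic ↥(C g₀) := h.cyclic g₀ (h4 _ hg₀)
  exact isCyclic_of_surjective (C g₀).subtype (fun x => ⟨⟨x, htop ▸ Subgroup.mem_top x⟩, rfl⟩)

end Generic

variable {F : Type*} [Field F] [Fintype F] [CharP F 2] {m : ℕ}
  (P : Params F (2 ^ (m + 1))) (hF : Fintype.card F = 2 ^ (2 * m + 1)) (hm : 1 ≤ m)

set_option quotPrecheck false
local notation "𝔾" => ↥(Sz F (2 ^ (m + 1)))

include P hF hm in
/-- A proper subgroup containing the centre of `U` lies in the Borel subgroup. -/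
lemma le_borel_of_center {H : Subgroup 𝔾} (hZ : ∀ b, uEl P 0 b ∈ H) (hne : H ≠ ⊤) :
    H ≤ borel (F := F) (e := 2 ^ (m + 1)) := by
  classical
  have h8 := eight_le hF hm
  rcases subgroup_cases P hF hm H with (⟨k, hk⟩ | ⟨g, hg, hle⟩) | ⟨k, L, l, -, hl, hdvd, hmap⟩
  · have hu1 : uEl P (0 : F) 1 ≠ 1 := fun h => one_ne_zero ((uEl_eq_one P).1 h).2
    have hkB : k ∈ borel (F := F) (e := 2 ^ (m + 1)) := by
      refine conj_unip_ne P ⟨0, 1, rfl⟩ hu1 (mem_unip_of_even P hF hm (hk _ (hZ 1)) ?_)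
      refine (orderOf_dvd_four P (k := k⁻¹) ?_)
      rw [inv_inv]
      exact ⟨0, 1, by group⟩
    intro x hx
    have := mul_mem (mul_mem (inv_mem hkB) (hk x hx)) hkB
    rwa [mul_assoc k, inv_mul_cancel_left, inv_mul_cancel_right] at this
  · exfalso
    have hT := oddTI P hF hm
    set C := Subgroup.centralizer ({g} : Set 𝔾)
    set N := Subgroup.normalizer (C : Set 𝔾)
    let f : F × ↥C → ↥N := fun p =>
      ⟨uEl P 0 p.1 * p.2, mul_mem (hle (hZ p.1)) (Subgroup.le_normalizer p.2.2)⟩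
    have hf : Function.Injective f := by
      rintro ⟨b, c⟩ ⟨b', c'⟩ h
      have h' : uEl P 0 b * (c : 𝔾) = uEl P 0 b' * c' := congrArg Subtype.val h
      have e' : (uEl P 0 b')⁻¹ * uEl P 0 b = (c' : 𝔾) * (c : 𝔾)⁻¹ := by
        rw [eq_mul_inv_iff_mul_eq, mul_assoc, h', inv_mul_cancel_left]
      have hbb : b = b' := by
        by_contra hne'
        have hmem : (uEl P 0 b')⁻¹ * uEl P 0 b ∈ C := e' ▸ mul_mem c'.2 (inv_mem c.2)
        rw [uEl_div] at hmem
        have hne0 : uEl P 0 (b' + b) ≠ 1 := fun h =>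
          hne' (CharTwo.add_eq_zero.1 ((uEl_eq_one P).1 h).2).symm
        exact hT.not_dvd_four hg hmem hne0 (orderOf_dvd_four P (k := 1) (by simpa using ⟨0, b' + b, rfl⟩))
      subst hbb
      exact Prod.ext rfl (Subtype.ext (mul_left_cancel h'))
    have h1 := Nat.card_le_card_of_injective f hf
    rw [Nat.card_prod, Nat.card_eq_fintype_card (α := F)] at h1
    have h2 := hT.normalizer_le g hg
    have h3 : 0 < Nat.card ↥C := Nat.card_pos
    have h4 := Nat.le_of_mul_le_mul_right (h1.trans h2) h3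
    omega
  · exfalso
    let f : F → ↥(subGroup (e := 2 ^ (m + 1)) L) := fun b =>
      ⟨k * uEl P 0 b * k⁻¹, hmap ▸ ⟨uEl P 0 b, hZ b, rfl⟩⟩
    let Zs : Subgroup ↥(subGroup (e := 2 ^ (m + 1)) L) :=
      { carrier := Set.range f
        mul_mem' := by
          rintro _ _ ⟨a, rfl⟩ ⟨b, rfl⟩
          exact ⟨a + b, Subtype.ext (by
            show k * uEl P 0 (a + b) * k⁻¹ = k * uEl P 0 a * k⁻¹ * (k * uEl P 0 b * k⁻¹)
            rw [show uEl P 0 (a + b) = uEl P 0 a * uEl P 0 b by rw [uEl_mul]; simp]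
            group)⟩
        one_mem' := ⟨0, Subtype.ext (by
          show k * uEl P 0 0 * k⁻¹ = 1
          rw [uEl_zero]; group)⟩
        inv_mem' := by
          rintro _ ⟨a, rfl⟩
          exact ⟨a, Subtype.ext (by
            show k * uEl P 0 a * k⁻¹ = (k * uEl P 0 a * k⁻¹)⁻¹
            rw [mul_inv_rev, mul_inv_rev, inv_inv, uEl_inv, zero_mul, add_zero, mul_assoc])⟩ }
    have hfi : Function.Injective f := fun a b h =>
      (uEl_inj P (mul_left_cancel (mul_right_cancel (congrArg Subtype.val h :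
        k * uEl P 0 a * k⁻¹ = k * uEl P 0 b * k⁻¹)))).2
    have hdiv : Nat.card F ∣ Nat.card ↥(subGroup (e := 2 ^ (m + 1)) L) := by
      rw [Nat.card_congr (Equiv.ofInjective f hfi)]
      exact Subgroup.card_subgroup_dvd_card Zs
    rw [card_subGroup P L, Nat.card_eq_fintype_card, hF, hl] at hdiv
    obtain ⟨d, hd⟩ := hdvd
    have hl0 : l ≠ 0 := fun h => by rw [h, zero_mul] at hd; omega
    have hcop : Nat.Coprime (2 ^ (2 * m + 1)) ((2 ^ l - 1) * ((2 ^ l) ^ 2 + 1)) := by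
      refine Nat.Coprime.pow_left _ (Nat.coprime_two_left.2 (Odd.mul ?_ ?_))
      · exact Nat.Even.sub_odd Nat.one_le_two_pow (Nat.even_pow.2 ⟨even_two, hl0⟩) odd_one
      · exact ((Nat.even_pow.2 ⟨even_two, hl0⟩).pow_of_ne_zero two_ne_zero).add_one
    rw [mul_assoc] at hdiv
    have h2 := hcop.dvd_of_dvd_mul_right hdiv
    rw [← pow_mul, Nat.pow_dvd_pow_iff_le_right (by norm_num)] at h2
    rcases Nat.lt_or_ge d 3 with hd3 | hd3
    · have hd1 : d = 1 := by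
        interval_cases d
        · omega
        · rfl
        · omega
      rw [hd1, mul_one] at hd
      have htop : L = ⊤ := by
        apply SetLike.coe_injective
        rw [Subfield.coe_top]
        refine Set.eq_of_subset_of_ncard_le (Set.subset_univ _) ?_ (Set.toFinite _)
        rw [Set.ncard_univ, ← Nat.card_coe_set_eq, Nat.card_eq_fintype_card (α := F), hF, hd]
        exact hl.ge
      refine hne (Subgroup.map_injective (f := (MulAut.conj k).toMonoidHom) (MulAut.conj k).injective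
        (hmap.trans ?_))
      rw [Subgroup.map_top_of_surjective _ (MulAut.conj k).surjective, eq_top_iff]
      intro g _
      exact (mem_subGroup L).2 fun i j => by rw [htop]; exact Subfield.mem_top _
    · have := Nat.mul_le_mul_left l hd3
      omega

include P hF hm in
/-- The elements of `H` which all `U`-conjugates keep in `H` are unipotent. -/
lemma core_le_unip {H : Subgroup 𝔾} (hne : H ≠ ⊤) (hU : ¬ unip P ≤ H) {g : 𝔾}
    (hg : ∀ u ∈ unip P, u⁻¹ * g * u ∈ H) {b₀ : F} (hb₀ : b₀ ≠ 0) (hb₀H : uEl P 0 b₀ ∈ H) :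
    g ∈ unip P := by
  classical
  let M : Subgroup 𝔾 :=
    { carrier := {x | ∀ u ∈ unip P, u⁻¹ * x * u ∈ H}
      mul_mem' := fun {x y} hx hy u hu => by
        have := mul_mem (hx u hu) (hy u hu)
        rwa [show u⁻¹ * x * u * (u⁻¹ * y * u) = u⁻¹ * (x * y) * u by group] at this
      one_mem' := fun u _ => by simp
      inv_mem' := fun {x} hx u hu => by
        have := inv_mem (hx u hu)
        rwa [show (u⁻¹ * x * u)⁻¹ = u⁻¹ * x⁻¹ * u by group] at this }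
  have hMH : M ≤ H := fun x hx => by simpa using hx 1 (one_mem _)
  have hnorm : ∀ w ∈ unip P, ∀ x ∈ M, w * x * w⁻¹ ∈ M := fun w hw x hx u hu => by
    have := hx (w⁻¹ * u) (mul_mem (inv_mem hw) hu)
    rwa [show (w⁻¹ * u)⁻¹ * x * (w⁻¹ * u) = u⁻¹ * (w * x * w⁻¹) * u by group] at this
  have hb₀M : uEl P 0 b₀ ∈ M := by
    rintro _ ⟨c, d, rfl⟩
    rwa [mul_assoc, (uEl_comm_iff P 0 b₀ c d).2 (by simp), inv_mul_cancel_left]
  have hgB : g ∈ borel (F := F) (e := 2 ^ (m + 1)) := by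
    by_contra hgB
    have htop : M ⊔ unip P = ⊤ := by
      by_contra hL
      exact hgB (le_borel_of_center P hF hm (fun b => Subgroup.mem_sup_right (show uEl P 0 b ∈ unip P from ⟨0, b, rfl⟩)) hL
        (Subgroup.mem_sup_left hg))
    have hMn : M.Normal := by
      rw [← Subgroup.normalizer_eq_top_iff, eq_top_iff, ← htop, sup_le_iff]
      refine ⟨Subgroup.le_normalizer, fun w hw => Subgroup.mem_normalizer_iff.2 fun n =>
        ⟨hnorm w hw n, fun h => ?_⟩⟩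
      have := hnorm w⁻¹ (inv_mem hw) _ h
      rwa [show w⁻¹ * (w * n * w⁻¹) * w⁻¹⁻¹ = n by group] at this
    rcases (isSimple P (two_lt_card hm hF)).eq_bot_or_eq_top_of_normal M hMn with h | h
    · exact hb₀ ((uEl_eq_one P).1 (Subgroup.mem_bot.1 (h ▸ hb₀M))).2
    · exact hne (top_le_iff.1 (h ▸ hMH))
  obtain ⟨a, b, y, hy⟩ := borel_form P hgB
  by_contra hgU
  have hf : ∀ v : ↥(unip P), (v : 𝔾) * g * (v : 𝔾)⁻¹ * g⁻¹ ∈ unip P := fun v => by
    rw [mul_assoc, mul_assoc, ← mul_assoc g]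
    exact mul_mem v.2 ((Subgroup.mem_normalizer_iff.1 (borel_le_normalizer P hgB) _).1 (inv_mem v.2))
  let f : ↥(unip P) → ↥(unip P) := fun v => ⟨_, hf v⟩
  have hinj : Function.Injective f := by
    intro v w h
    have h' : (v : 𝔾) * g * (v : 𝔾)⁻¹ * g⁻¹ = (w : 𝔾) * g * (w : 𝔾)⁻¹ * g⁻¹ := congrArg Subtype.val h
    by_contra hne'
    refine hgU (centralizer_le_unip P (mul_mem (inv_mem w.2) v.2)
      (fun e => hne' (Subtype.ext (inv_mul_eq_one.1 e).symm)) ?_)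
    rw [Subgroup.mem_centralizer_singleton_iff]
    calc g * ((w : 𝔾)⁻¹ * v) = (w : 𝔾)⁻¹ * ((w : 𝔾) * g * (w : 𝔾)⁻¹ * g⁻¹) * g * v := by group
      _ = (w : 𝔾)⁻¹ * v * g := by rw [← h']; group
  refine hU fun z hz => ?_
  obtain ⟨v, hv⟩ := (Finite.injective_iff_surjective.1 hinj) ⟨z, hz⟩
  have hv' : (v : 𝔾) * g * (v : 𝔾)⁻¹ * g⁻¹ = z := congrArg Subtype.val hv
  exact hMH (hv' ▸ mul_mem (hnorm v v.2 g hg) (inv_mem hg))

lemma dEl_inv_conj (x : Fˣ) (a b : F) :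
    (dEl P x)⁻¹ * uEl P a b * dEl P x = uEl P (a / ((x : F) * x / P.θ x)) (b / P.θ x) := by
  have hθ : P.θ (x : F) ≠ 0 := by simp
  have e : uEl P a b * dEl P x =
      dEl P x * uEl P (a / ((x : F) * x / P.θ x)) (b / P.θ x) := by
    rw [dEl_mul_uEl, mul_div_cancel₀ a (div_ne_zero (mul_ne_zero x.ne_zero x.ne_zero) hθ),
      mul_div_cancel₀ b hθ]
  rw [mul_assoc, e, inv_mul_cancel_left]

include P hF hm in
/-- Part of `U` in a binary stabiliser: either the whole of `U`, or exactly its centre. -/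
lemma unip_part {H : Subgroup 𝔾} (hb : IsBinary H) (hne : H ≠ ⊤) (hU : ¬ unip P ≤ H) {b₀ : F}
    (hb₀ : b₀ ≠ 0) (hb₀H : uEl P 0 b₀ ∈ H) :
    (∀ b, uEl P 0 b ∈ H) ∧ ∀ a b, uEl P a b ∈ H → a = 0 := by
  classical
  let A : AddSubgroup F :=
    { carrier := {b | uEl P 0 b ∈ H}
      zero_mem' := by show uEl P 0 0 ∈ H; rw [uEl_zero]; exact one_mem _
      add_mem' := fun {a b} ha hb => by
        show uEl P 0 (a + b) ∈ H
        rw [show uEl P 0 (a + b) = uEl P 0 a * uEl P 0 b by rw [uEl_mul]; simp]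
        exact mul_mem ha hb
      neg_mem' := fun {a} ha => by simpa [CharTwo.neg_eq] using ha }
  have hsq : ∀ a b, uEl P a b ∈ H → a * P.θ a ∈ A := fun a b h => by
    show uEl P 0 (a * P.θ a) ∈ H
    rw [← uEl_sq P a b]; exact pow_mem h 2
  have hcen : ∀ b u, u ∈ unip P → u⁻¹ * uEl P 0 b * u = uEl P 0 b := by
    rintro b _ ⟨c, d, rfl⟩
    rw [mul_assoc, (uEl_comm_iff P 0 b c d).2 (by simp), inv_mul_cancel_left]
  have hAtop : A = ⊤ := by
    by_contra hA
    obtain ⟨c, e, a, hc, he, ha, hac, hae, hall⟩ := scalar_config (X := A)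
      (fun h => hb₀ (by simpa [h] using (show b₀ ∈ A from hb₀H))) hA
    have ht : ∀ t : F, t ≠ 0 → ∃ x : Fˣ, P.θ (x : F) = t := by
      intro t ht
      obtain ⟨x, rfl⟩ := (theta_bijective P).2 t
      exact ⟨Units.mk0 x (fun h => ht (by rw [h, map_zero])), rfl⟩
    obtain ⟨xc, hxc⟩ := ht c hc
    choose xd hxd using fun β : {β : F // β ∈ A ∧ β ≠ 0} =>
      ht (e / β.1) (div_ne_zero he β.2.2)
    obtain ⟨g, hgH, hgp, hgc⟩ := hb.exists_fix (ι := ↥(unip P) ⊕ {β : F // β ∈ A ∧ β ≠ 0})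
      (Sum.elim (fun u => (u : 𝔾)) (fun β => dEl P (xd β))) (dEl P xc) (uEl P 0 a) ha (by
      rintro (u | β)
      · refine ⟨uEl P 0 a, ?_, by simp⟩
        simp only [Sum.elim_inl]
        rw [hcen a u u.2]; exact ha
      · refine ⟨uEl P 0 e, ?_, ?_⟩
        · simp only [Sum.elim_inr]
          rw [dEl_inv_conj, zero_div, hxd, div_div_eq_mul_div, mul_div_assoc, mul_comm,
            div_mul_cancel₀ _ he]
          exact β.2.1
        · rw [uEl_div, dEl_inv_conj, zero_div, hxc, add_comm e a]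
          exact hae)
    obtain ⟨w, x, rfl⟩ := core_le_unip P hF hm hne hU (fun u hu => hgp (Sum.inl ⟨u, hu⟩)) hb₀ hb₀H
    have hw : w = 0 := by
      refine theta_mul_inj P ?_
      rw [map_zero, mul_zero]
      refine hall _ (hsq w x hgH) fun β hβ hβ0 => ?_
      have hk := hgp (Sum.inr ⟨β, hβ, hβ0⟩)
      simp only [Sum.elim_inr] at hk
      rw [dEl_inv_conj] at hk
      have := hsq _ _ hk
      rwa [map_div₀, div_mul_div_comm, ← theta_eq_scale P (xd ⟨β, hβ, hβ0⟩).ne_zero, hxd] at this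
    subst hw
    have hx : x = 0 := by
      refine hall x hgH fun β hβ hβ0 => ?_
      have hk := hgp (Sum.inr ⟨β, hβ, hβ0⟩)
      simp only [Sum.elim_inr] at hk
      rwa [dEl_inv_conj, zero_div, hxd] at hk
    subst hx
    rw [uEl_zero, inv_one, one_mul, dEl_inv_conj, zero_div, hxc] at hgc
    exact hac hgc
  have hZ : ∀ b, uEl P 0 b ∈ H := fun b => (show b ∈ A by rw [hAtop]; trivial)
  refine ⟨hZ, fun a₁ b₁ h₁ => ?_⟩
  by_contra ha₁
  let X : AddSubgroup F :=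
    { carrier := {a | uEl P a 0 ∈ H}
      zero_mem' := hZ 0
      add_mem' := fun {a c} ha hc => by
        show uEl P (a + c) 0 ∈ H
        have := mul_mem (mul_mem ha hc) (hZ (a * P.θ c))
        rwa [uEl_mul, uEl_mul, add_zero, map_zero, mul_zero, add_zero, zero_add, zero_add,
          CharTwo.add_self_eq_zero] at this
      neg_mem' := fun {a} ha => by simpa [CharTwo.neg_eq] using ha }
  have hmem : ∀ a b, uEl P a b ∈ H ↔ a ∈ X := fun a b => by
    have e : uEl P a b = uEl P a 0 * uEl P 0 b := by rw [uEl_mul]; simp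
    rw [e, H.mul_mem_cancel_right (hZ b)]
    rfl
  obtain ⟨c, e, a, hc, he, ha, hac, hae, hall⟩ := scalar_config (X := X)
    (fun h => ha₁ (by simpa [h] using (hmem a₁ b₁).1 h₁))
    (fun h => hU (by rintro _ ⟨a, b, rfl⟩; exact (hmem a b).2 (by rw [h]; trivial)))
  obtain ⟨xc, hxc⟩ := exists_scale' P hc
  choose xd hxd using fun β : {β : F // β ∈ X ∧ β ≠ 0} =>
    exists_scale' P (k := e / β.1) (div_ne_zero he β.2.2)
  obtain ⟨g, hgH, hgp, hgc⟩ := hb.exists_fix (ι := ↥(unip P) ⊕ {β : F // β ∈ X ∧ β ≠ 0})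
    (Sum.elim (fun u => (u : 𝔾)) (fun β => dEl P (xd β))) (dEl P xc) (uEl P a 0) ha (by
    rintro (⟨_, p, q, rfl⟩ | β)
    · refine ⟨uEl P a 0, ?_, by simp⟩
      simp only [Sum.elim_inl]
      rw [uEl_inv, uEl_mul, uEl_mul]
      refine (hmem _ _).2 ?_
      rwa [add_comm p a, add_assoc, CharTwo.add_self_eq_zero, add_zero]
    · refine ⟨uEl P e 0, ?_, ?_⟩
      · simp only [Sum.elim_inr]
        rw [dEl_inv_conj, hxd, div_div_eq_mul_div, mul_div_assoc, mul_comm, div_mul_cancel₀ _ he]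
        exact (hmem _ _).2 β.2.1
      · rw [uEl_inv, uEl_mul, dEl_inv_conj, hxc, add_comm e a]
        exact (hmem _ _).2 hae)
  obtain ⟨w, x, rfl⟩ := core_le_unip P hF hm hne hU (fun u hu => hgp (Sum.inl ⟨u, hu⟩)) hb₀ hb₀H
  have hw : w = 0 := by
    refine hall w ((hmem w x).1 hgH) fun β hβ hβ0 => ?_
    have hk := hgp (Sum.inr ⟨β, hβ, hβ0⟩)
    simp only [Sum.elim_inr] at hk
    rw [dEl_inv_conj, hxd] at hk
    exact (hmem _ _).1 hk
  subst hw
  rw [uEl_inv, uEl_mul, dEl_inv_conj, hxc, zero_add] at hgc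
  exact hac ((hmem _ _).1 hgc)

include P hF hm in
/-- A subgroup between `U` and `G` is not binary. -/
lemma not_binary_of_unip_le {H : Subgroup 𝔾} (hb : IsBinary H) (hne : H ≠ ⊤) (hU : unip P ≤ H) :
    False := by
  classical
  set B := borel (F := F) (e := 2 ^ (m + 1)) with hBdef
  have hHB : H ≤ B := le_borel_of_center P hF hm (fun b => hU ⟨0, b, rfl⟩) hne
  let Q := MulAction.orbitRel.Quotient ↥H (𝔾 ⧸ H)
  let R := ↥B ⧸ H.subgroupOf B
  let f : R ⊕ R → Q := Sum.elim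
    (fun b => Quotient.mk _ (((b.out : ↥B) : 𝔾) : 𝔾 ⧸ H))
    (fun b => Quotient.mk _ ((jEl P * (b.out : ↥B) : 𝔾) : 𝔾 ⧸ H))
  have hout : ∀ (h : ↥B), (((QuotientGroup.mk h : R).out : ↥B) : 𝔾)⁻¹ * (h : 𝔾) ∈ H := fun h =>
    Subgroup.mem_subgroupOf.1 (QuotientGroup.eq.1 (Quotient.out_eq (QuotientGroup.mk h : R)))
  have hsurj : Function.Surjective f := by
    intro o
    induction o using Quotient.inductionOn with
    | h x =>
      obtain ⟨g, rfl⟩ := QuotientGroup.mk_surjective x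
      by_cases hg : g ∈ B
      · refine ⟨Sum.inl (QuotientGroup.mk ⟨g, hg⟩), Quotient.sound ?_⟩
        rw [show ((((QuotientGroup.mk ⟨g, hg⟩ : R).out : ↥B) : 𝔾) : 𝔾 ⧸ H) = (g : 𝔾 ⧸ H) from
          QuotientGroup.eq.2 (hout ⟨g, hg⟩)]
      · obtain ⟨a, b, h, hh, rfl⟩ := bruhat P hg
        refine ⟨Sum.inr (QuotientGroup.mk ⟨h, hh⟩), Quotient.sound ?_⟩
        refine MulAction.orbitRel_apply.2 ⟨⟨(uEl P a b)⁻¹, inv_mem (hU ⟨a, b, rfl⟩)⟩, ?_⟩
        show (uEl P a b)⁻¹ • ((uEl P a b * jEl P * h : 𝔾) : 𝔾 ⧸ H) = _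
        rw [smul_eq_iff, mul_inv_rev, jEl_inv, mul_assoc (uEl P a b)]
        simpa [mul_assoc, ← mul_assoc (jEl P) (jEl P), jEl_mul_self] using hout ⟨h, hh⟩
  have hr : Nat.card Q ≤ 2 * H.relIndex B := by
    refine (Nat.card_le_card_of_surjective f hsurj).trans (le_of_eq ?_)
    rw [Nat.card_sum, Subgroup.relIndex, Subgroup.index_eq_card, two_mul]
  have hle := hb.index_sq_le hr
  rw [← Subgroup.relIndex_mul_index hHB, hBdef, index_borel P] at hle
  have hk : Nat.card ↥H * H.relIndex B = Fintype.card F ^ 2 * (Fintype.card F - 1) := by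
    rw [← card_borel P, ← Subgroup.card_mul_index (H.subgroupOf B),
      Nat.card_congr (Subgroup.subgroupOfEquivOfLe hHB).toEquiv]
    rfl
  rw [← hBdef] at hle
  set k := H.relIndex B
  have hk0 : 0 < k := Nat.pos_of_ne_zero Subgroup.index_ne_zero_of_finite
  have h8 := eight_le hF hm
  set q := Fintype.card F
  obtain ⟨q', hq'⟩ : ∃ q', q = q' + 1 := ⟨q - 1, by omega⟩
  rw [hq', show q' + 1 - 1 = q' by omega, ← hq'] at hk
  have e1 : k ^ 2 * (q ^ 2 + 1) ^ 2 ≤ k ^ 2 * (8 * (q ^ 2 * q')) := by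
    calc k ^ 2 * (q ^ 2 + 1) ^ 2 = (k * (q ^ 2 + 1)) ^ 2 := by ring
      _ ≤ Nat.card ↥H * (2 * k) ^ 3 := hle
      _ = k ^ 2 * (8 * (Nat.card ↥H * k)) := by ring
      _ = k ^ 2 * (8 * (q ^ 2 * q')) := by rw [hk]
  have e2 := Nat.le_of_mul_le_mul_left e1 (pow_pos hk0 2)
  have e3 : 8 * (q ^ 2 * q') ≤ q * (q ^ 2 * q') := Nat.mul_le_mul_right _ h8
  have e4 : q * (q ^ 2 * q') ≤ q * (q ^ 2 * q) :=
    Nat.mul_le_mul_left _ (Nat.mul_le_mul_left _ (by omega))
  nlinarith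

include P hF hm in
/-- A stabiliser with unipotent part the centre of `U` has no toral element. -/
lemma not_binary_of_torus {H : Subgroup 𝔾} (hb : IsBinary H) (hne : H ≠ ⊤)
    (hZ : ∀ b, uEl P 0 b ∈ H) (hV : ∀ a b, uEl P a b ∈ H → a = 0) {X : Fˣ} (hX : X ≠ 1)
    (hXH : dEl P X ∈ H) : False := by
  have hHB := le_borel_of_center P hF hm hZ hne
  have hX2 : X * X ≠ 1 := fun h => hX (Units.ext (sq_eq_one (congrArg Units.val h)))
  set s : F := ((X⁻¹ : Fˣ) : F) * (X⁻¹ : Fˣ) / P.θ ((X⁻¹ : Fˣ) : F) with hs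
  have hs1 : s + 1 ≠ 0 := fun h => hX (inv_eq_one.1 (Units.ext
    (scale_eq_one P (X⁻¹).ne_zero (CharTwo.add_eq_zero.1 h))))
  -- `k = v dEl X⁻¹ v⁻¹` with `v = u(1,0)`
  set v := uEl P 1 0 with hv
  set k := v * dEl P X⁻¹ * v⁻¹ with hk
  have hkd : k = uEl P (1 + s) (P.θ ((X⁻¹ : Fˣ) : F) * P.θ 1 + P.θ s) * dEl P X⁻¹ := by
    rw [hk, hv, uEl_inv, mul_assoc, dEl_mul_uEl, ← mul_assoc, uEl_mul]
    congr 2 <;> simp [hs]
  obtain ⟨p, r, hpr⟩ : ∃ p r, k⁻¹ * dEl P X = uEl P p r * dEl P (X * X) ∧ p ≠ 0 := by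
    refine ⟨(X : F) * X / P.θ X * (1 + s), P.θ X * ((P.θ ((X⁻¹ : Fˣ) : F) * P.θ 1 + P.θ s) +
      (1 + s) * P.θ (1 + s)), ?_, ?_⟩
    · rw [hkd, mul_inv_rev, uEl_inv, dEl_inv, inv_inv, dEl_mul_uEl, mul_assoc, dEl_mul]
    · exact mul_ne_zero (div_ne_zero (mul_ne_zero X.ne_zero X.ne_zero) (by simp))
        (by rw [add_comm]; exact hs1)
  obtain ⟨w, hwU, hw⟩ := exists_conj_dEl P p r hX2
  obtain ⟨g, hgH, hgp, hgc⟩ := hb.exists_fix (ι := Unit) (fun _ => v) w (dEl P X) hXH (by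
    intro _
    refine ⟨k, ?_, ?_⟩
    · rw [hk, show v⁻¹ * (v * dEl P X⁻¹ * v⁻¹) * v = dEl P X⁻¹ by group, ← dEl_inv]
      exact inv_mem hXH
    · rw [hpr.1, hw, show w⁻¹ * (w * dEl P (X * X) * w⁻¹) * w = dEl P (X * X) by group, ← dEl_mul]
      exact mul_mem hXH hXH)
  obtain ⟨a, b, y, hy⟩ := borel_form P (hHB hgH)
  have hconj : ∀ (z : 𝔾) (_ : z ∈ unip P) (a b : F) (y : Fˣ),
      ∃ a' b', z⁻¹ * (uEl P a b * dEl P y) * z = uEl P a' b' * dEl P y := by
    rintro _ ⟨c, d, rfl⟩ a b y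
    rw [← mul_assoc, mul_assoc, dEl_mul_uEl, ← mul_assoc, uEl_inv, uEl_mul, uEl_mul]
    exact ⟨_, _, rfl⟩
  -- `g` has no toral part
  have ha : a = 0 := by
    by_contra ha
    have h := hgH
    rcases eq_or_ne y 1 with rfl | hy1
    · rw [hy, dEl_one, mul_one] at h
      exact ha (hV a b h)
    · -- conjugating by `g` moves `dEl X`
      have h2 := mul_mem (mul_mem hgH hXH) (inv_mem hgH)
      have e : g * dEl P X * g⁻¹ =
          uEl P (a + (X : F) * X / P.θ X * a) (b + P.θ X * (b + a * P.θ a) +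
            a * P.θ ((X : F) * X / P.θ X * a)) * dEl P X := by
        rw [hy, mul_assoc (uEl P a b), dEl_mul, mul_comm y X, ← dEl_mul, ← mul_assoc, mul_inv_rev,
          mul_assoc (uEl P a b * dEl P X), ← mul_assoc (dEl P y), mul_inv_cancel, one_mul, uEl_inv,
          mul_assoc, dEl_mul_uEl, ← mul_assoc, uEl_mul]
      have h3 := mul_mem h2 (inv_mem hXH)
      rw [e, mul_inv_cancel_right] at h3
      have h4 : (1 + (X : F) * X / P.θ X) * a = 0 := by
        rw [add_mul, one_mul]; exact hV _ _ h3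
      rcases mul_eq_zero.1 h4 with h5 | h5
      · exact hX (Units.ext (scale_eq_one P X.ne_zero (CharTwo.add_eq_zero.1 h5).symm))
      · exact ha h5
  subst ha
  have hy1 : y = 1 := by
    have h := hgp ()
    rw [hy] at h
    have hd : dEl P y ∈ H := by
      have := mul_mem (inv_mem (hZ b)) hgH
      rwa [hy, inv_mul_cancel_left] at this
    have e : v⁻¹ * (uEl P 0 b * dEl P y) * v = uEl P (1 + (y : F) * y / P.θ y)
        (b + P.θ y * 0 + P.θ 1 + ((1 : F) * P.θ ((y : F) * y / P.θ y))) * dEl P y := by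
      rw [hv, ← mul_assoc, mul_assoc, dEl_mul_uEl, ← mul_assoc, uEl_inv, uEl_mul, uEl_mul]
      congr 2 <;> simp <;> ring
    rw [e] at h
    have h2 := mul_mem h (inv_mem hd)
    rw [mul_inv_cancel_right] at h2
    exact Units.ext (scale_eq_one P y.ne_zero (CharTwo.add_eq_zero.1 (hV _ _ h2)).symm)
  rw [hy, hy1, dEl_one, mul_one] at hgc
  obtain ⟨c, d, rfl⟩ := hwU
  obtain ⟨c', d', hcd⟩ := hconj (uEl P c d) ⟨c, d, rfl⟩ 0 (b + 0 * P.θ 0) X
  rw [uEl_inv P 0 b] at hgc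
  have h2 := mul_mem hgc (inv_mem hXH)
  have e : (uEl P c d)⁻¹ * (uEl P 0 (b + 0 * P.θ 0) * dEl P X) * uEl P c d * (dEl P X)⁻¹ =
      uEl P (c + (X : F) * X / P.θ X * c) (d + c * P.θ c + (b + 0) + P.θ X * d +
        c * P.θ ((X : F) * X / P.θ X * c)) := by
    rw [← mul_assoc, mul_assoc _ (dEl P X), dEl_mul_uEl, ← mul_assoc, mul_inv_cancel_right,
      uEl_inv, uEl_mul, uEl_mul]
    congr 1 <;> simp
  rw [← mul_assoc] at h2
  have h4 := h2
  rw [show (uEl P c d)⁻¹ * uEl P 0 (b + 0 * P.θ 0) * dEl P X * uEl P c d * (dEl P X)⁻¹ =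
    (uEl P c d)⁻¹ * (uEl P 0 (b + 0 * P.θ 0) * dEl P X) * uEl P c d * (dEl P X)⁻¹ by group, e] at h4
  have h5 : (1 + (X : F) * X / P.θ X) * c = 0 := by
    rw [add_mul, one_mul]; exact hV _ _ h4
  have hc : c = 0 := (mul_eq_zero.1 h5).resolve_left fun h6 =>
    hX (Units.ext (scale_eq_one P X.ne_zero (CharTwo.add_eq_zero.1 h6).symm))
  subst hc
  -- then `k⁻¹ dEl X` has unipotent coordinate zero
  have e2 : uEl P 0 d * dEl P (X * X) * (uEl P 0 d)⁻¹ =
      uEl P 0 (d + P.θ ((X * X : Fˣ) : F) * d) * dEl P (X * X) := by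
    rw [uEl_inv, mul_assoc, dEl_mul_uEl, ← mul_assoc, uEl_mul]
    congr 2 <;> simp
  rw [e2] at hw
  exact hpr.2 (uEl_inj P (mul_right_cancel hw)).1

include P hF hm in
/-- An odd order stabiliser is not binary. -/
lemma not_binary_of_odd {H : Subgroup 𝔾} (hb : IsBinary H) (h1 : H ≠ ⊥)
    (ho : Odd (Nat.card ↥H)) : False := by
  classical
  have hT := oddTI P hF hm
  haveI := isCyclic_of_oddTI (hT.subgroup H) ho
  obtain ⟨y, hy⟩ := IsCyclic.exists_generator (α := ↥H)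
  have hyo : Odd (orderOf (y : 𝔾)) := by
    rw [Subgroup.orderOf_coe]; exact Odd.of_dvd_nat ho (orderOf_dvd_natCard y)
  have hy1 : (y : 𝔾) ≠ 1 := by
    intro e
    refine h1 ((Subgroup.eq_bot_iff_forall H).2 fun x hx => ?_)
    obtain ⟨j, hj⟩ := hy ⟨x, hx⟩
    have := congrArg Subtype.val hj
    rw [SubgroupClass.coe_zpow, e, one_zpow] at this
    exact this.symm
  obtain ⟨B₀, hB₀⟩ := (theta_bijective P).2 (mat (y : 𝔾)).trace
  have htr : ∀ a b : F, (mat (uEl P a b * jEl P)).trace =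
      uMat P.θ a b 0 3 + P.θ a := fun a b => by
    simp [Matrix.trace, Fin.sum_univ_four, Matrix.mul_apply, uMat, jMat]
  set x₀ := uEl P 0 B₀ * jEl P with hx₀
  have ht₀ : (mat x₀).trace = (mat (y : 𝔾)).trace := by
    rw [hx₀, htr]
    simp [uMat, hB₀]
  have hne0 : (mat x₀).trace ≠ 0 := ht₀ ▸ trace_ne_zero_of_odd P hF hm hyo hy1
  have hx4 : ¬ orderOf x₀ ∣ 4 := not_dvd_four_of_trace P hF hm hne0
  have hxo : Odd (orderOf x₀) := hT.odd_order hx4
  obtain ⟨k₀, hk₀⟩ := exists_conj_zpowers P hF hm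
    (not_dvd_four_of_trace P hF hm (ht₀ ▸ hne0)) hx4
    (orderOf_eq_of_trace P hF hm hxo hyo ht₀)
  -- move `H` so that it contains `x₀`
  set H' := H.map (MulAut.conj k₀⁻¹).toMonoidHom with hH'
  have hb' : IsBinary H' := hb.map k₀⁻¹
  have hx₀H : x₀ ∈ H' := by
    obtain ⟨j, hj⟩ := hk₀
    refine ⟨(y : 𝔾) ^ j, zpow_mem y.2 j, ?_⟩
    show k₀⁻¹ * (y : 𝔾) ^ j * k₀⁻¹⁻¹ = x₀
    rw [show (y : 𝔾) ^ j = k₀ * x₀ * k₀⁻¹ from hj]
    group
  set C := Subgroup.centralizer ({x₀} : Set 𝔾) with hC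
  have hHC : H' ≤ C := by
    rintro _ ⟨z, hz, rfl⟩
    obtain ⟨z', hz', hx'⟩ := hx₀H
    rw [hC, Subgroup.mem_centralizer_singleton_iff, ← hx', ← map_mul, ← map_mul]
    exact congrArg _ (congrArg Subtype.val
      ((IsCyclic.commGroup (α := ↥H)).mul_comm ⟨z, hz⟩ ⟨z', hz'⟩))
  have hgen : ∀ z : 𝔾, z ∈ Subgroup.zpowers x₀ → z ∈ H' := fun z hz => by
    obtain ⟨j, rfl⟩ := hz; exact zpow_mem hx₀H j
  -- the second element
  obtain ⟨r, hr⟩ : ∃ r : F, r * r = (mat x₀).trace :=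
    (Finite.injective_iff_surjective.1 (fun a b (h : a * a = b * b) => by
      rcases mul_self_eq_mul_self_iff.1 h with h | h
      · exact h
      · rwa [CharTwo.neg_eq] at h)) _
  have hN : ∀ a b, uEl P a b ∈ Subgroup.normalizer (C : Set 𝔾) → a * P.θ a = B₀ ∨ a = 0 ∧ (b = 0 ∨ b = B₀) := by
    intro a b hn
    have inv : ∀ d : F, d ≠ 0 → uEl P 0 d ∈ Subgroup.normalizer (C : Set 𝔾) → d = B₀ := by
      intro d hd0 hd
      set n := uEl P 0 d with hn'
      have hn2 : n * n = 1 := by rw [hn', uEl_mul]; simp [CharTwo.add_self_eq_zero, uEl_zero]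
      have hni : n⁻¹ = n := inv_eq_of_mul_eq_one_right hn2
      have hn1 : n ≠ 1 := fun h => hd0 ((uEl_eq_one P).1 h).2
      have hxC : x₀ ∈ C := mem_centralizer_self x₀
      have hy' := (Subgroup.mem_normalizer_iff.1 hd x₀).1 hxC
      rw [hni] at hy'
      set c := x₀ * (n * x₀ * n) with hcdef
      have hcC : c ∈ C := mul_mem hxC hy'
      have hfix : n * c * n = c := by
        have hcomm : x₀ * (n * x₀ * n) = n * x₀ * n * x₀ :=
          (Subgroup.mem_centralizer_singleton_iff.1 hy').symm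
        calc n * c * n = n * x₀ * n * x₀ * (n * n) := by rw [hcdef]; group
          _ = c := by rw [hn2, mul_one, hcdef, hcomm]
      have hc1 : c = 1 := by
        by_contra hc1
        have h4 : ¬ orderOf c ∣ 4 := hT.not_dvd_four hx4 hcC hc1
        refine hn1 ?_
        have hnc : n ∈ Subgroup.centralizer ({c} : Set 𝔾) := by
          rw [Subgroup.mem_centralizer_singleton_iff]
          calc n * c = n * c * (n * n) := by rw [hn2, mul_one]
            _ = c * n := by rw [← mul_assoc, hfix]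
        by_contra hn1'
        exact hT.not_dvd_four h4 hnc hn1' (orderOf_dvd_four P (k := 1) (by simpa using ⟨0, d, hn'⟩))
      have e : uEl P 0 (d + B₀) * jEl P * uEl P 0 (d + B₀) = uEl P 0 0 * jEl P := by
        have h2 : n * x₀ * n = x₀⁻¹ := eq_inv_of_mul_eq_one_right hc1
        rw [hx₀, mul_inv_rev, jEl_inv, uEl_inv, zero_mul, add_zero] at h2
        rw [uEl_zero, one_mul, show uEl P 0 (d + B₀) = n * uEl P 0 B₀ by rw [hn', uEl_mul]; simp]
        calc n * uEl P 0 B₀ * jEl P * (n * uEl P 0 B₀) =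
            n * (uEl P 0 B₀ * jEl P) * n * uEl P 0 B₀ := by group
          _ = jEl P := by rw [h2, mul_assoc, uEl_mul]; simp [CharTwo.add_self_eq_zero, uEl_zero]
      exact CharTwo.add_eq_zero.1 (uj_unique P (uEl_mem_borel P _ _) e).2
    rcases eq_or_ne a 0 with rfl | ha
    · rcases eq_or_ne b 0 with hb0 | hb0
      · exact Or.inr ⟨rfl, Or.inl hb0⟩
      · exact Or.inr ⟨rfl, Or.inr (inv b hb0 hn)⟩
    · refine Or.inl (inv _ (mul_ne_zero ha (by simpa using ha)) ?_)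
      rw [← uEl_sq P a b]
      exact pow_mem hn 2
  have hlam : ∀ a b : F, (mat (uEl P a b * jEl P * (uEl P a b)⁻¹ * jEl P)).trace =
      (uMat P.θ a b 0 3 + a * P.θ a + P.θ a) * (uMat P.θ a b 0 3 + a * P.θ a + P.θ a) := fun a b => by
    rw [uEl_inv]
    simp [Matrix.trace, Fin.sum_univ_four, Matrix.mul_apply, uMat, jMat, map_add, map_mul, P.sq]
    grind
  -- choice of `u`
  obtain ⟨a, b, hab, hnN⟩ : ∃ a b : F, uMat P.θ a b 0 3 + a * P.θ a + P.θ a = r ∧
      uEl P a b ∉ Subgroup.normalizer (C : Set 𝔾) := by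
    by_cases hr1 : (mat x₀).trace = 1
    · have hB1 : B₀ = 1 := by
        rw [ht₀, ← hB₀] at hr1
        exact (theta_eq_one P).1 hr1
      have hr' : r = 1 := sq_eq_one (hr.trans hr1)
      obtain ⟨s, hs0, hs1⟩ := exists_ne_zero_one (F := F) (two_lt_card hm hF)
      obtain ⟨d, hd⟩ := (theta_bijective P).2 (1 + (P.θ s + s))
      obtain ⟨q₀, hq₀⟩ := (Finite.injective_iff_surjective.1
        (fun a b h => theta_mul_inj P h) :
          Function.Surjective fun a : F => a * P.θ a) d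
      set c := P.θ q₀ with hc
      have hf' : P.θ (q₀ * P.θ q₀) = 1 + (P.θ s + s) := by
        rw [show q₀ * P.θ q₀ = d from hq₀, hd]
      rw [map_mul, P.sq, ← hc] at hf'
      have hs2 : P.θ s + s ≠ 0 := fun h => by
        rcases theta_fix P (CharTwo.add_eq_zero.1 h) with h | h
        · exact hs0 h
        · exact hs1 h
      have hq0 : q₀ ≠ 0 := by
        intro h
        rw [hc, h, map_zero, zero_mul] at hf'
        have h' : P.θ s + s = 1 := (CharTwo.add_eq_zero.1 hf'.symm).symm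
        have h'' := congrArg P.θ h'
        rw [map_add, map_one, P.sq] at h''
        have h2 : (1 : F) + 1 = 0 := CharTwo.add_self_eq_zero 1
        have hss : s * s = s := by linear_combination h'' - h'
        exact hs1 (mul_left_cancel₀ hs0 (hss.trans (mul_one s).symm))
      have hq1 : q₀ ≠ 1 := by
        intro h
        rw [hc, h, map_one, one_pow, one_mul] at hf'
        exact hs2 (left_eq_add.1 hf')
      -- with `w = θ q₀`, `a = 1/q₀`
      refine ⟨q₀⁻¹, q₀⁻¹ * P.θ q₀⁻¹ * (s + P.θ q₀ + q₀), ?_, fun hn => ?_⟩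
      · rw [hr']
        have hθq : P.θ q₀ ≠ 0 := by simpa using hq0
        simp [uMat, map_mul, map_add, map_inv₀, P.sq]
        rw [hc] at hf'
        field_simp
        grind
      · rcases hN _ _ hn with h | ⟨h, -⟩
        · rw [hB1] at h
          exact hq1 (inv_eq_one.1 (theta_mul_inj P (by rw [h, map_one, mul_one])))
        · exact hq0 (inv_eq_zero.1 h)
    · obtain ⟨b, hb⟩ := (theta_bijective P).2 r
      refine ⟨0, b, by simp [uMat, hb], fun hn => ?_⟩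
      rcases hN _ _ hn with h | ⟨-, h | h⟩
      · rw [zero_mul] at h
        exact hne0 (by rw [ht₀, ← hB₀, ← h, map_zero])
      · exact hne0 (by rw [← hr, ← hb, h, map_zero, zero_mul])
      · rw [h, hB₀, ← ht₀] at hb
        rw [← hb] at hr
        exact hr1 (mul_left_cancel₀ hne0 (hr.trans (mul_one _).symm))
  set u := uEl P a b with hu
  set l := (u * x₀ * u⁻¹)⁻¹ * x₀ with hl
  have hle : l = u * jEl P * u⁻¹ * jEl P := by
    have hcm : u⁻¹ * uEl P 0 B₀ = uEl P 0 B₀ * u⁻¹ := by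
      rw [hu, uEl_inv, (uEl_comm_iff P _ _ 0 B₀).2 (by simp)]
    rw [hl, hx₀]
    calc (u * (uEl P 0 B₀ * jEl P) * u⁻¹)⁻¹ * (uEl P 0 B₀ * jEl P) =
        u * (jEl P)⁻¹ * (uEl P 0 B₀)⁻¹ * (u⁻¹ * uEl P 0 B₀) * jEl P := by group
      _ = _ := by rw [hcm, jEl_inv]; group
  have htl : (mat l).trace = (mat x₀).trace := by rw [hle, hu, hlam, hab, hr]
  have hl4 : ¬ orderOf l ∣ 4 := not_dvd_four_of_trace P hF hm (htl ▸ hne0)
  obtain ⟨k', hk'⟩ := exists_conj_zpowers P hF hm hx4 hl4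
    (orderOf_eq_of_trace P hF hm (hT.odd_order hl4) hxo htl)
  obtain ⟨g, hgH, hgp, hgc⟩ := hb'.exists_fix (ι := Unit) (fun _ => u) k'⁻¹ x₀ hx₀H (by
    intro _
    refine ⟨u * x₀ * u⁻¹, ?_, ?_⟩
    · rw [show u⁻¹ * (u * x₀ * u⁻¹) * u = x₀ by group]
      exact hx₀H
    · rw [inv_inv, ← hl]
      exact hgen _ hk')
  have hg1 : g = 1 := by
    by_contra hg1
    refine hnN ?_
    have := hT.ti hx4 (hHC hgH) hg1 (k := u⁻¹) (by rw [inv_inv]; exact hHC (hgp ()))
    simpa using inv_mem this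
  rw [hg1, inv_one, one_mul, inv_inv] at hgc
  have hk'N : k' ∈ Subgroup.normalizer (C : Set 𝔾) :=
    hT.ti hx4 (mem_centralizer_self x₀) (fun e => hne0 (absurd (by rw [e, orderOf_one]; exact one_dvd 4) hx4))
      (hHC hgc)
  have hlC : l ∈ C := (Subgroup.mem_normalizer_iff.1 hk'N l).2 (hHC (hgen _ hk'))
  have hkC : u * x₀ * u⁻¹ ∈ C := by
    have := mul_mem (mem_centralizer_self x₀) (inv_mem hlC)
    rwa [hl, mul_inv_rev, inv_inv, mul_inv_cancel_left] at this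
  exact hnN (hT.ti hx4 (mem_centralizer_self x₀)
    (fun e => hx4 (by rw [e, orderOf_one]; exact one_dvd 4)) hkC)

include P hF hm in
/-- The binary stabilisers are conjugate to the centre of `U`. -/
theorem binary_cases {H : Subgroup 𝔾} (hb : IsBinary H) (hbot : H ≠ ⊥) (hne : H ≠ ⊤) :
    ∃ k : 𝔾, ∀ g : 𝔾, g ∈ H ↔ ∃ b, k * g * k⁻¹ = uEl P 0 b := by
  classical
  haveI : Fact (Nat.Prime 2) := ⟨Nat.prime_two⟩
  rcases Nat.even_or_odd (Nat.card ↥H) with he | ho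
  swap
  · exact (not_binary_of_odd P hF hm hb hbot ho).elim
  obtain ⟨⟨z, hz⟩, hz2⟩ := exists_prime_orderOf_dvd_card' 2 (even_iff_two_dvd.1 he)
  replace hz2 : orderOf z = 2 := (Subgroup.orderOf_coe ⟨z, hz⟩).trans hz2
  have hz1 : z ≠ 1 := fun e => by rw [e, orderOf_one] at hz2; omega
  obtain ⟨k, hk⟩ := (even_iff_conj_unip P hF hm hz1).1 (by rw [hz2]; norm_num)
  set H₁ := H.map (MulAut.conj k).toMonoidHom with hH₁
  have hb₁ : IsBinary H₁ := hb.map k
  have hne₁ : H₁ ≠ ⊤ := fun h => hne (Subgroup.map_injective (f := (MulAut.conj k).toMonoidHom)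
    (MulAut.conj k).injective (h.trans (Subgroup.map_top_of_surjective _ (MulAut.conj k).surjective).symm))
  have hkz : orderOf (k * z * k⁻¹) = 2 :=
    (orderOf_injective (MulAut.conj k).toMonoidHom (MulAut.conj k).injective z).trans hz2
  obtain ⟨b₀, hb₀, hb₀e⟩ : ∃ b, b ≠ 0 ∧ k * z * k⁻¹ = uEl P 0 b := by
    rcases unip_cases P hk (fun e => by rw [e, orderOf_one] at hkz; omega) with ⟨-, h⟩ | ⟨h4, -⟩
    · exact h
    · omega
  have hb₀H : uEl P 0 b₀ ∈ H₁ := hb₀e ▸ ⟨z, hz, rfl⟩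
  by_cases hU : unip P ≤ H₁
  · exact (not_binary_of_unip_le P hF hm hb₁ hne₁ hU).elim
  obtain ⟨hZ, hV⟩ := unip_part P hF hm hb₁ hne₁ hU hb₀ hb₀H
  have hB := le_borel_of_center P hF hm hZ hne₁
  refine ⟨k, fun g => ⟨fun hg => ?_, ?_⟩⟩
  · have hg₁ : k * g * k⁻¹ ∈ H₁ := ⟨g, hg, rfl⟩
    obtain ⟨a, b, x, hx⟩ := borel_form P (hB hg₁)
    rw [hx] at hg₁
    rcases eq_or_ne x 1 with rfl | hx1
    · rw [dEl_one, mul_one] at hx hg₁
      exact ⟨b, by rw [hx, hV a b hg₁]⟩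
    exfalso
    obtain ⟨v, hv, hve⟩ := exists_conj_dEl P a b hx1
    set H₂ := H₁.map (MulAut.conj v⁻¹).toMonoidHom with hH₂
    obtain ⟨c, d, rfl⟩ := hv
    refine not_binary_of_torus P hF hm (H := H₂) (hb₁.map _) (fun h => hne₁ ?_) (fun t => ?_)
      (fun p q hpq => ?_) hx1 ?_
    · exact Subgroup.map_injective (f := (MulAut.conj (uEl P c d)⁻¹).toMonoidHom)
        (MulAut.conj (uEl P c d)⁻¹).injective
        (h.trans (Subgroup.map_top_of_surjective _ (MulAut.conj (uEl P c d)⁻¹).surjective).symm)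
    · refine ⟨uEl P 0 t, hZ t, ?_⟩
      show (uEl P c d)⁻¹ * uEl P 0 t * (uEl P c d)⁻¹⁻¹ = uEl P 0 t
      rw [inv_inv, mul_assoc, (uEl_comm_iff P 0 t c d).2 (by simp), inv_mul_cancel_left]
    · obtain ⟨w, hw, hwe⟩ := hpq
      have hwe' : (uEl P c d)⁻¹ * w * (uEl P c d)⁻¹⁻¹ = uEl P p q := hwe
      have e : w = uEl P c d * uEl P p q * (uEl P c d)⁻¹ := by rw [← hwe']; group
      rw [e, uEl_inv, uEl_mul, uEl_mul] at hw
      have := hV _ _ hw
      rwa [add_comm c p, add_assoc, CharTwo.add_self_eq_zero, add_zero] at this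
    · exact ⟨_, hg₁, by
        show (uEl P c d)⁻¹ * (uEl P a b * dEl P x) * (uEl P c d)⁻¹⁻¹ = dEl P x
        rw [hve]; group⟩
  · rintro ⟨b, hb'⟩
    obtain ⟨g', hg', he'⟩ := hZ b
    rw [← hb', show (MulAut.conj k).toMonoidHom g' = k * g' * k⁻¹ from rfl, mul_left_inj,
      mul_right_inj] at he'
    exact he' ▸ hg'

include P hF hm in
/-- The centre of `U` gives a binary action. -/
theorem binary_center {H : Subgroup 𝔾} (hH : ∀ g, g ∈ H ↔ ∃ b, g = uEl P 0 b) : IsBinary H := by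
  classical
  intro n I J hn hp
  haveI : NeZero n := ⟨by omega⟩
  obtain ⟨x₀, hx₀⟩ := QuotientGroup.mk_surjective (I 0)
  obtain ⟨y₀, hy₀⟩ := QuotientGroup.mk_surjective (J 0)
  -- coordinates based at the first pair
  choose x hx using fun i => QuotientGroup.mk_surjective (x₀⁻¹ • I i)
  choose y hy using fun i => QuotientGroup.mk_surjective (y₀⁻¹ • J i)
  have htrans : ∀ (g : 𝔾) i, g • I i = J i ↔ (y i)⁻¹ * (y₀⁻¹ * g * x₀) * x i ∈ H := fun g i => by
    rw [← smul_eq_iff, hx, hy, mul_smul, mul_smul, smul_inv_smul]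
    exact ⟨fun h => by rw [h], fun h => smul_left_cancel _ h⟩
  have hbase : ∀ g : 𝔾, g • I 0 = J 0 ↔ y₀⁻¹ * g * x₀ ∈ H := fun g => by
    rw [← hx₀, ← hy₀, smul_eq_iff]
  have h0 : ∃ g : 𝔾, g • I 0 = J 0 := by
    obtain ⟨g, hg, -⟩ := hp 0 ⟨1, by omega⟩ (by simp [Fin.ext_iff])
    exact ⟨g, hg⟩
  have hgen : ∀ i, ∃ z ∈ H, (y i)⁻¹ * z * x i ∈ H := by
    intro i
    rcases eq_or_ne i 0 with rfl | hi
    · obtain ⟨g, hg⟩ := h0
      exact ⟨_, (hbase g).1 hg, (htrans g 0).1 hg⟩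
    · obtain ⟨g, h1, h2⟩ := hp 0 i (Ne.symm hi)
      exact ⟨_, (hbase g).1 h1, (htrans g i).1 h2⟩
  suffices ∃ z ∈ H, ∀ i, (y i)⁻¹ * z * x i ∈ H by
    obtain ⟨z, hz, hzi⟩ := this
    refine ⟨y₀ * z * x₀⁻¹, fun i => (htrans _ i).2 ?_⟩
    rw [show y₀⁻¹ * (y₀ * z * x₀⁻¹) * x₀ = z by group]
    exact hzi i
  -- the elements fixing a point over the base ovoid point are all of `H`
  have hin : ∀ i, x i ∈ borel (F := F) (e := 2 ^ (m + 1)) → ∀ z ∈ H, (y i)⁻¹ * z * x i ∈ H := by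
    intro i hi z hz
    obtain ⟨z', hz', h'⟩ := hgen i
    have e : (y i)⁻¹ * z * x i = (y i)⁻¹ * z' * x i * ((x i)⁻¹ * (z'⁻¹ * z) * x i) := by group
    rw [e]
    refine mul_mem h' ?_
    obtain ⟨b, hb⟩ := (hH _).1 (mul_mem (inv_mem hz') hz)
    obtain ⟨a, c, t, -, hconj⟩ := conj_borel_scale P (inv_mem hi)
    have e2 := hconj b
    rw [inv_inv] at e2
    rw [hb, e2]
    exact (hH _).2 ⟨_, rfl⟩
  have htriv : ∀ i, x i ∉ borel (F := F) (e := 2 ^ (m + 1)) → ∀ z ∈ H, (x i)⁻¹ * z * x i ∈ H → z = 1 := by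
    intro i hi z hz h'
    obtain ⟨b, rfl⟩ := (hH z).1 hz
    obtain ⟨b', hb'⟩ := (hH _).1 h'
    refine eq_one_of_conj P (g := (x i)⁻¹) (fun h => hi (by simpa using inv_mem h)) ⟨0, b, rfl⟩ ?_
    rw [inv_inv, hb']
    exact ⟨0, b', rfl⟩
  by_cases hex : ∃ i, x i ∉ borel (F := F) (e := 2 ^ (m + 1))
  swap
  · push Not at hex
    exact ⟨1, one_mem _, fun i => hin i (hex i) 1 (one_mem _)⟩
  obtain ⟨i₀, hi₀⟩ := hex
  obtain ⟨z₀, hz₀, hz₀'⟩ := hgen i₀
  refine ⟨z₀, hz₀, fun i => ?_⟩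
  by_cases hi : x i ∈ borel (F := F) (e := 2 ^ (m + 1))
  · exact hin i hi z₀ hz₀
  obtain ⟨z, hz, hz'⟩ := hgen i
  suffices z₀⁻¹ * z = 1 by rw [inv_mul_eq_one.1 this]; exact hz'
  rcases eq_or_ne i₀ i with rfl | hne'
  · refine htriv i₀ hi₀ _ (mul_mem (inv_mem hz₀) hz) ?_
    have := mul_mem (inv_mem hz₀') hz'
    rwa [show ((y i₀)⁻¹ * z₀ * x i₀)⁻¹ * ((y i₀)⁻¹ * z * x i₀) = (x i₀)⁻¹ * (z₀⁻¹ * z) * x i₀ by
      group] at this
  obtain ⟨g, hg₁, hg₂⟩ := hp i₀ i hne'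
  set z₁ := y₀⁻¹ * g * x₀
  have p1 : (x i₀)⁻¹ * (z₀⁻¹ * z₁) * x i₀ ∈ H := by
    have := mul_mem (inv_mem hz₀') ((htrans g i₀).1 hg₁)
    rwa [show ((y i₀)⁻¹ * z₀ * x i₀)⁻¹ * ((y i₀)⁻¹ * z₁ * x i₀) =
      (x i₀)⁻¹ * (z₀⁻¹ * z₁) * x i₀ by group] at this
  have p2 : (x i)⁻¹ * (z⁻¹ * z₁) * x i ∈ H := by
    have := mul_mem (inv_mem hz') ((htrans g i).1 hg₂)
    rwa [show ((y i)⁻¹ * z * x i)⁻¹ * ((y i)⁻¹ * z₁ * x i) =
      (x i)⁻¹ * (z⁻¹ * z₁) * x i by group] at this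
  have hsq : ∀ w, w ∈ H → w * w = 1 := fun w hw => by
    obtain ⟨b, rfl⟩ := (hH w).1 hw
    rw [uEl_mul]; simp [CharTwo.add_self_eq_zero, uEl_zero]
  have hinv : ∀ (v w : 𝔾), v⁻¹ * w * v ∈ H → w * w = 1 := fun v w hw => by
    have h2 := hsq _ hw
    calc w * w = v * (v⁻¹ * w * v * (v⁻¹ * w * v)) * v⁻¹ := by group
      _ = 1 := by rw [h2]; group
  set p := z₀⁻¹ * z₁
  set r := z⁻¹ * z₁
  set w := z₀⁻¹ * z with hw
  have hwH : w ∈ H := mul_mem (inv_mem hz₀) hz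
  have hp2 := hinv _ _ p1
  have hr2 := hinv _ _ p2
  have hpi : p⁻¹ = p := inv_eq_of_mul_eq_one_right hp2
  have hri : r⁻¹ = r := inv_eq_of_mul_eq_one_right hr2
  have hwp : w = p * r := by
    rw [← hri, hw]
    show z₀⁻¹ * z = z₀⁻¹ * z₁ * (z⁻¹ * z₁)⁻¹
    group
  by_contra hw1
  have hcomm : p * r = r * p := by
    calc p * r = (p * r)⁻¹ := (inv_eq_of_mul_eq_one_right (hwp ▸ hsq w hwH)).symm
      _ = r * p := by rw [mul_inv_rev, hpi, hri]
  obtain ⟨b, hb⟩ := (hH w).1 hwH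
  have hcen : Subgroup.centralizer {w} ≤ unip P :=
    centralizer_le_unip P (hb ▸ ⟨0, b, rfl⟩) hw1
  have hpU : p ∈ unip P := hcen (Subgroup.mem_centralizer_singleton_iff.2 (by
    rw [hwp, mul_assoc p r p, ← hcomm]))
  have hp1 : p = 1 := by
    by_contra hp1
    obtain ⟨b', hb'⟩ := (hH _).1 p1
    exact hi₀ (by
      have := conj_unip_ne P (g := (x i₀)⁻¹) hpU hp1 (by rw [inv_inv, hb']; exact ⟨0, b', rfl⟩)
      simpa using inv_mem this)
  rw [hp1, one_mul] at hwp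
  exact hw1 (htriv i hi w hwH (hwp ▸ p2))

include P hF hm in
/-- The centre of a Sylow 2-subgroup. -/
lemma center_sylowTwo (g : 𝔾) :
    g ∈ (Subgroup.center ↥(sylowTwo P : Subgroup 𝔾)).map (sylowTwo P : Subgroup 𝔾).subtype ↔
      ∃ b, g = uEl P 0 b := by
  constructor
  · rintro ⟨⟨u, a, b, rfl⟩, hu, rfl⟩
    rw [SetLike.mem_coe, Subgroup.mem_center_iff] at hu
    have key : ∀ c, a * P.θ c = c * P.θ a := fun c => (uEl_comm_iff P a b c 0).1
      (congrArg Subtype.val (hu ⟨uEl P c 0, c, 0, rfl⟩)).symm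
    have h1 := key 1
    rw [map_one, mul_one, one_mul] at h1
    rcases theta_fix P h1.symm with h | h
    · exact ⟨b, by rw [h]; rfl⟩
    · exfalso
      obtain ⟨c, hc0, hc1⟩ := exists_ne_zero_one (F := F) (two_lt_card hm hF)
      have h2 := key c
      rw [h, one_mul, map_one, mul_one] at h2
      rcases theta_fix P h2 with h | h
      · exact hc0 h
      · exact hc1 h
  · rintro ⟨b, rfl⟩
    refine ⟨⟨uEl P 0 b, 0, b, rfl⟩, ?_, rfl⟩
    rw [SetLike.mem_coe, Subgroup.mem_center_iff]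
    rintro ⟨_, c, d, rfl⟩
    exact Subtype.ext ((uEl_comm_iff P c d 0 b).2 (by simp))

end CfsgLib.SuzukiGroup
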