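import Cfsg.Agent.Lib.SuzukiGroup.FixedPointFree
import Mathlib.Data.Set.Card

/-!
# The cyclic tori of orders `q ± r + 1` of the Suzuki groups, and the partition
-/

set_option autoImplicit false

open scoped MatrixGroups Matrix

namespace CfsgLib.SuzukiGroup

open Cfsg.Lie

section generic

variable {G : Type*} [Group G]

/-- non-trivial elements conjugate into `U` -/
def conjSet (U : Subgroup G) : Set G := {x | x ≠ 1 ∧ ∃ k : G, k * x * k⁻¹ ∈ U}

theorem ncard_conjSet [Finite G] (U : Subgroup G)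
    (hTI : ∀ u ∈ U, u ≠ 1 → ∀ k : G, k * u * k⁻¹ ∈ U → k ∈ Subgroup.normalizer (U : Set G)) :
    (conjSet U).ncard = (Subgroup.normalizer (U : Set G)).index * (Nat.card ↥U - 1) := by
  set N := Subgroup.normalizer (U : Set G)
  have hU : Nat.card {u : G // u ∈ U ∧ u ≠ 1} = Nat.card ↥U - 1 := by
    rw [show Nat.card {u : G // u ∈ U ∧ u ≠ 1} = ((U : Set G) \ {1}).ncard from rfl,
      Set.ncard_sdiff_singleton_of_mem (one_mem U)]
    rfl
  rw [← hU, Subgroup.index_eq_card, ← Nat.card_prod, ← Nat.card_coe_set_eq]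
  refine (Nat.card_eq_of_bijective (fun p : (G ⧸ N) × {u : G // u ∈ U ∧ u ≠ 1} =>
    (⟨p.1.out * p.2.1 * p.1.out⁻¹, fun h => p.2.2.2 (conj_eq_one_iff.1 h), p.1.out⁻¹, by
      simpa [mul_assoc] using p.2.2.1⟩ : conjSet U)) ⟨?_, ?_⟩).symm
  · rintro ⟨a, u, hu, hu1⟩ ⟨b, v, hv, hv1⟩ h
    have h' : a.out * u * a.out⁻¹ = b.out * v * b.out⁻¹ := congrArg Subtype.val h
    have e : b.out⁻¹ * a.out * u * (b.out⁻¹ * a.out)⁻¹ = v := by
      rw [show b.out⁻¹ * a.out * u * (b.out⁻¹ * a.out)⁻¹ = b.out⁻¹ * (a.out * u * a.out⁻¹) * b.out by group,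
        h']
      group
    have hk := hTI u hu hu1 _ (by rw [e]; exact hv)
    have hab : b = a := by
      rw [← Quotient.out_eq a, ← Quotient.out_eq b]
      exact QuotientGroup.eq.2 hk
    subst hab
    have : u = v := by simpa using e
    subst this
    rfl
  · rintro ⟨x, hx, k, hk⟩
    obtain ⟨n, hn⟩ := QuotientGroup.mk_out_eq_mul N k⁻¹
    have hout : ((k⁻¹ : G) : G ⧸ N).out⁻¹ * x * ((k⁻¹ : G) : G ⧸ N).out =
        (n : G)⁻¹ * (k * x * k⁻¹) * n := by rw [hn]; group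
    refine ⟨⟨((k⁻¹ : G) : G ⧸ N), ⟨(n : G)⁻¹ * (k * x * k⁻¹) * n, ?_, ?_⟩⟩, Subtype.ext ?_⟩
    · simpa using (Subgroup.mem_normalizer_iff.1 (inv_mem n.2) _).1 hk
    · intro h
      rw [← hout] at h
      refine hx ?_
      calc x = ((k⁻¹ : G) : G ⧸ N).out * (((k⁻¹ : G) : G ⧸ N).out⁻¹ * x * ((k⁻¹ : G) : G ⧸ N).out) *
          ((k⁻¹ : G) : G ⧸ N).out⁻¹ := by group
        _ = 1 := by rw [h]; group
    · show ((k⁻¹ : G) : G ⧸ N).out * ((n : G)⁻¹ * (k * x * k⁻¹) * n) * (((k⁻¹ : G) : G ⧸ N).out)⁻¹ = x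
      rw [← hout]; group

theorem centralizer_conj (k u : G) {x : G} :
    k * x * k⁻¹ ∈ Subgroup.centralizer {k * u * k⁻¹} ↔ x ∈ Subgroup.centralizer {u} := by
  simp only [Subgroup.mem_centralizer_singleton_iff]
  constructor <;> intro h
  · calc x * u = k⁻¹ * ((k * x * k⁻¹) * (k * u * k⁻¹)) * k := by group
      _ = u * x := by rw [h]; group
  · calc k * x * k⁻¹ * (k * u * k⁻¹) = k * (x * u) * k⁻¹ := by group
      _ = k * u * k⁻¹ * (k * x * k⁻¹) := by rw [h]; group

theorem centralizer_map_conj (k u : G) :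
    (Subgroup.centralizer {u}).map (MulAut.conj k).toMonoidHom = Subgroup.centralizer {k * u * k⁻¹} := by
  ext y
  obtain ⟨x, rfl⟩ := (MulAut.conj k).surjective y
  rw [Subgroup.mem_map_equiv, MulEquiv.symm_apply_apply]
  exact (centralizer_conj k u).symm

theorem card_centralizer_conj (k u : G) :
    Nat.card ↥(Subgroup.centralizer {k * u * k⁻¹}) = Nat.card ↥(Subgroup.centralizer {u}) := by
  rw [← centralizer_map_conj, Subgroup.card_map_of_injective (f := (MulAut.conj k).toMonoidHom) (MulAut.conj k).injective]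

end generic

variable {F : Type*} [Field F] [Fintype F] [CharP F 2] {m : ℕ}
  (P : Params F (2 ^ (m + 1))) (hF : Fintype.card F = 2 ^ (2 * m + 1)) (hm : 1 ≤ m)

include hF hm in
omit [CharP F 2] in
lemma eight_le : 8 ≤ Fintype.card F := by
  rw [hF]; calc 8 = 2 ^ 3 := rfl
    _ ≤ 2 ^ (2 * m + 1) := Nat.pow_le_pow_right (by norm_num) (by omega)

lemma ncard_conjSet_unip : (conjSet (unip P)).ncard =
    (Fintype.card F ^ 2 + 1) * (Fintype.card F ^ 2 - 1) := by
  rw [ncard_conjSet _ (fun u hu h1 k hk => normalizer_unip P ▸ conj_unip_ne P hu h1 hk),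
    normalizer_unip P, index_borel P, card_unip P]

include hF hm in
lemma card_normalizer_torus :
    Nat.card ↥(Subgroup.normalizer (torus P : Set ↥(Sz F (2 ^ (m + 1))))) = 2 * (Fintype.card F - 1) := by
  have hq : 2 < Fintype.card F := by have := eight_le hF hm; omega
  set N := Subgroup.normalizer (torus P : Set ↥(Sz F (2 ^ (m + 1))))
  have hmem : ∀ (i : Bool) (t : ↥(torus P)), (cond i (jEl P) 1) * (t : ↥(Sz F (2 ^ (m + 1)))) ∈ N := by
    intro i t
    refine (mem_normalizer_torus P hq).2 ?_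
    cases i
    · left; simp
    · right; simp [← mul_assoc, jEl_mul_self]
  suffices h : Nat.card ↥N = Nat.card (Bool × ↥(torus P)) by
    rw [h, Nat.card_prod, card_torus P]
    simp
  refine (Nat.card_eq_of_bijective (fun p : Bool × ↥(torus P) => (⟨_, hmem p.1 p.2⟩ : N)) ⟨?_, ?_⟩).symm
  · rintro ⟨i, s⟩ ⟨j, t⟩ h
    have h' := congrArg Subtype.val h
    simp only at h'
    have hB : ∀ s t : ↥(torus P), jEl P * (s : ↥(Sz F (2 ^ (m + 1)))) ≠ t := by
      intro s t h
      obtain ⟨x, hx⟩ := (mem_torus P).1 (mul_mem t.2 (inv_mem s.2))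
      refine jEl_notMem_borel P ?_
      rw [eq_mul_inv_of_mul_eq h, ← hx]
      exact dEl_mem_borel P x
    cases i <;> cases j
    · simp only [cond_false, one_mul] at h'; rw [Subtype.ext h']
    · simp only [cond_false, cond_true, one_mul] at h'; exact absurd h'.symm (hB t s)
    · simp only [cond_false, cond_true, one_mul] at h'; exact absurd h' (hB s t)
    · simp only [cond_true] at h'; rw [Subtype.ext (mul_left_cancel h')]
  · rintro ⟨g, hg⟩
    rcases (mem_normalizer_torus P hq).1 hg with h | h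
    · exact ⟨(false, ⟨g, h⟩), Subtype.ext (one_mul g)⟩
    · refine ⟨(true, ⟨_, h⟩), Subtype.ext ?_⟩
      show jEl P * (jEl P * g) = g
      rw [← mul_assoc, jEl_mul_self, one_mul]

lemma torus_TI {u : ↥(Sz F (2 ^ (m + 1)))} (hu : u ∈ torus P) (h1 : u ≠ 1) (k : ↥(Sz F (2 ^ (m + 1))))
    (hk : k * u * k⁻¹ ∈ torus P) : k ∈ Subgroup.normalizer (torus P : Set ↥(Sz F (2 ^ (m + 1)))) := by
  obtain ⟨x, rfl⟩ := (mem_torus P).1 hu
  obtain ⟨y, hy⟩ := (mem_torus P).1 hk
  have hx : x ≠ 1 := fun h => h1 ((dEl_eq_one P).2 h)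
  have hy1 : y ≠ 1 := fun h => h1 (conj_eq_one_iff.1 (hy.symm.trans ((dEl_eq_one P).2 h)))
  refine Subgroup.mem_normalizer_iff.2 fun n => ?_
  rw [← centralizer_dEl P hx]
  conv_rhs => rw [centralizer_dEl P hx, ← centralizer_dEl P hy1, hy]
  exact (centralizer_conj k _).symm

include hF hm in
lemma ncard_conjSet_torus : 2 * (conjSet (torus P)).ncard =
    Fintype.card F ^ 2 * (Fintype.card F ^ 2 + 1) * (Fintype.card F - 2) := by
  rw [ncard_conjSet _ (fun u hu h1 k hk => torus_TI P hu h1 k hk), card_torus P]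
  have h := Subgroup.card_mul_index (Subgroup.normalizer (torus P : Set ↥(Sz F (2 ^ (m + 1)))))
  rw [card_normalizer_torus P hF hm, card_sz P] at h
  have h8 := eight_le hF hm
  obtain ⟨a, ha⟩ : ∃ a, Fintype.card F - 1 = a + 1 := ⟨Fintype.card F - 2, by omega⟩
  rw [show Fintype.card F - 1 - 1 = a by omega, show Fintype.card F - 2 = a by omega]
  rw [ha] at h
  have h2 := Nat.eq_of_mul_eq_mul_left (Nat.succ_pos a)
    (show (a + 1) * (2 * (Subgroup.normalizer (torus P : Set ↥(Sz F (2 ^ (m + 1))))).index) =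
      (a + 1) * (Fintype.card F ^ 2 * (Fintype.card F ^ 2 + 1)) by linarith)
  rw [← mul_assoc, h2]

include hF in
lemma not_conj_unip_of_fpf {g : ↥(Sz F (2 ^ (m + 1)))} (hg : FPF g) :
    g ∉ conjSet (unip P) ∧ g ∉ conjSet (torus P) := by
  refine ⟨fun ⟨_, k, hk⟩ => hg k (unip_le_borel P hk), fun ⟨_, k, hk⟩ => ?_⟩
  obtain ⟨x, hx⟩ := (mem_torus P).1 hk
  exact hg k (hx ▸ dEl_mem_borel P x)

lemma unip_torus_disjoint : Disjoint (conjSet (unip P)) (conjSet (torus P)) := by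
  rw [Set.disjoint_left]
  rintro x ⟨h1, k, hk⟩ ⟨-, l, hl⟩
  obtain ⟨t, ht⟩ := (mem_torus P).1 hl
  have o1 : orderOf x ∣ Fintype.card F ^ 2 := by
    rw [← card_unip P, ← orderOf_injective (MulAut.conj k).toMonoidHom (MulAut.conj k).injective x]
    exact Subgroup.orderOf_dvd_natCard _ hk
  have o2 : orderOf x ∣ Fintype.card F - 1 := by
    rw [← card_torus P, ← orderOf_injective (MulAut.conj l).toMonoidHom (MulAut.conj l).injective x]
    exact Subgroup.orderOf_dvd_natCard _ hl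
  refine h1 (orderOf_eq_one_iff.1 ?_)
  refine Nat.eq_one_of_dvd_coprimes (Nat.Coprime.pow_left 2 ?_) o1 o2
  exact Nat.coprime_self_sub_right (Fintype.card_pos (α := F)) |>.mpr (Nat.coprime_one_right _)

include hF in
lemma univ_eq : (Set.univ : Set ↥(Sz F (2 ^ (m + 1)))) =
    ({1} ∪ conjSet (unip P)) ∪ (conjSet (torus P) ∪ {g | FPF g}) := by
  ext g
  simp only [Set.mem_univ, true_iff, Set.mem_union, Set.mem_singleton_iff, Set.mem_ofPred_eq]
  rcases eq_or_ne g 1 with h | h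
  · exact Or.inl (Or.inl h)
  rcases trichotomy P h with hk | ⟨k, x, -, hk⟩ | hf
  · exact Or.inl (Or.inr ⟨h, hk⟩)
  · exact Or.inr (Or.inl ⟨h, k, hk ▸ dEl_mem_torus P x⟩)
  · exact Or.inr (Or.inr hf)

include P hF hm in
/-- The number of elements without fixed points. -/
lemma ncard_fpf : 2 * {g : ↥(Sz F (2 ^ (m + 1))) | FPF g}.ncard =
    Fintype.card F ^ 3 * (Fintype.card F - 1) ^ 2 := by
  have hd1 : Disjoint ({1} : Set ↥(Sz F (2 ^ (m + 1)))) (conjSet (unip P)) :=
    Set.disjoint_singleton_left.2 fun h => h.1 rfl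
  have hd2 : Disjoint (conjSet (torus P)) {g : ↥(Sz F (2 ^ (m + 1))) | FPF g} :=
    Set.disjoint_left.2 fun g hg hf => (not_conj_unip_of_fpf P hF hf).2 hg
  have hd3 : Disjoint ({1} ∪ conjSet (unip P))
      (conjSet (torus P) ∪ {g : ↥(Sz F (2 ^ (m + 1))) | FPF g}) := by
    rw [Set.disjoint_union_left, Set.disjoint_union_right, Set.disjoint_union_right]
    exact ⟨⟨Set.disjoint_singleton_left.2 fun h => h.1 rfl,
      Set.disjoint_singleton_left.2 fun h => FPF.ne_one h rfl⟩, unip_torus_disjoint P,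
      Set.disjoint_left.2 fun g hg hf => (not_conj_unip_of_fpf P hF hf).1 hg⟩
  have h := Set.ncard_univ (α := ↥(Sz F (2 ^ (m + 1))))
  rw [univ_eq P hF, Set.ncard_union_eq hd3, Set.ncard_union_eq hd1, Set.ncard_union_eq hd2,
    Set.ncard_singleton, ncard_conjSet_unip P, card_sz P] at h
  have ht := ncard_conjSet_torus P hF hm
  have h8 := eight_le hF hm
  generalize (conjSet (torus P)).ncard = T at h ht
  generalize {g : ↥(Sz F (2 ^ (m + 1))) | FPF g}.ncard = N at h ⊢
  generalize Fintype.card F = q at h ht h8 ⊢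
  have hq2 : 1 ≤ q ^ 2 := Nat.one_le_pow _ _ (by omega)
  zify [hq2, show 1 ≤ q by omega, show 2 ≤ q by omega] at h ht ⊢
  linear_combination 2 * h - ht

lemma conjSet_subset_fpf {g : ↥(Sz F (2 ^ (m + 1)))} (P : Params F (2 ^ (m + 1))) (hg : FPF g) :
    conjSet (Subgroup.centralizer {g}) ⊆ {x | FPF x} := by
  rintro x ⟨h1, k, hk⟩
  have := (FPF.of_commute P hg (Subgroup.mem_centralizer_singleton_iff.1 hk)
    (fun h => h1 (conj_eq_one_iff.1 h))).conj k⁻¹
  simpa [mul_assoc] using this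

include P hF hm in
lemma fpf_TI {g : ↥(Sz F (2 ^ (m + 1)))} (hg : FPF g) {u : ↥(Sz F (2 ^ (m + 1)))}
    (hu : u ∈ Subgroup.centralizer {g}) (h1 : u ≠ 1) (k : ↥(Sz F (2 ^ (m + 1))))
    (hk : k * u * k⁻¹ ∈ Subgroup.centralizer {g}) :
    k ∈ Subgroup.normalizer (Subgroup.centralizer {g} : Set ↥(Sz F (2 ^ (m + 1)))) := by
  refine Subgroup.mem_normalizer_iff.2 fun n => ?_
  conv_lhs => rw [← fpf_centralizer_eq P hF hm hg hu h1]
  rw [← fpf_centralizer_eq P hF hm hg hk (fun h => h1 (conj_eq_one_iff.1 h))]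
  exact (centralizer_conj k u).symm

include P hF hm in
/-- Two centralisers with intersecting classes are conjugate. -/
lemma conj_of_not_disjoint {g h : ↥(Sz F (2 ^ (m + 1)))} (hg : FPF g) (hh : FPF h)
    (hd : ¬ Disjoint (conjSet (Subgroup.centralizer {g})) (conjSet (Subgroup.centralizer {h}))) :
    ∃ k : ↥(Sz F (2 ^ (m + 1))),
      (Subgroup.centralizer {g}).map (MulAut.conj k).toMonoidHom = Subgroup.centralizer {h} := by
  rw [Set.not_disjoint_iff] at hd
  obtain ⟨x, ⟨h1, k, hk⟩, -, l, hl⟩ := hd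
  refine ⟨l * k⁻¹, ?_⟩
  rw [← fpf_centralizer_eq P hF hm hg hk (fun h => h1 (conj_eq_one_iff.1 h)),
    ← fpf_centralizer_eq P hF hm hh hl (fun h => h1 (conj_eq_one_iff.1 h)), centralizer_map_conj]
  congr 2
  group

include P hF hm in
lemma disjoint_of_card_ne {g h : ↥(Sz F (2 ^ (m + 1)))} (hg : FPF g) (hh : FPF h)
    (hd : Nat.card ↥(Subgroup.centralizer {g}) ≠ Nat.card ↥(Subgroup.centralizer {h})) :
    Disjoint (conjSet (Subgroup.centralizer {g})) (conjSet (Subgroup.centralizer {h})) := by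
  by_contra hn
  obtain ⟨k, hk⟩ := conj_of_not_disjoint P hF hm hg hh hn
  refine hd ?_
  rw [← hk, Subgroup.card_map_of_injective (f := (MulAut.conj k).toMonoidHom) (MulAut.conj k).injective]

include P hF hm in
/-- lower bound for the size of a class -/
lemma class_bound {g : ↥(Sz F (2 ^ (m + 1)))} (hg : FPF g) :
    Nat.card ↥(Sz F (2 ^ (m + 1))) * (Nat.card ↥(Subgroup.centralizer {g}) - 1) ≤
      4 * Nat.card ↥(Subgroup.centralizer {g}) * (conjSet (Subgroup.centralizer {g})).ncard := by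
  rw [ncard_conjSet _ (fun u hu h1 k hk => fpf_TI P hF hm hg hu h1 k hk), ← mul_assoc]
  refine Nat.mul_le_mul_right _ ?_
  rw [← Subgroup.card_mul_index
    (Subgroup.normalizer (Subgroup.centralizer {g} : Set ↥(Sz F (2 ^ (m + 1)))))]
  exact Nat.mul_le_mul_right _ (fpf_card_normalizer_le P hF hm hg)

include P hF in
lemma five_le_card {g : ↥(Sz F (2 ^ (m + 1)))} (hg : FPF g) :
    5 ≤ Nat.card ↥(Subgroup.centralizer {g}) := by
  have hd := fpf_card_dvd P hF hg
  have h2 := (q_coprime hF hd).2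
  have hpos := Nat.card_pos (α := ↥(Subgroup.centralizer {g}))
  have h1 : Nat.card ↥(Subgroup.centralizer {g}) ≠ 1 := fun h => hg.ne_one (by
    have hmem : g ∈ Subgroup.centralizer {g} := Subgroup.mem_centralizer_singleton_iff.2 rfl
    rwa [Subgroup.eq_bot_of_card_eq _ h, Subgroup.mem_bot] at hmem)
  have h3 : ¬ 3 ∣ Fintype.card F ^ 2 + 1 := by
    rw [hF, ← pow_mul, mul_comm, pow_mul, Nat.dvd_iff_mod_eq_zero, Nat.add_mod, Nat.pow_mod]
    norm_num
  by_contra hlt
  have : Nat.card ↥(Subgroup.centralizer {g}) = 2 ∨ Nat.card ↥(Subgroup.centralizer {g}) = 3 ∨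
      Nat.card ↥(Subgroup.centralizer {g}) = 4 := by omega
  rcases this with h | h | h <;> rw [h] at hd h2
  · norm_num at h2
  · exact h3 hd
  · norm_num at h2

include P hF hm in
/-- There are no three classes. -/
lemma no_three {g₁ g₂ g₃ : ↥(Sz F (2 ^ (m + 1)))} (h₁ : FPF g₁) (h₂ : FPF g₂) (h₃ : FPF g₃)
    (d12 : Disjoint (conjSet (Subgroup.centralizer {g₁})) (conjSet (Subgroup.centralizer {g₂})))
    (d13 : Disjoint (conjSet (Subgroup.centralizer {g₁})) (conjSet (Subgroup.centralizer {g₃})))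
    (d23 : Disjoint (conjSet (Subgroup.centralizer {g₂})) (conjSet (Subgroup.centralizer {g₃}))) :
    False := by
  have hsub := Set.union_subset (Set.union_subset (conjSet_subset_fpf P h₁) (conjSet_subset_fpf P h₂))
    (conjSet_subset_fpf P h₃)
  have hle := Set.ncard_le_ncard hsub (Set.toFinite _)
  rw [Set.ncard_union_eq (Set.disjoint_union_left.2 ⟨d13, d23⟩), Set.ncard_union_eq d12] at hle
  have key : ∀ g : ↥(Sz F (2 ^ (m + 1))), FPF g →
      Nat.card ↥(Sz F (2 ^ (m + 1))) ≤ 5 * (conjSet (Subgroup.centralizer {g})).ncard := by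
    intro g hg
    have hb := class_bound P hF hm hg
    have hc := five_le_card P hF hg
    generalize Nat.card ↥(Sz F (2 ^ (m + 1))) = G at hb ⊢
    generalize (conjSet (Subgroup.centralizer {g})).ncard = S at hb ⊢
    generalize Nat.card ↥(Subgroup.centralizer {g}) = c at hb hc
    obtain ⟨a, rfl⟩ : ∃ a, c = a + 5 := ⟨c - 5, by omega⟩
    rw [show a + 5 - 1 = a + 4 by omega] at hb
    nlinarith [Nat.zero_le (a * G), Nat.zero_le (a * S)]
  have k1 := key _ h₁
  have k2 := key _ h₂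
  have k3 := key _ h₃
  have hN := ncard_fpf P hF hm
  have h8 := eight_le hF hm
  rw [card_sz P] at k1 k2 k3
  obtain ⟨a, ha⟩ : ∃ a, Fintype.card F = a + 1 := ⟨Fintype.card F - 1, by omega⟩
  rw [ha] at k1 k2 k3 hN h8
  simp only [Nat.add_sub_cancel] at k1 k2 k3 hN
  have hlt : 5 * ((a + 1) * a) < 6 * ((a + 1) ^ 2 + 1) := by nlinarith
  have hpos : 0 < (a + 1) ^ 2 * a := Nat.mul_pos (pow_pos (by omega) 2) (by omega)
  nlinarith [Nat.mul_lt_mul_of_pos_left hlt hpos]

omit [CharP F 2] in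
include hF in
lemma toA_toB_dvd : toA m ∣ Fintype.card F ^ 2 + 1 ∧ toB m ∣ Fintype.card F ^ 2 + 1 := by
  rw [hF, ← toA_mul_toB m]
  exact ⟨dvd_mul_right _ _, dvd_mul_left _ _⟩

lemma toA_coprime_toB (m : ℕ) : (toA m).Coprime (toB m) := by
  have hle := r_le_q m
  have h1 : toA m = toB m + 2 ^ (m + 2) := by
    unfold toA toB; rw [pow_succ 2 (m + 1)]; omega
  rw [h1, Nat.coprime_self_add_left]
  exact ((coprime_q_sq (toA_mul_toB m ▸ dvd_mul_left (toB m) (toA m))).pow_right _).symm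

lemma one_lt_toB (m : ℕ) (hm : 1 ≤ m) : 1 < toB m := by
  have : 2 ^ (m + 1) < 2 ^ (2 * m + 1) := Nat.pow_lt_pow_right one_lt_two (by omega)
  unfold toB; omega

lemma one_lt_toA (m : ℕ) : 1 < toA m := by
  exact Nat.succ_lt_succ (Nat.add_pos_left (Nat.two_pow_pos (2 * m + 1)) _)

include P hF in
lemma exists_fpf_of_prime {p : ℕ} (hp : p.Prime) (hpd : p ∣ Fintype.card F ^ 2 + 1) :
    ∃ g : ↥(Sz F (2 ^ (m + 1))), FPF g ∧ orderOf g = p := by
  haveI : Fact p.Prime := ⟨hp⟩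
  obtain ⟨g, hg⟩ := exists_prime_orderOf_dvd_card' (G := ↥(Sz F (2 ^ (m + 1)))) p
    (by rw [card_sz P]; exact hpd.mul_left _)
  refine ⟨g, ?_, hg⟩
  have hg1 : g ≠ 1 := fun h => by rw [h, orderOf_one] at hg; exact hp.ne_one hg.symm
  have hq := q_coprime hF hpd
  rcases trichotomy P hg1 with ⟨k, hk⟩ | ⟨k, x, -, hk⟩ | h
  · exfalso
    have : p ∣ Fintype.card F ^ 2 := by
      rw [← hg, ← card_unip P, ← orderOf_injective (MulAut.conj k).toMonoidHom (MulAut.conj k).injective g]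
      exact Subgroup.orderOf_dvd_natCard _ hk
    exact hp.coprime_iff_not_dvd.1 hq.1 (hp.dvd_of_dvd_pow this)
  · exfalso
    have h : p ∣ Fintype.card F - 1 := by
      rw [← hg, ← card_torus P, ← orderOf_injective (MulAut.conj k).toMonoidHom (MulAut.conj k).injective g]
      exact Subgroup.orderOf_dvd_natCard _ (show k * g * k⁻¹ ∈ torus P from hk ▸ dEl_mem_torus P x)
    refine hp.coprime_iff_not_dvd.1 hq.2 ?_
    have h2 : p ∣ (Fintype.card F ^ 2 + 1) - (Fintype.card F + 1) * (Fintype.card F - 1) :=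
      Nat.dvd_sub hpd (h.mul_left _)
    rwa [← Nat.sq_sub_sq, one_pow, show Fintype.card F ^ 2 + 1 - (Fintype.card F ^ 2 - 1) = 2 by
      have : 1 ≤ Fintype.card F ^ 2 := Nat.one_le_pow _ _ Fintype.card_pos
      omega] at h2
  · exact h

include P hF hm in
lemma not_dvd_of_lt {g : ↥(Sz F (2 ^ (m + 1)))} (hg : FPF g) {p : ℕ} (hp : p.Prime)
    (hpc : p ∣ Nat.card ↥(Subgroup.centralizer {g})) :
    ¬ p * Nat.card ↥(Subgroup.centralizer {g}) ∣ Nat.card ↥(Sz F (2 ^ (m + 1))) := by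
  intro hd
  haveI : Fact p.Prime := ⟨hp⟩
  obtain ⟨h, hh⟩ := exists_prime_orderOf_dvd_card' (G := ↥(Subgroup.centralizer {g})) p hpc
  rw [← Subgroup.orderOf_coe] at hh
  have h1 : (h : ↥(Sz F (2 ^ (m + 1)))) ≠ 1 := fun e => by
    rw [e, orderOf_one] at hh; exact hp.ne_one hh.symm
  obtain ⟨S, hS⟩ := (IsPGroup.of_card (p := p) (G := ↥(Subgroup.zpowers (h : ↥(Sz F (2 ^ (m + 1))))))
    (n := 1) (by rw [Nat.card_zpowers, hh, pow_one])).exists_le_sylow
  haveI : Nontrivial ↥(S : Subgroup ↥(Sz F (2 ^ (m + 1)))) :=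
    ⟨⟨⟨h, hS (Subgroup.mem_zpowers _)⟩, 1, fun e => h1 (congrArg Subtype.val e)⟩⟩
  haveI := S.2.center_nontrivial
  obtain ⟨⟨z, hzc⟩, hz⟩ := exists_ne (1 : ↥(Subgroup.center ↥(S : Subgroup ↥(Sz F (2 ^ (m + 1))))))
  have hz1 : (z : ↥(Sz F (2 ^ (m + 1)))) ≠ 1 := fun e => hz (Subtype.ext (Subtype.ext e))
  rw [Subgroup.mem_center_iff] at hzc
  have hzC : (z : ↥(Sz F (2 ^ (m + 1)))) ∈ Subgroup.centralizer {g} := by
    rw [← fpf_centralizer_eq P hF hm hg h.2 h1, Subgroup.mem_centralizer_singleton_iff]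
    exact (congrArg Subtype.val (hzc ⟨h, hS (Subgroup.mem_zpowers _)⟩)).symm
  have hSC : (S : Subgroup ↥(Sz F (2 ^ (m + 1)))) ≤ Subgroup.centralizer {g} := by
    intro x hx
    rw [← fpf_centralizer_eq P hF hm hg hzC hz1, Subgroup.mem_centralizer_singleton_iff]
    exact congrArg Subtype.val (hzc ⟨x, hx⟩)
  obtain ⟨t, ht⟩ := Subgroup.card_dvd_of_le hSC
  rw [ht, ← Subgroup.card_mul_index (S : Subgroup ↥(Sz F (2 ^ (m + 1)))), mul_left_comm] at hd
  exact S.not_dvd_index ((dvd_mul_right p t).trans (Nat.dvd_of_mul_dvd_mul_left Nat.card_pos hd))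

include P hF hm in
lemma card_eq_of_dvd {g : ↥(Sz F (2 ^ (m + 1)))} (hg : FPF g) {A B : ℕ} (hA : A ∣ Fintype.card F ^ 2 + 1)
    (hB : B ∣ Fintype.card F ^ 2 + 1) (hB1 : 1 < B) (hAB : A.Coprime B)
    (hor : ∀ x : ↥(Sz F (2 ^ (m + 1))), FPF x →
      Nat.card ↥(Subgroup.centralizer {x}) ∣ A ∨ Nat.card ↥(Subgroup.centralizer {x}) ∣ B)
    (hc : Nat.card ↥(Subgroup.centralizer {g}) ∣ A) : Nat.card ↥(Subgroup.centralizer {g}) = A := by
  by_contra hne
  obtain ⟨t, ht⟩ := hc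
  obtain ⟨p, hp, hpt⟩ := Nat.exists_prime_and_dvd (n := t) (fun h => hne (by rw [ht, h, mul_one]))
  have hpA : p ∣ A := ht ▸ hpt.mul_left _
  have hpc : ¬ p ∣ Nat.card ↥(Subgroup.centralizer {g}) := fun h =>
    not_dvd_of_lt P hF hm hg hp h (by
      rw [card_sz P]
      refine dvd_mul_of_dvd_right (dvd_trans ?_ hA) _
      rw [ht, mul_comm p]; exact Nat.mul_dvd_mul_left _ hpt)
  obtain ⟨r, hr, hrB⟩ := Nat.exists_prime_and_dvd (n := B) (by omega)
  obtain ⟨g₂, hg₂, ho₂⟩ := exists_fpf_of_prime P hF hp (hpA.trans hA)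
  obtain ⟨g₃, hg₃, ho₃⟩ := exists_fpf_of_prime P hF hr (hrB.trans hB)
  have hp2 : p ∣ Nat.card ↥(Subgroup.centralizer {g₂}) :=
    ho₂ ▸ Subgroup.orderOf_dvd_natCard _ (Subgroup.mem_centralizer_singleton_iff.2 rfl)
  have hr3 : r ∣ Nat.card ↥(Subgroup.centralizer {g₃}) :=
    ho₃ ▸ Subgroup.orderOf_dvd_natCard _ (Subgroup.mem_centralizer_singleton_iff.2 rfl)
  have hrA : ¬ r ∣ A := fun h => hr.ne_one (Nat.eq_one_of_dvd_coprimes hAB h hrB)
  refine no_three P hF hm hg hg₂ hg₃ (disjoint_of_card_ne P hF hm hg hg₂ fun h => hpc (h ▸ hp2))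
    (disjoint_of_card_ne P hF hm hg hg₃ fun h => hrA ((h ▸ hr3).trans (ht ▸ dvd_mul_right _ t))) ?_
  refine disjoint_of_card_ne P hF hm hg₂ hg₃ fun h => ?_
  have hpr : p ∣ Nat.card ↥(Subgroup.centralizer {g₃}) := h ▸ hp2
  rcases hor g₃ hg₃ with h3 | h3
  · exact hrA (hr3.trans h3)
  · exact hp.ne_one (Nat.eq_one_of_dvd_coprimes hAB hpA (hpr.trans h3))

include P hF hm in
/-- The centraliser of an element without fixed points has order `q + r + 1` or `q - r + 1`. -/
lemma fpf_card {g : ↥(Sz F (2 ^ (m + 1)))} (hg : FPF g) :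
    Nat.card ↥(Subgroup.centralizer {g}) = toA m ∨ Nat.card ↥(Subgroup.centralizer {g}) = toB m := by
  obtain ⟨hA, hB⟩ := toA_toB_dvd (m := m) hF
  rcases fpf_card_dvd_toA_or P hF hm hg with h | h
  · exact Or.inl (card_eq_of_dvd P hF hm hg hA hB (one_lt_toB m hm) (toA_coprime_toB m)
      (fun x hx => fpf_card_dvd_toA_or P hF hm hx) h)
  · exact Or.inr (card_eq_of_dvd P hF hm hg hB hA (one_lt_toA m) (toA_coprime_toB m).symm
      (fun x hx => (fpf_card_dvd_toA_or P hF hm hx).symm) h)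

include P hF hm in
lemma exists_torus_pair : ∃ a b : ↥(Sz F (2 ^ (m + 1))), FPF a ∧ FPF b ∧
    Nat.card ↥(Subgroup.centralizer {a}) = toA m ∧ Nat.card ↥(Subgroup.centralizer {b}) = toB m := by
  obtain ⟨hA, hB⟩ := toA_toB_dvd (m := m) hF
  obtain ⟨p, hp, hpA⟩ := Nat.exists_prime_and_dvd (n := toA m) (one_lt_toA m).ne'
  obtain ⟨r, hr, hrB⟩ := Nat.exists_prime_and_dvd (n := toB m) (one_lt_toB m hm).ne'
  obtain ⟨a, ha, hoa⟩ := exists_fpf_of_prime P hF hp (hpA.trans hA)
  obtain ⟨b, hb, hob⟩ := exists_fpf_of_prime P hF hr (hrB.trans hB)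
  have hpa : p ∣ Nat.card ↥(Subgroup.centralizer {a}) :=
    hoa ▸ Subgroup.orderOf_dvd_natCard _ (Subgroup.mem_centralizer_singleton_iff.2 rfl)
  have hrb : r ∣ Nat.card ↥(Subgroup.centralizer {b}) :=
    hob ▸ Subgroup.orderOf_dvd_natCard _ (Subgroup.mem_centralizer_singleton_iff.2 rfl)
  refine ⟨a, b, ha, hb, (fpf_card P hF hm ha).resolve_right fun h => ?_,
    (fpf_card P hF hm hb).resolve_left fun h => ?_⟩
  · exact hp.ne_one (Nat.eq_one_of_dvd_coprimes (toA_coprime_toB m) hpA (h ▸ hpa))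
  · exact hr.ne_one (Nat.eq_one_of_dvd_coprimes (toA_coprime_toB m) (h ▸ hrb) hrB)

include P hF hm in
/-- The normaliser of such a torus has order four times the order of the torus. -/
lemma fpf_card_normalizer {g : ↥(Sz F (2 ^ (m + 1)))} (hg : FPF g) :
    Nat.card ↥(Subgroup.normalizer (Subgroup.centralizer {g} : Set ↥(Sz F (2 ^ (m + 1))))) =
      4 * Nat.card ↥(Subgroup.centralizer {g}) := by
  have two : ∀ a b : ↥(Sz F (2 ^ (m + 1))), FPF a → FPF b →
      Nat.card ↥(Subgroup.centralizer {a}) * Nat.card ↥(Subgroup.centralizer {b}) = Fintype.card F ^ 2 + 1 →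
      Nat.card ↥(Subgroup.centralizer {a}) + Nat.card ↥(Subgroup.centralizer {b}) = 2 * Fintype.card F + 2 →
      Nat.card ↥(Subgroup.centralizer {a}) ≠ Nat.card ↥(Subgroup.centralizer {b}) →
      Nat.card ↥(Subgroup.normalizer (Subgroup.centralizer {a} : Set ↥(Sz F (2 ^ (m + 1))))) =
        4 * Nat.card ↥(Subgroup.centralizer {a}) := by
    intro a b ha hb hmul hadd hne
    have hle := Set.ncard_le_ncard (Set.union_subset (conjSet_subset_fpf P ha) (conjSet_subset_fpf P hb))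
      (Set.toFinite _)
    rw [Set.ncard_union_eq (disjoint_of_card_ne P hF hm ha hb hne),
      ncard_conjSet _ (fun u hu h1 k hk => fpf_TI P hF hm ha hu h1 k hk),
      ncard_conjSet _ (fun u hu h1 k hk => fpf_TI P hF hm hb hu h1 k hk)] at hle
    have hN := ncard_fpf P hF hm
    have hia := Subgroup.card_mul_index
      (Subgroup.normalizer (Subgroup.centralizer {a} : Set ↥(Sz F (2 ^ (m + 1)))))
    have hib := Subgroup.card_mul_index
      (Subgroup.normalizer (Subgroup.centralizer {b} : Set ↥(Sz F (2 ^ (m + 1)))))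
    have hna := fpf_card_normalizer_le P hF hm ha
    have hnb := fpf_card_normalizer_le P hF hm hb
    have hipos := Nat.pos_of_ne_zero
      (Subgroup.index_ne_zero_of_finite
        (H := Subgroup.normalizer (Subgroup.centralizer {a} : Set ↥(Sz F (2 ^ (m + 1))))))
    rw [card_sz P] at hia hib
    have h5a := five_le_card P hF ha
    have h5b := five_le_card P hF hb
    have h8 := eight_le hF hm
    generalize {g : ↥(Sz F (2 ^ (m + 1))) | FPF g}.ncard = N at hle hN
    generalize (Subgroup.normalizer (Subgroup.centralizer {a} : Set ↥(Sz F (2 ^ (m + 1))))).index = i at hle hia hipos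
    generalize (Subgroup.normalizer (Subgroup.centralizer {b} : Set ↥(Sz F (2 ^ (m + 1))))).index = j at hle hib
    generalize Nat.card ↥(Subgroup.normalizer (Subgroup.centralizer {a} : Set ↥(Sz F (2 ^ (m + 1))))) = x at hia hna ⊢
    generalize Nat.card ↥(Subgroup.normalizer (Subgroup.centralizer {b} : Set ↥(Sz F (2 ^ (m + 1))))) = y at hib hnb
    generalize Nat.card ↥(Subgroup.centralizer {a}) = A at *
    generalize Nat.card ↥(Subgroup.centralizer {b}) = B at *
    generalize Fintype.card F = q at *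
    refine le_antisymm hna ?_
    by_contra hlt
    obtain ⟨A', rfl⟩ : ∃ A', A = A' + 1 := ⟨A - 1, by omega⟩
    obtain ⟨B', rfl⟩ : ∃ B', B = B' + 1 := ⟨B - 1, by omega⟩
    obtain ⟨p, rfl⟩ : ∃ p, q = p + 1 := ⟨q - 1, by omega⟩
    simp only [Nat.add_sub_cancel] at hle hN hia hib
    zify at hle hN hia hib hna hnb hmul hadd
    have hlt' : (x : ℤ) + 1 ≤ 4 * ((A' : ℤ) + 1) := by
      have : x + 1 ≤ 4 * (A' + 1) := by omega
      exact_mod_cast this
    have e1 : ((p : ℤ) + 1) ^ 2 * p * (((p : ℤ) + 1) ^ 2 + 1) + i ≤ 4 * ((A' : ℤ) + 1) * i := by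
      rw [← hia]; nlinarith
    have e2 : ((p : ℤ) + 1) ^ 2 * p * (((p : ℤ) + 1) ^ 2 + 1) ≤ 4 * ((B' : ℤ) + 1) * j := by
      rw [← hib]; exact mul_le_mul_of_nonneg_right hnb (Int.natCast_nonneg j)
    have e3 := mul_le_mul_of_nonneg_right e1 (by positivity : (0 : ℤ) ≤ (A' : ℤ) * ((B' : ℤ) + 1))
    have e4 := mul_le_mul_of_nonneg_right e2 (by positivity : (0 : ℤ) ≤ (B' : ℤ) * ((A' : ℤ) + 1))
    have e5 := mul_le_mul_of_nonneg_right hle (by positivity : (0 : ℤ) ≤ 4 * ((A' : ℤ) + 1) * ((B' : ℤ) + 1))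
    have e6 : (0 : ℤ) < (i : ℤ) * ((A' : ℤ) * ((B' : ℤ) + 1)) := by
      refine mul_pos (by exact_mod_cast hipos) (mul_pos ?_ (by positivity))
      have : 0 < A' := by omega
      exact_mod_cast this
    have e7 : (A' : ℤ) * ((B' : ℤ) + 1) + (B' : ℤ) * ((A' : ℤ) + 1) = 2 * ((p : ℤ) + 1) * p := by
      linear_combination 2 * hmul - hadd
    have e8 : (A' + 1 : ℤ) * (B' + 1) = ((p : ℤ) + 1) ^ 2 + 1 := by linear_combination hmul
    nlinarith [e3, e4, e5, e6, e7, e8]
  obtain ⟨a, b, ha, hb, hca, hcb⟩ := exists_torus_pair P hF hm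
  have hmul : toA m * toB m = Fintype.card F ^ 2 + 1 := by rw [hF]; exact toA_mul_toB m
  have hadd : toA m + toB m = 2 * Fintype.card F + 2 := by
    have := r_le_q m
    rw [hF]; unfold toA toB; omega
  have hne : toA m ≠ toB m := by
    have := Nat.two_pow_pos (m + 1)
    unfold toA toB; omega
  rcases fpf_card P hF hm hg with h | h
  · exact two g b hg hb (by rw [h, hcb, hmul]) (by rw [h, hcb, hadd]) (by rw [h, hcb]; exact hne)
  · exact two g a hg ha (by rw [h, hca, mul_comm, hmul]) (by rw [h, hca, add_comm, hadd])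
      (by rw [h, hca]; exact hne.symm)

include P hF hm in
/-- Tori of the same order are conjugate. -/
lemma fpf_conj {g h : ↥(Sz F (2 ^ (m + 1)))} (hg : FPF g) (hh : FPF h)
    (he : Nat.card ↥(Subgroup.centralizer {g}) = Nat.card ↥(Subgroup.centralizer {h})) :
    ∃ k : ↥(Sz F (2 ^ (m + 1))),
      (Subgroup.centralizer {g}).map (MulAut.conj k).toMonoidHom = Subgroup.centralizer {h} := by
  obtain ⟨a, b, ha, hb, hca, hcb⟩ := exists_torus_pair P hF hm
  have hne : toA m ≠ toB m := by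
    have := Nat.two_pow_pos (m + 1)
    unfold toA toB; omega
  refine conj_of_not_disjoint P hF hm hg hh fun hd => ?_
  rcases fpf_card P hF hm hg with h1 | h1
  · exact no_three P hF hm hg hh hb hd (disjoint_of_card_ne P hF hm hg hb (by rw [h1, hcb]; exact hne))
      (disjoint_of_card_ne P hF hm hh hb (by rw [← he, h1, hcb]; exact hne))
  · exact no_three P hF hm hg hh ha hd (disjoint_of_card_ne P hF hm hg ha (by rw [h1, hca]; exact hne.symm))
      (disjoint_of_card_ne P hF hm hh ha (by rw [← he, h1, hca]; exact hne.symm))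

include hF hm in
lemma q_sub_one_coprime : (Fintype.card F - 1).Coprime (toA m) ∧ (Fintype.card F - 1).Coprime (toB m) := by
  obtain ⟨hA, hB⟩ := toA_toB_dvd (m := m) hF
  have key : ∀ d, d ∣ Fintype.card F ^ 2 + 1 → (Fintype.card F - 1).Coprime d := by
    intro d hd
    refine Nat.coprime_of_dvd fun p hp h1 h2 => hp.coprime_iff_not_dvd.1 (q_coprime hF (h2.trans hd)).2 ?_
    have h2 : p ∣ (Fintype.card F ^ 2 + 1) - (Fintype.card F + 1) * (Fintype.card F - 1) :=
      Nat.dvd_sub (h2.trans hd) (h1.mul_left _)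
    rwa [← Nat.sq_sub_sq, one_pow, show Fintype.card F ^ 2 + 1 - (Fintype.card F ^ 2 - 1) = 2 by
      have : 1 ≤ Fintype.card F ^ 2 := Nat.one_le_pow _ _ Fintype.card_pos
      omega] at h2
  exact ⟨key _ hA, key _ hB⟩

lemma orderOf_dvd_four {g : ↥(Sz F (2 ^ (m + 1)))} {k : ↥(Sz F (2 ^ (m + 1)))}
    (hk : k * g * k⁻¹ ∈ unip P) : orderOf g ∣ 4 := by
  rw [← orderOf_injective (MulAut.conj k).toMonoidHom (MulAut.conj k).injective g]
  change orderOf (k * g * k⁻¹) ∣ 4
  rcases eq_or_ne (k * g * k⁻¹) 1 with h | h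
  · rw [h, orderOf_one]; exact one_dvd _
  rcases unip_cases P hk h with ⟨h2, -⟩ | ⟨h4, -⟩
  · rw [h2]; norm_num
  · rw [h4]

include P hF hm in
/-- Every non-trivial element is a `2`-element, or has a cyclic centraliser of order `q - 1`,
`q + r + 1` or `q - r + 1`. -/
lemma element_cases {g : ↥(Sz F (2 ^ (m + 1)))} (h1 : g ≠ 1) :
    orderOf g ∣ 4 ∨ (IsCyclic ↥(Subgroup.centralizer {g}) ∧
      (Nat.card ↥(Subgroup.centralizer {g}) = Fintype.card F - 1 ∨
        Nat.card ↥(Subgroup.centralizer {g}) = toA m ∨ Nat.card ↥(Subgroup.centralizer {g}) = toB m)) := by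
  rcases trichotomy P h1 with ⟨k, hk⟩ | ⟨k, x, hx, hk⟩ | hf
  · exact Or.inl (orderOf_dvd_four P hk)
  · refine Or.inr ?_
    have hC : (Subgroup.centralizer {g}).map (MulAut.conj k).toMonoidHom = torus P := by
      rw [centralizer_map_conj, hk, centralizer_dEl P hx]
    haveI := torus_isCyclic P
    refine ⟨isCyclic_of_injective
      (((Subgroup.centralizer {g}).equivMapOfInjective (MulAut.conj k).toMonoidHom (MulAut.conj k).injective).trans
        (MulEquiv.subgroupCongr hC)).toMonoidHom (MulEquiv.injective _), Or.inl ?_⟩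
    rw [← card_torus P, ← hC, Subgroup.card_map_of_injective (f := (MulAut.conj k).toMonoidHom) (MulAut.conj k).injective]
  · exact Or.inr ⟨fpf_isCyclic P hF hm hf, Or.inr (fpf_card P hF hm hf)⟩

end CfsgLib.SuzukiGroup
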