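import Cfsg.Agent.Lib.SuzukiGroup.Group

/-!
# Local structure of the Suzuki groups

Torus, centralisers of the elements of the Borel subgroup, trivial intersection of the Sylow
`2`-subgroups, and the trichotomy: unipotent / toral / no fixed point.
-/

set_option autoImplicit false

open scoped MatrixGroups Matrix

namespace CfsgLib.SuzukiGroup

open Cfsg.Lie

variable {F : Type*} [Field F] [Fintype F] [CharP F 2] {e : ℕ} (P : Params F e)

omit [CharP F 2] [Fintype F] in
lemma theta_fix {t : F} (h : P.θ t = t) : t = 0 ∨ t = 1 := by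
  have h2 := P.sq t
  rw [h, h] at h2
  rcases eq_or_ne t 0 with h0 | h0
  · exact Or.inl h0
  · right
    rw [pow_two] at h2
    exact (mul_left_cancel₀ h0 (h2.symm.trans (mul_one t).symm))

omit [CharP F 2] [Fintype F] in
lemma theta_eq_one {t : F} : P.θ t = 1 ↔ t = 1 := P.θ.injective.eq_iff' P.θ.map_one

omit [CharP F 2] in
lemma theta_bijective : Function.Bijective P.θ :=
  Finite.injective_iff_bijective.1 P.θ.injective

lemma sq_eq_one {t : F} (h : t * t = 1) : t = 1 := by
  rcases mul_self_eq_one_iff.1 h with h | h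
  · exact h
  · rwa [CharTwo.neg_eq] at h

lemma scale_eq_one {t : F} (h0 : t ≠ 0) (h : t * t / P.θ t = 1) : t = 1 := by
  have h' : P.θ t = t * t := ((div_eq_one_iff_eq (by simpa using h0)).1 h).symm
  have h2 := P.sq t
  rw [h', map_mul, h'] at h2
  refine sq_eq_one (mul_left_cancel₀ (mul_ne_zero h0 h0) ?_)
  rw [h2]; ring

/-- the torus as a homomorphism -/
def dHom : Fˣ →* ↥(Sz F e) where
  toFun := dEl P
  map_one' := dEl_one P
  map_mul' x y := (dEl_mul P x y).symm

/-- the diagonal torus -/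
def torus : Subgroup ↥(Sz F e) := (dHom P).range

lemma dEl_mem_torus (x : Fˣ) : dEl P x ∈ torus P := ⟨x, rfl⟩

lemma mem_torus {g : ↥(Sz F e)} : g ∈ torus P ↔ ∃ x : Fˣ, dEl P x = g := Iff.rfl

lemma dEl_inj {x y : Fˣ} (h : dEl P x = dEl P y) : x = y := by
  have := congrFun (congrFun (congrArg mat h) 0) 0
  exact Units.ext (by simpa [dMat] using this)

lemma dEl_eq_one {x : Fˣ} : dEl P x = 1 ↔ x = 1 :=
  ⟨fun h => dEl_inj P (h.trans (dEl_one P).symm), fun h => by rw [h, dEl_one]⟩

lemma dEl_inv (x : Fˣ) : (dEl P x)⁻¹ = dEl P x⁻¹ := (map_inv (dHom P) x).symm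

noncomputable def torusEquiv : Fˣ ≃* ↥(torus P) :=
  MonoidHom.ofInjective (f := dHom P) fun _ _ h => dEl_inj P h

lemma card_torus : Nat.card ↥(torus P) = Fintype.card F - 1 := by
  rw [← Nat.card_congr (torusEquiv P).toEquiv, Nat.card_units, Nat.card_eq_fintype_card]

lemma torus_isCyclic : IsCyclic ↥(torus P) :=
  isCyclic_of_surjective (torusEquiv P).toMonoidHom (torusEquiv P).surjective

lemma borel_decomp_mem_unip {a b : F} {x : Fˣ} (h : uEl P a b * dEl P x ∈ unip P) : x = 1 := by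
  obtain ⟨a', b', h⟩ := h
  have := congrFun (congrFun (congrArg mat h) 0) 0
  exact Units.ext (by simpa [uMat, dMat, Matrix.mul_apply, Fin.sum_univ_four] using this)

lemma unip_le_borel : unip P ≤ borel (F := F) (e := e) := by
  rintro _ ⟨a, b, rfl⟩; exact uEl_mem_borel P a b

lemma jEl_inv : (jEl P)⁻¹ = jEl P := inv_eq_of_mul_eq_one_right (jEl_mul_self P)

/-- Distinct Sylow `2`-subgroups meet trivially. -/
lemma eq_one_of_conj {g u : ↥(Sz F e)} (hg : g ∉ borel (F := F) (e := e)) (hu : u ∈ unip P)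
    (h : g * u * g⁻¹ ∈ unip P) : u = 1 := by
  obtain ⟨a, b, k, hk, rfl⟩ := bruhat P hg
  have hk' := borel_le_normalizer P hk
  have hy : uEl P a b ∈ unip P := ⟨a, b, rfl⟩
  obtain ⟨c, d, hcd⟩ := (Subgroup.mem_normalizer_iff.1 hk' u).1 hu
  obtain ⟨c', d', hcd'⟩ : jEl P * uEl P c d * jEl P ∈ unip P := by
    have e1 : jEl P * uEl P c d * jEl P =
        (uEl P a b)⁻¹ * (uEl P a b * jEl P * k * u * (uEl P a b * jEl P * k)⁻¹) * uEl P a b := by
      rw [← hcd]; simp only [mul_inv_rev, jEl_inv]; group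
    rw [e1]; exact mul_mem (mul_mem (inv_mem hy) h) hy
  have e32 := congrFun (congrFun (congrArg mat hcd') 3) 2
  have e31 := congrFun (congrFun (congrArg mat hcd') 3) 1
  simp [Matrix.mul_apply, Fin.sum_univ_four, uMat, jMat] at e32 e31
  rw [e32, e31, uEl_zero] at hcd
  exact conj_eq_one_iff.1 hcd

lemma conj_unip_ne {g u : ↥(Sz F e)} (hu : u ∈ unip P) (h1 : u ≠ 1) (h : g * u * g⁻¹ ∈ unip P) :
    g ∈ borel (F := F) (e := e) := by
  by_contra hg
  exact h1 (eq_one_of_conj P hg hu h)

/-- The centraliser of a non-trivial unipotent element is unipotent. -/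
lemma centralizer_le_unip {s : ↥(Sz F e)} (hs : s ∈ unip P) (h1 : s ≠ 1) :
    Subgroup.centralizer {s} ≤ unip P := by
  intro g hg
  rw [Subgroup.mem_centralizer_singleton_iff] at hg
  have hgB : g ∈ borel (F := F) (e := e) := conj_unip_ne P hs h1 (by rwa [hg, mul_inv_cancel_right])
  obtain ⟨c, d, x, rfl⟩ := borel_form P hgB
  obtain ⟨a, b, rfl⟩ := hs
  rw [mul_assoc, dEl_mul_uEl, ← mul_assoc, ← mul_assoc, uEl_mul, uEl_mul] at hg
  obtain ⟨e1, e2⟩ := uEl_inj P (mul_right_cancel hg)
  suffices hx : x = 1 by rw [hx, dEl_one, mul_one]; exact ⟨c, d, rfl⟩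
  rcases eq_or_ne a 0 with rfl | ha
  · have hb : b ≠ 0 := fun hb => h1 (by rw [hb, uEl_zero])
    have : P.θ x * b = 1 * b := by simpa [add_comm b] using e2
    exact Units.ext ((theta_eq_one P).1 (mul_right_cancel₀ hb this))
  · have : (x : F) * x / P.θ x * a = 1 * a := by
      rw [add_comm a c] at e1; simpa using e1
    exact Units.ext (scale_eq_one P x.ne_zero (mul_right_cancel₀ ha this))

lemma uEl_comm_iff (a b c d : F) :
    uEl P a b * uEl P c d = uEl P c d * uEl P a b ↔ a * P.θ c = c * P.θ a := by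
  rw [uEl_mul, uEl_mul]
  constructor
  · intro h
    have := (uEl_inj P h).2
    rw [add_comm d b] at this
    exact add_left_cancel this
  · intro h; rw [h, add_comm c a, add_comm d b]

lemma uEl_sq (a b : F) : uEl P a b ^ 2 = uEl P 0 (a * P.θ a) := by
  rw [pow_two, uEl_mul, CharTwo.add_self_eq_zero, CharTwo.add_self_eq_zero, zero_add]

lemma uEl_eq_one {a b : F} : uEl P a b = 1 ↔ a = 0 ∧ b = 0 := by
  constructor
  · intro h; exact uEl_inj P (h.trans (uEl_zero P).symm)
  · rintro ⟨rfl, rfl⟩; exact uEl_zero P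

lemma orderOf_uEl_zero {b : F} (hb : b ≠ 0) : orderOf (uEl P 0 b) = 2 := by
  refine orderOf_eq_prime (p := 2) ?_ (fun h => hb ((uEl_eq_one P).1 h).2)
  rw [uEl_sq, zero_mul, uEl_zero]

lemma orderOf_uEl {a : F} (b : F) (ha : a ≠ 0) : orderOf (uEl P a b) = 4 := by
  refine orderOf_eq_prime_pow (p := 2) (n := 1) ?_ ?_
  · rw [pow_one, uEl_sq, uEl_eq_one]; simp [ha]
  · rw [show 2 ^ (1 + 1) = 2 * 2 from rfl, pow_mul, uEl_sq, uEl_sq, zero_mul, uEl_zero]

lemma unip_cases {g : ↥(Sz F e)} (hg : g ∈ unip P) (h1 : g ≠ 1) :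
    (orderOf g = 2 ∧ ∃ b : F, b ≠ 0 ∧ g = uEl P 0 b) ∨
      (orderOf g = 4 ∧ ∃ a b : F, a ≠ 0 ∧ g = uEl P a b) := by
  obtain ⟨a, b, rfl⟩ := hg
  rcases eq_or_ne a 0 with rfl | ha
  · have hb : b ≠ 0 := fun hb => h1 (by rw [hb, uEl_zero])
    exact Or.inl ⟨orderOf_uEl_zero P hb, b, hb, rfl⟩
  · exact Or.inr ⟨orderOf_uEl P b ha, a, b, ha, rfl⟩

lemma dMat_commute_entry {g : ↥(Sz F e)} {x y : Fˣ} (h : g * dEl P x = dEl P y * g) (i : Fin 4) :
    mat g i 0 * (x : F) = dMat P.θ (y : F) i i * mat g i 0 := by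
  have := congrFun (congrFun (congrArg mat h) i) 0
  fin_cases i <;> simpa [Matrix.mul_apply, Fin.sum_univ_four, dMat] using this

/-- The centraliser of a non-trivial diagonal element is the torus. -/
lemma centralizer_dEl {x : Fˣ} (hx : x ≠ 1) : Subgroup.centralizer {dEl P x} = torus P := by
  have hx' : (x : F) ≠ 1 := fun h => hx (Units.ext h)
  have hθ : P.θ (x : F) ≠ 0 := by simp
  refine le_antisymm (fun g hg => ?_) ?_
  · rw [Subgroup.mem_centralizer_singleton_iff] at hg
    have hB : g ∈ borel (F := F) (e := e) := by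
      have k1 : mat g 1 0 = 0 := by
        by_contra h0
        have h := dMat_commute_entry P hg 1
        rw [mul_comm] at h
        have h' : (x : F) = P.θ x / x := by simpa [dMat] using mul_right_cancel₀ h0 h
        refine hx' (scale_eq_one P x.ne_zero ?_)
        rw [div_eq_one_iff_eq hθ]
        nth_rw 1 [h']
        field_simp
      have k2 : mat g 2 0 = 0 := by
        by_contra h0
        have h := dMat_commute_entry P hg 2
        rw [mul_comm] at h
        have h' : (x : F) = x / P.θ x := by simpa [dMat] using mul_right_cancel₀ h0 h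
        refine hx' ((theta_eq_one P).1 ?_)
        field_simp at h'
        exact h'
      have k3 : mat g 3 0 = 0 := by
        by_contra h0
        have h := dMat_commute_entry P hg 3
        rw [mul_comm] at h
        have h' : (x : F) = (x : F)⁻¹ := by simpa [dMat] using mul_right_cancel₀ h0 h
        refine hx' (sq_eq_one ?_)
        nth_rw 2 [h']
        exact mul_inv_cancel₀ x.ne_zero
      exact ⟨k1, k2, k3⟩
    obtain ⟨a, b, z, rfl⟩ := borel_form P hB
    rw [← mul_assoc, dEl_mul_uEl, mul_assoc, mul_assoc, dEl_mul, dEl_mul, mul_comm z x] at hg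
    obtain ⟨e1, e2⟩ := uEl_inj P (mul_right_cancel hg)
    have ha : a = 0 := by
      by_contra ha
      exact hx' (scale_eq_one P x.ne_zero (mul_right_cancel₀ ha (e1.symm.trans (one_mul a).symm)))
    have hb : b = 0 := by
      by_contra hb
      exact hx' ((theta_eq_one P).1 (mul_right_cancel₀ hb (e2.symm.trans (one_mul b).symm)))
    rw [ha, hb, uEl_zero, one_mul]
    exact dEl_mem_torus P z
  · rintro _ ⟨y, rfl⟩
    rw [Subgroup.mem_centralizer_singleton_iff]
    show dEl P y * dEl P x = dEl P x * dEl P y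
    rw [dEl_mul, dEl_mul, mul_comm]

/-- A non-unipotent element of the Borel subgroup is conjugate into the torus. -/
lemma exists_conj_dEl (a b : F) {x : Fˣ} (hx : x ≠ 1) :
    ∃ v ∈ unip P, uEl P a b * dEl P x = v * dEl P x * v⁻¹ := by
  let f : ↥(unip P) → ↥(unip P) := fun v =>
    ⟨(v : ↥(Sz F e)) * (dEl P x * (v : ↥(Sz F e))⁻¹ * (dEl P x)⁻¹),
      mul_mem v.2 (dEl_conj_unip P x (inv_mem v.2))⟩
  have hinj : Function.Injective f := by
    intro v w h
    have h' := congrArg Subtype.val h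
    simp only [f] at h'
    have hc : (w : ↥(Sz F e))⁻¹ * v ∈ Subgroup.centralizer {dEl P x} := by
      rw [Subgroup.mem_centralizer_singleton_iff]
      rw [← mul_assoc, ← mul_assoc, ← mul_assoc, ← mul_assoc, mul_left_inj] at h'
      calc (w : ↥(Sz F e))⁻¹ * v * dEl P x = (w : ↥(Sz F e))⁻¹ * (v * dEl P x * (v : ↥(Sz F e))⁻¹) * v := by group
        _ = dEl P x * ((w : ↥(Sz F e))⁻¹ * v) := by rw [h']; group
    rw [centralizer_dEl P hx] at hc
    obtain ⟨y, hy⟩ := (mem_torus P).1 hc
    have hy1 : y = 1 := borel_decomp_mem_unip P (a := 0) (b := 0)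
      (by rw [uEl_zero, one_mul, hy]; exact mul_mem (inv_mem w.2) v.2)
    rw [hy1, dEl_one] at hy
    exact Subtype.ext (inv_mul_eq_one.1 hy.symm).symm
  obtain ⟨v, hv⟩ := (Finite.injective_iff_bijective.1 hinj).2 ⟨uEl P a b, a, b, rfl⟩
  refine ⟨v, v.2, ?_⟩
  have hv' : (v : ↥(Sz F e)) * (dEl P x * (v : ↥(Sz F e))⁻¹ * (dEl P x)⁻¹) = uEl P a b :=
    congrArg Subtype.val hv
  rw [← hv']
  group

/-- An element fixing no point of the ovoid. -/
def FPF (g : ↥(Sz F e)) : Prop := ∀ k : ↥(Sz F e), k * g * k⁻¹ ∉ borel (F := F) (e := e)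

lemma FPF.ne_one {g : ↥(Sz F e)} (hg : FPF g) : g ≠ 1 := by
  rintro rfl
  exact hg 1 (by simp)

lemma FPF.conj {g : ↥(Sz F e)} (hg : FPF g) (x : ↥(Sz F e)) : FPF (x * g * x⁻¹) := by
  intro k hk
  exact hg (k * x) (by simpa [mul_assoc, mul_inv_rev] using hk)

include P in
/-- Trichotomy. -/
lemma trichotomy {g : ↥(Sz F e)} (h1 : g ≠ 1) :
    (∃ k : ↥(Sz F e), k * g * k⁻¹ ∈ unip P) ∨
      (∃ k : ↥(Sz F e), ∃ x : Fˣ, x ≠ 1 ∧ k * g * k⁻¹ = dEl P x) ∨ FPF g := by
  by_cases h : FPF g
  · exact Or.inr (Or.inr h)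
  obtain ⟨k, hk⟩ := not_forall_not.1 h
  obtain ⟨a, b, x, hx⟩ := borel_form P hk
  rcases eq_or_ne x 1 with rfl | hx1
  · exact Or.inl ⟨k, by rw [hx, dEl_one, mul_one]; exact ⟨a, b, rfl⟩⟩
  · obtain ⟨v, -, hv⟩ := exists_conj_dEl P a b hx1
    refine Or.inr (Or.inl ⟨v⁻¹ * k, x, hx1, ?_⟩)
    rw [mul_inv_rev, inv_inv, show v⁻¹ * k * g * (k⁻¹ * v) = v⁻¹ * (k * g * k⁻¹) * v by group, hx, hv]
    group

include P in
/-- An element commuting with an element without fixed points has no fixed point. -/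
lemma FPF.of_commute {g h : ↥(Sz F e)} (hg : FPF g) (hh : h * g = g * h) (h1 : h ≠ 1) : FPF h := by
  rcases trichotomy P h1 with ⟨k, hk⟩ | ⟨k, x, hx, hk⟩ | h'
  · exfalso
    have : k * g * k⁻¹ ∈ Subgroup.centralizer {k * h * k⁻¹} := by
      rw [Subgroup.mem_centralizer_singleton_iff]
      calc k * g * k⁻¹ * (k * h * k⁻¹) = k * (g * h) * k⁻¹ := by group
        _ = k * h * k⁻¹ * (k * g * k⁻¹) := by rw [← hh]; group
    exact hg k (unip_le_borel P (centralizer_le_unip P hk (fun h => h1 (conj_eq_one_iff.1 h)) this))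
  · exfalso
    have : k * g * k⁻¹ ∈ Subgroup.centralizer {dEl P x} := by
      rw [← hk, Subgroup.mem_centralizer_singleton_iff]
      calc k * g * k⁻¹ * (k * h * k⁻¹) = k * (g * h) * k⁻¹ := by group
        _ = k * h * k⁻¹ * (k * g * k⁻¹) := by rw [← hh]; group
    rw [centralizer_dEl P hx] at this
    obtain ⟨y, hy⟩ := (mem_torus P).1 this
    exact hg k (hy ▸ dEl_mem_borel P y)
  · exact h'

lemma jEl_conj_dEl (x : Fˣ) : jEl P * dEl P x * (jEl P)⁻¹ = (dEl P x)⁻¹ := by
  rw [jEl_mul_dEl, mul_inv_cancel_right, dEl_inv]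

lemma jEl_notMem_borel : jEl P ∉ borel (F := F) (e := e) := by
  simpa [uEl_zero] using uj_notMem P (0 : F) 0

/-- The normaliser of the torus. -/
lemma mem_normalizer_torus (hq : 2 < Fintype.card F) {g : ↥(Sz F e)} :
    g ∈ Subgroup.normalizer (torus P : Set ↥(Sz F e)) ↔ g ∈ torus P ∨ jEl P * g ∈ torus P := by
  have hj : jEl P ∈ Subgroup.normalizer (torus P : Set ↥(Sz F e)) := by
    refine Subgroup.mem_normalizer_iff.2 fun n => ⟨?_, ?_⟩
    · rintro ⟨x, rfl⟩
      exact ⟨x⁻¹, (dEl_inv P x).symm.trans (jEl_conj_dEl P x).symm⟩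
    · rintro ⟨x, hx⟩
      refine ⟨x⁻¹, ?_⟩
      show dEl P x⁻¹ = n
      rw [← dEl_inv, ← jEl_conj_dEl, show dEl P x = jEl P * n * (jEl P)⁻¹ from hx]
      calc jEl P * (jEl P * n * (jEl P)⁻¹) * (jEl P)⁻¹ =
          (jEl P * jEl P) * n * ((jEl P * jEl P)⁻¹) := by group
        _ = n := by simp [jEl_mul_self]
  constructor
  · intro hg
    obtain ⟨x, hx⟩ : ∃ x : Fˣ, x ≠ 1 := by
      haveI : Nontrivial Fˣ := Finite.one_lt_card_iff_nontrivial.1 (by
        rw [Nat.card_units, Nat.card_eq_fintype_card]; omega)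
      exact exists_ne 1
    obtain ⟨y, hy⟩ := (Subgroup.mem_normalizer_iff.1 hg (dEl P x)).1 (dEl_mem_torus P x)
    have hy1 : y ≠ 1 := by
      rintro rfl
      rw [map_one] at hy
      exact hx ((dEl_eq_one P).1 (conj_eq_one_iff.1 hy.symm))
    have hgy : g * dEl P x = dEl P y * g := by
      rw [show dEl P y = g * dEl P x * g⁻¹ from hy]; group
    have key : ∀ k ∈ Subgroup.normalizer (torus P : Set ↥(Sz F e)), k ∈ borel (F := F) (e := e) →
        k ∈ torus P := by
      intro k hk hkB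
      obtain ⟨a, b, z, rfl⟩ := borel_form P hkB
      obtain ⟨w, hw⟩ := (Subgroup.mem_normalizer_iff.1 hk (dEl P x)).1 (dEl_mem_torus P x)
      have hw' : uEl P a b * dEl P z * dEl P x = dEl P w * (uEl P a b * dEl P z) := by
        rw [show dEl P w = uEl P a b * dEl P z * dEl P x * (uEl P a b * dEl P z)⁻¹ from hw]; group
      rw [← mul_assoc (dEl P w), dEl_mul_uEl, mul_assoc, mul_assoc, dEl_mul, dEl_mul] at hw'
      have hwx : z * x = w * z := Units.ext (by
        have := congrFun (congrFun (congrArg mat hw') 0) 0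
        simpa [uMat, dMat, Matrix.mul_apply, Fin.sum_univ_four] using this)
      rw [hwx, mul_right_cancel_iff] at hw'
      obtain ⟨e1, e2⟩ := uEl_inj P hw'
      have hw1 : w ≠ 1 := by
        intro h; rw [h, one_mul] at hwx; exact hx (mul_left_cancel (hwx.trans (mul_one z).symm))
      have ha : a = 0 := by
        by_contra ha
        exact hw1 (Units.ext (scale_eq_one P w.ne_zero (mul_right_cancel₀ ha (e1.symm.trans (one_mul a).symm))))
      have hb : b = 0 := by
        by_contra hb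
        exact hw1 (Units.ext ((theta_eq_one P).1 (mul_right_cancel₀ hb (e2.symm.trans (one_mul b).symm))))
      rw [ha, hb, uEl_zero, one_mul]
      exact dEl_mem_torus P z
    by_cases hgB : g ∈ borel (F := F) (e := e)
    · exact Or.inl (key g hg hgB)
    · refine Or.inr (key _ (mul_mem hj hg) ?_)
      rcases first_col P.sq (rel_mat P g) with h | ⟨h4, a, b, c2, c1, c0⟩
      · exact absurd (mem_borel.2 h) hgB
      have h3 := dMat_commute_entry P hgy 3
      have hxy : (x : F) = (y : F)⁻¹ := by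
        rw [mul_comm] at h3
        simpa [dMat] using mul_right_cancel₀ h4 h3
      have hy' : (y : F) ≠ 1 := fun h => hy1 (Units.ext h)
      have hθ : P.θ (y : F) ≠ 0 := by simp
      have k0 : mat g 0 0 = 0 := by
        by_contra h0
        have h := dMat_commute_entry P hgy 0
        rw [mul_comm] at h
        have h' : (x : F) = y := by simpa [dMat] using mul_right_cancel₀ h0 h
        refine hy' (sq_eq_one ?_)
        nth_rw 2 [h'.symm.trans hxy]
        exact mul_inv_cancel₀ y.ne_zero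
      have k1 : mat g 1 0 = 0 := by
        by_contra h0
        have h := dMat_commute_entry P hgy 1
        rw [mul_comm] at h
        have h' : (y : F)⁻¹ = P.θ y / y := by rw [← hxy]; simpa [dMat] using mul_right_cancel₀ h0 h
        refine hy' ((theta_eq_one P).1 ?_)
        field_simp at h'
        exact h'.symm
      have k2 : mat g 2 0 = 0 := by
        by_contra h0
        have h := dMat_commute_entry P hgy 2
        rw [mul_comm] at h
        have h' : (y : F)⁻¹ = y / P.θ y := by rw [← hxy]; simpa [dMat] using mul_right_cancel₀ h0 h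
        refine hy' (scale_eq_one P y.ne_zero ?_)
        field_simp at h' ⊢
        linear_combination -h'
      refine mem_borel.2 ?_
      simp [Matrix.mul_apply, Fin.sum_univ_four, jMat, k0, k1, k2]
  · rintro (h | h)
    · exact Subgroup.le_normalizer h
    · have := mul_mem hj (Subgroup.le_normalizer h)
      rwa [← mul_assoc, jEl_mul_self, one_mul] at this

end CfsgLib.SuzukiGroup
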