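import Cfsg.Agent.Lib.SuzukiGroup.Automorphisms
import Cfsg.Agent.Lib.SuzukiGroup.Tori
import Cfsg.Agent.Lib.Schur.Criteria
import Mathlib.Algebra.Polynomial.Roots

/-!
# The Schur multiplier of `Sz(q)`, `q ≥ 32`

In a central extension the preimage of a Sylow 2-subgroup `U` carries biadditive commutator maps
invariant under the torus; for `q ≥ 32` they vanish on `Z(U) × Z(U)` and `U × Z(U)`, and the torus
norm of the commutator map on `U × U` vanishes, so the derived subgroup of the preimage meets the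
kernel trivially.
-/

set_option autoImplicit false

open scoped MatrixGroups Matrix commutatorElement

namespace CfsgLib.SuzukiGroup

open Cfsg.Lie

universe u v

section Comm

variable {G : Type u} [Group G]

lemma comm_mul_left {x y z : G} (h : Commute x ⁅y, z⁆) : ⁅x * y, z⁆ = ⁅y, z⁆ * ⁅x, z⁆ := by
  calc ⁅x * y, z⁆ = x * ⁅y, z⁆ * (z * x⁻¹ * z⁻¹) := by simp only [commutatorElement_def]; group
    _ = ⁅y, z⁆ * x * (z * x⁻¹ * z⁻¹) := by rw [h.eq]
    _ = ⁅y, z⁆ * ⁅x, z⁆ := by simp only [commutatorElement_def]; group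

lemma comm_mul_right {x y z : G} (h : Commute x ⁅z, y⁆) : ⁅z, x * y⁆ = ⁅z, x⁆ * ⁅z, y⁆ := by
  calc ⁅z, x * y⁆ = z * x * z⁻¹ * (⁅z, y⁆ * x⁻¹) := by simp only [commutatorElement_def]; group
    _ = z * x * z⁻¹ * (x⁻¹ * ⁅z, y⁆) := by rw [h.inv_left.eq]
    _ = ⁅z, x⁆ * ⁅z, y⁆ := by simp only [commutatorElement_def]; group

end Comm

section Forms

variable {F : Type v} [Field F] [CharP F 2] {A : Type u} [CommGroup A]

lemma mul_self_of_additive {φ : F → A} (h : ∀ b c, φ (b + c) = φ b * φ c) (b : F) :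
    φ b * φ b = 1 := by
  have h0 : φ 0 = 1 := by
    have := h 0 0
    rw [add_zero] at this
    exact mul_eq_left.1 this.symm
  rw [← h, CharTwo.add_self_eq_zero, h0]

/-- A biadditive map invariant under simultaneous scaling is trivial. -/
lemma biadd_eq_one_of_scale (hq : ∃ s : F, s ≠ 0 ∧ s ≠ 1 ∧ s * s + s ≠ 1) {B : F → F → A}
    (hl : ∀ a a' b, B (a + a') b = B a b * B a' b) (hr : ∀ a b b', B a (b + b') = B a b * B a b')
    (hinv : ∀ t a b, t ≠ 0 → B (t * a) (t * b) = B a b) (a b : F) : B a b = 1 := by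
  obtain ⟨s, hs0, hs1, hs2⟩ := hq
  have hsum : s + 1 ≠ 0 := fun h => hs1 (CharTwo.add_eq_zero.1 h)
  have hB : ∀ a b, a ≠ 0 → B a b = B 1 (b / a) := fun a b ha => by
    conv_lhs => rw [← mul_one a, ← mul_div_cancel₀ b ha]
    exact hinv a 1 (b / a) ha
  have h1 : ∀ b, B 1 (b / (s + 1) + b / s + b) = 1 := by
    intro b
    have h := hl s 1 b
    rw [hB (s + 1) b hsum, hB s b hs0] at h
    rw [hr, hr, h, mul_comm (B 1 (b / s)) (B 1 b), mul_assoc (B 1 b), mul_self_of_additive (hr 1),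
      mul_one, mul_self_of_additive (hr 1)]
  have hd : (s + 1)⁻¹ + s⁻¹ + 1 ≠ 0 := by
    intro h
    apply hs2
    have h3 : (1 : F) + 1 = 0 := CharTwo.add_self_eq_zero 1
    field_simp at h
    linear_combination h - (s + 1) * h3
  have hone : ∀ b, B 1 b = 1 := fun b => by
    have h := h1 (b / ((s + 1)⁻¹ + s⁻¹ + 1))
    set d := (s + 1)⁻¹ + s⁻¹ + 1 with hd'
    have e : b / d / (s + 1) + b / d / s + b / d = b := by
      calc b / d / (s + 1) + b / d / s + b / d = b / d * d := by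
            conv_rhs => rw [hd']
            simp only [div_eq_mul_inv]; ring
        _ = b := div_mul_cancel₀ b hd
    rwa [e] at h
  rcases eq_or_ne a 0 with rfl | ha
  · have := hl 0 0 b
    rw [add_zero] at this
    exact mul_eq_left.1 this.symm
  · rw [hB a b ha, hone]

/-- A biadditive map invariant under scaling by `(k, k θ(k))` is trivial. -/
lemma biadd_eq_one_of_mixed (θ : F →+* F)
    (hq : ∃ s : F, s ≠ 0 ∧ s ≠ 1 ∧ ((s + 1) * θ (s + 1))⁻¹ + (s * θ s)⁻¹ + 1 ≠ 0)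
    {B : F → F → A}
    (hl : ∀ a a' b, B (a + a') b = B a b * B a' b) (hr : ∀ a b b', B a (b + b') = B a b * B a b')
    (hinv : ∀ k a b, k ≠ 0 → B (k * a) (k * θ k * b) = B a b) (a b : F) : B a b = 1 := by
  obtain ⟨s, hs0, hs1, hd⟩ := hq
  have hsum : s + 1 ≠ 0 := fun h => hs1 (CharTwo.add_eq_zero.1 h)
  have hB : ∀ a b, a ≠ 0 → B a b = B 1 (b / (a * θ a)) := fun a b ha => by
    have := hinv a 1 (b / (a * θ a)) ha
    rwa [mul_one, mul_div_cancel₀ b (mul_ne_zero ha (by simpa using ha))] at this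
  have h1 : ∀ b, B 1 (b / ((s + 1) * θ (s + 1)) + b / (s * θ s) + b) = 1 := by
    intro b
    have h := hl s 1 b
    rw [hB (s + 1) b hsum, hB s b hs0] at h
    rw [hr, hr, h, mul_comm (B 1 (b / (s * θ s))) (B 1 b), mul_assoc (B 1 b),
      mul_self_of_additive (hr 1), mul_one, mul_self_of_additive (hr 1)]
  have hone : ∀ b, B 1 b = 1 := fun b => by
    set d := ((s + 1) * θ (s + 1))⁻¹ + (s * θ s)⁻¹ + 1 with hd'
    have h := h1 (b / d)
    have e : b / d / ((s + 1) * θ (s + 1)) + b / d / (s * θ s) + b / d = b := by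
      calc b / d / ((s + 1) * θ (s + 1)) + b / d / (s * θ s) + b / d = b / d * d := by
            conv_rhs => rw [hd']
            simp only [div_eq_mul_inv]; ring
        _ = b := div_mul_cancel₀ b hd
    rwa [e] at h
  rcases eq_or_ne a 0 with rfl | ha
  · have := hl 0 0 b
    rw [add_zero] at this
    exact mul_eq_left.1 this.symm
  · rw [hB a b ha, hone]

end Forms

variable {F : Type v} [Field F] [Fintype F] [CharP F 2] {m : ℕ}
  (P : Params F (2 ^ (m + 1))) (hF : Fintype.card F = 2 ^ (2 * m + 1))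

set_option quotPrecheck false
local notation "𝔾" => ↥(Sz F (2 ^ (m + 1)))

include hF in
omit [CharP F 2] in
lemma exists_scale_param (hm : 1 ≤ m) : ∃ s : F, s ≠ 0 ∧ s ≠ 1 ∧ s * s + s ≠ 1 := by
  classical
  open Polynomial in
  by_contra hcon
  push Not at hcon
  have h8 : 8 ≤ Fintype.card F := eight_le hF hm
  let p : Polynomial F := X * X + X - 1
  have hdeg : p.natDegree ≤ 2 := by simp only [p]; compute_degree!
  have hp0 : p ≠ 0 := fun h => by
    have := congrArg (eval 0) h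
    simp [p] at this
  have hsub : (Finset.univ : Finset F) \ {0, 1} ⊆ p.roots.toFinset := by
    intro s hs
    simp only [Finset.mem_sdiff, Finset.mem_univ, true_and, Finset.mem_insert,
      Finset.mem_singleton, not_or] at hs
    rw [Multiset.mem_toFinset, mem_roots hp0, IsRoot.def]
    simp [p, hcon s hs.1 hs.2]
  have h1 := Finset.card_le_card hsub
  have h2 := (Multiset.toFinset_card_le p.roots).trans (card_roots' p)
  rw [Finset.card_sdiff, Finset.inter_univ, Finset.card_univ] at h1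
  have h3 := Finset.card_le_two (a := (0 : F)) (b := 1)
  omega

include hF in
lemma exists_mixed_param (hm : 2 ≤ m) :
    ∃ s : F, s ≠ 0 ∧ s ≠ 1 ∧ ((s + 1) * P.θ (s + 1))⁻¹ + (s * P.θ s)⁻¹ + 1 ≠ 0 := by
  classical
  open Polynomial in
  by_contra hcon
  push Not at hcon
  obtain ⟨e, he⟩ : ∃ e, e = 2 ^ (m + 1) := ⟨_, rfl⟩
  let p : Polynomial F := X + X ^ e + 1 + X ^ (e + 1) * (X ^ (e + 1) + X + X ^ e + 1)
  have he1 : 1 ≤ e := he ▸ Nat.one_le_two_pow
  have hdeg : p.natDegree ≤ 2 * e + 2 := by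
    simp only [p]
    compute_degree!
    all_goals omega
  have hp0 : p ≠ 0 := fun h => by
    have := congrArg (eval 0) h
    simp [p, zero_pow (by omega : e ≠ 0)] at this
  have hsub : (Finset.univ : Finset F) \ {0, 1} ⊆ p.roots.toFinset := by
    intro s hs
    simp only [Finset.mem_sdiff, Finset.mem_univ, true_and, Finset.mem_insert,
      Finset.mem_singleton, not_or] at hs
    rw [Multiset.mem_toFinset, mem_roots hp0, IsRoot.def]
    have hsum : s + 1 ≠ 0 := fun h => hs.2 (CharTwo.add_eq_zero.1 h)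
    have hθs : P.θ s ≠ 0 := by simpa using hs.1
    have hθ1 : P.θ s + 1 ≠ 0 := fun h => hsum (P.θ.injective (by
      rw [map_add, map_one, map_zero]; exact h))
    have hs0 : s ≠ 0 := hs.1
    have h := hcon s hs.1 hs.2
    rw [map_add, map_one] at h
    field_simp at h
    rw [P.pow_eq, ← he] at h
    have h3 : (1 : F) + 1 = 0 := CharTwo.add_self_eq_zero 1
    simp only [p, eval_add, eval_mul, eval_pow, eval_X, eval_one, pow_succ]
    linear_combination h - s * s ^ e * h3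
  have h1 := Finset.card_le_card hsub
  have h2 := (Multiset.toFinset_card_le p.roots).trans (card_roots' p)
  rw [Finset.card_sdiff, Finset.inter_univ, Finset.card_univ, hF] at h1
  have h3 := Finset.card_le_two (a := (0 : F)) (b := 1)
  have h4 : 2 ^ (2 * m + 1) = 2 ^ (m + 1) * 2 ^ m := by rw [← pow_add]; congr 1; omega
  have h5 : 4 ≤ 2 ^ m := le_trans (by norm_num) (Nat.pow_le_pow_right (n := 2) (by norm_num) hm)
  have h6 : e = 2 * 2 ^ m := by rw [he, pow_succ, mul_comm]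
  rw [← he] at h4
  rw [h4] at h1
  have h7 : 4 * e ≤ e * 2 ^ m := by rw [mul_comm 4]; exact Nat.mul_le_mul_left e h5
  generalize e * 2 ^ m = w at h1 h7
  omega

lemma dEl_conj_uEl (x : Fˣ) (a b : F) :
    dEl P x * uEl P a b * (dEl P x)⁻¹ = uEl P ((x : F) * x / P.θ x * a) (P.θ x * b) := by
  rw [dEl_mul_uEl, mul_inv_cancel_right]

include P hF in
/-- The preimage of the Sylow 2-subgroup has derived subgroup meeting the kernel trivially. -/
theorem derived_inf_ker (hm : 2 ≤ m) {Γ : Type u} [Group Γ] {σ : Γ →* 𝔾}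
    (hsur : Function.Surjective σ) (hc : σ.ker ≤ Subgroup.center Γ) {Q : Subgroup Γ}
    (hQ : Q.map σ ≤ unip P) {z : Γ} (hz : z ∈ σ.ker) (hzQ : z ∈ ⁅Q, Q⁆) (hz2 : z ^ 2 = 1) :
    z = 1 := by
  classical
  obtain ⟨r, hr⟩ := hsur.hasRightInverse
  open CfsgLib.Schur in
  have hcongr : ∀ {x x' y y' : Γ}, σ x = σ x' → σ y = σ y' → ⁅x, y⁆ = ⁅x', y'⁆ :=
    fun hx hy => commutator_congr hc hx hy
  let ua : F → Γ := fun a => r (uEl P a 0)
  let ub : F → Γ := fun b => r (uEl P 0 b)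
  let t : Fˣ → Γ := fun x => r (dEl P x)
  have hua : ∀ a, σ (ua a) = uEl P a 0 := fun a => hr _
  have hub : ∀ b, σ (ub b) = uEl P 0 b := fun b => hr _
  have ht : ∀ x, σ (t x) = dEl P x := fun x => hr _
  let Zc := Subgroup.center Γ
  letI : CommGroup ↥Zc :=
    { (inferInstance : Group ↥Zc) with
      mul_comm := fun a b => Subtype.ext ((Subgroup.mem_center_iff.mp b.2 a)) }
  have hcomm1 : ∀ {g h : Γ}, Commute (σ g) (σ h) → ⁅g, h⁆ ∈ Zc := fun {g h} hgh => hc (by
    rw [MonoidHom.mem_ker, map_commutatorElement, commutatorElement_eq_one_iff_commute]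
    exact hgh)
  have hcen : ∀ {g : Γ}, g ∈ Zc → ∀ y : Γ, Commute y g := fun hg y => Subgroup.mem_center_iff.1 hg y
  have hconj : ∀ (w x y : Γ), ⁅w * x * w⁻¹, w * y * w⁻¹⁆ = w * ⁅x, y⁆ * w⁻¹ := fun w x y => by
    simp only [commutatorElement_def]; group
  have hcent_conj : ∀ {g : Γ}, g ∈ Zc → ∀ w : Γ, w * g * w⁻¹ = g := fun hg w => by
    rw [(hcen hg w).eq, mul_inv_cancel_right]
  -- the commutator maps
  have hbb : ∀ a b, ⁅ub a, ub b⁆ ∈ Zc := fun a b => hcomm1 (by
    rw [hub, hub]; exact (uEl_comm_iff P 0 a 0 b).2 (by simp))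
  have hab : ∀ a b, ⁅ua a, ub b⁆ ∈ Zc := fun a b => hcomm1 (by
    rw [hua, hub]; exact (uEl_comm_iff P a 0 0 b).2 (by simp))
  have hadd_b : ∀ b b', σ (ub (b + b')) = σ (ub b * ub b') := fun b b' => by
    rw [map_mul, hub, hub, hub, uEl_mul]; simp
  have hB1 : ∀ a b, ⁅ub a, ub b⁆ = 1 := by
    intro a b
    have := biadd_eq_one_of_scale (A := ↥Zc) (exists_scale_param hF (by omega))
      (B := fun a b => ⟨⁅ub a, ub b⁆, hbb a b⟩)
      (fun a a' b => Subtype.ext (by
        show ⁅ub (a + a'), ub b⁆ = ⁅ub a, ub b⁆ * ⁅ub a', ub b⁆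
        rw [hcongr (hadd_b a a') rfl, comm_mul_left (hcen (hbb a' b) _)]
        exact (hcen (hbb a' b) _).eq.symm))
      (fun a b b' => Subtype.ext (by
        show ⁅ub a, ub (b + b')⁆ = ⁅ub a, ub b⁆ * ⁅ub a, ub b'⁆
        rw [hcongr rfl (hadd_b b b'), comm_mul_right (hcen (hbb a b') _)]))
      (fun k a b hk => Subtype.ext (by
        show ⁅ub (k * a), ub (k * b)⁆ = ⁅ub a, ub b⁆
        obtain ⟨x, hx⟩ := (theta_bijective P).2 k
        have hx0 : x ≠ 0 := fun e => hk (by rw [← hx, e, map_zero])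
        have e : ∀ c, σ (ub (k * c)) = σ (t (Units.mk0 x hx0) * ub c * (t (Units.mk0 x hx0))⁻¹) := by
          intro c
          rw [map_mul, map_mul, map_inv, ht, hub, hub, dEl_conj_uEl, mul_zero, Units.val_mk0, hx]
        rw [hcongr (e a) (e b), hconj, hcent_conj (hbb a b)]))
      a b
    exact congrArg Subtype.val this
  let InW : Γ → Prop := fun g => ∃ b, σ g = uEl P 0 b
  have hWW : ∀ g h, InW g → InW h → Commute g h := by
    rintro g h ⟨a, ha⟩ ⟨b, hb⟩
    rw [← commutatorElement_eq_one_iff_commute,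
      hcongr (ha.trans (hub a).symm) (hb.trans (hub b).symm), hB1]
  have hwa : ∀ a a', InW ((ua a * ua a')⁻¹ * ua (a + a')) := fun a a' => by
    refine ⟨a * P.θ a', ?_⟩
    rw [map_mul, map_inv, map_mul, hua, hua, hua, inv_mul_eq_iff_eq_mul, uEl_mul, uEl_mul]
    congr 1
    · simp
    · simp [CharTwo.add_self_eq_zero]
  have hB2 : ∀ a b, ⁅ua a, ub b⁆ = 1 := by
    intro a b
    have := biadd_eq_one_of_mixed (A := ↥Zc) P.θ (exists_mixed_param P hF hm)
      (B := fun a b => ⟨⁅ua a, ub b⁆, hab a b⟩)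
      (fun a a' b => Subtype.ext (by
        show ⁅ua (a + a'), ub b⁆ = ⁅ua a, ub b⁆ * ⁅ua a', ub b⁆
        obtain ⟨w, hw, hw'⟩ : ∃ w, InW w ∧ ua (a + a') = ua a * ua a' * w :=
          ⟨_, hwa a a', by group⟩
        have hwb : ⁅w, ub b⁆ = 1 :=
          commutatorElement_eq_one_iff_commute.2 (hWW w _ hw ⟨b, hub b⟩)
        rw [hw', comm_mul_left (by rw [hwb]; exact Commute.one_right _), hwb, one_mul,
          comm_mul_left (hcen (hab a' b) _)]
        exact (hcen (hab a' b) _).eq.symm))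
      (fun a b b' => Subtype.ext (by
        show ⁅ua a, ub (b + b')⁆ = ⁅ua a, ub b⁆ * ⁅ua a, ub b'⁆
        rw [hcongr rfl (hadd_b b b'), comm_mul_right (hcen (hab a b') _)]))
      (fun k a b hk => Subtype.ext (by
        show ⁅ua (k * a), ub (k * P.θ k * b)⁆ = ⁅ua a, ub b⁆
        obtain ⟨x, hx⟩ := exists_scale' P hk
        have hθ : P.θ (x : F) = k * P.θ k := by rw [theta_eq_scale P x.ne_zero, hx]
        have e1 : σ (ua (k * a)) = σ (t x * ua a * (t x)⁻¹) := by
          rw [map_mul, map_mul, map_inv, ht, hua, hua, dEl_conj_uEl, mul_zero, hx]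
        have e2 : σ (ub (k * P.θ k * b)) = σ (t x * ub b * (t x)⁻¹) := by
          rw [map_mul, map_mul, map_inv, ht, hub, hub, dEl_conj_uEl, mul_zero, hθ]
        rw [hcongr e1 e2, hconj, hcent_conj (hab a b)]))
      a b
    exact congrArg Subtype.val this
  have hVW : ∀ g h, σ g ∈ unip P → InW h → Commute g h := by
    rintro g h ⟨a, c, hg⟩ ⟨b, hb⟩
    rw [← commutatorElement_eq_one_iff_commute,
      hcongr (show σ g = σ (ua a * ub c) by rw [hg, map_mul, hua, hub, uEl_mul]; simp)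
        (hb.trans (hub b).symm),
      comm_mul_left (by rw [hB1]; exact Commute.one_right _), hB1, hB2, mul_one]
  have hVa : ∀ a, σ (ua a) ∈ unip P := fun a => ⟨a, 0, hua a⟩
  have hC : ∀ g h a c b d, σ g = uEl P a b → σ h = uEl P c d → ⁅g, h⁆ = ⁅ua a, ua c⁆ := by
    have key : ∀ g h a b, σ g = uEl P a b → σ h ∈ unip P → ⁅g, h⁆ = ⁅ua a, h⁆ := by
      intro g h a b hg hh
      obtain ⟨w, hw, rfl⟩ : ∃ w, InW w ∧ g = ua a * w := by
        refine ⟨(ua a)⁻¹ * g, ⟨b, ?_⟩, by group⟩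
        rw [map_mul, map_inv, hua, hg, inv_mul_eq_iff_eq_mul, uEl_mul]
        simp
      have hwh : ⁅w, h⁆ = 1 := commutatorElement_eq_one_iff_commute.2 (hVW h w hh hw).symm
      rw [comm_mul_left (by rw [hwh]; exact Commute.one_right _), hwh, one_mul]
    intro g h a c b d hg hh
    rw [key g h a b hg ⟨c, d, hh⟩, ← commutatorElement_inv, key h (ua a) c d hh (hVa a),
      commutatorElement_inv]
  have hCW : ∀ a c, InW ⁅ua a, ua c⁆ := fun a c => by
    refine ⟨c * P.θ a + a * P.θ c, ?_⟩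
    rw [map_commutatorElement, hua, hua, commutatorElement_def, uEl_inv, uEl_inv, uEl_mul, uEl_mul,
      uEl_mul]
    congr 1
    · simp [add_assoc, add_left_comm, CharTwo.add_self_eq_zero]
    · grind
  -- the subgroup `W`
  let zU : Subgroup 𝔾 :=
    { carrier := {g | ∃ b, g = uEl P 0 b}
      mul_mem' := by rintro _ _ ⟨b, rfl⟩ ⟨c, rfl⟩; exact ⟨b + c, by rw [uEl_mul]; simp⟩
      one_mem' := ⟨0, (uEl_zero P).symm⟩
      inv_mem' := by rintro _ ⟨b, rfl⟩; exact ⟨b, by rw [uEl_inv]; simp⟩ }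
  let W : Subgroup Γ := zU.comap σ
  have hmemW : ∀ g, g ∈ W ↔ InW g := fun g => Iff.rfl
  letI : CommGroup ↥W :=
    { (inferInstance : Group ↥W) with
      mul_comm := fun a b => Subtype.ext (hWW a b a.2 b.2).eq }
  have htW : ∀ x : Fˣ, ∀ g ∈ W, t x * g * (t x)⁻¹ ∈ W := by
    rintro x g ⟨b, hb⟩
    exact ⟨P.θ x * b, by rw [map_mul, map_mul, map_inv, ht, hb, dEl_conj_uEl, mul_zero]⟩
  let N : ↥W →* ↥W :=
    { toFun := fun g => ∏ x : Fˣ, ⟨t x * g * (t x)⁻¹, htW x g g.2⟩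
      map_one' := Finset.prod_eq_one fun x _ => Subtype.ext (by simp)
      map_mul' := fun g h => by
        rw [← Finset.prod_mul_distrib]
        exact Finset.prod_congr rfl fun x _ => Subtype.ext (by
          show t x * ((g : Γ) * h) * (t x)⁻¹ = t x * g * (t x)⁻¹ * (t x * h * (t x)⁻¹)
          group) }
  let B3 : F → F → ↥W := fun a c => ∏ x : Fˣ, ⟨⁅ua ((x : F) * x / P.θ x * a),
    ua ((x : F) * x / P.θ x * c)⁆, hCW _ _⟩
  have hNC : ∀ a c, N ⟨⁅ua a, ua c⁆, hCW a c⟩ = B3 a c := by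
    intro a c
    refine Finset.prod_congr rfl fun x _ => Subtype.ext ?_
    show t x * ⁅ua a, ua c⁆ * (t x)⁻¹ = _
    rw [← hconj]
    refine (hC _ _ _ _ (P.θ x * 0) (P.θ x * 0) ?_ ?_) <;>
      rw [map_mul, map_mul, map_inv, ht, hua, dEl_conj_uEl]
  have hCl : ∀ a a' c, ⁅ua (a + a'), ua c⁆ = ⁅ua a, ua c⁆ * ⁅ua a', ua c⁆ := fun a a' c => by
    have hcW : Commute (ua a) ⁅ua a', ua c⁆ := hVW _ _ (hVa a) (hCW a' c)
    rw [← hC (ua a * ua a') (ua c) (a + a') c (a * P.θ a') 0 (by rw [map_mul, hua, hua, uEl_mul]; simp)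
      (hua c), comm_mul_left hcW]
    exact (hWW _ _ (hCW a' c) (hCW a c)).eq
  have hCr : ∀ a c c', ⁅ua a, ua (c + c')⁆ = ⁅ua a, ua c⁆ * ⁅ua a, ua c'⁆ := fun a c c' => by
    rw [← hC (ua a) (ua c * ua c') a (c + c') 0 (c * P.θ c') (hua a)
      (by rw [map_mul, hua, hua, uEl_mul]; simp), comm_mul_right (hVW _ _ (hVa c) (hCW a c'))]
  have hB3 : ∀ a c, B3 a c = 1 := fun a c => by
    refine biadd_eq_one_of_scale (exists_scale_param hF (by omega)) (B := B3) ?_ ?_ ?_ a c
    · intro a a' c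
      simp only [B3, ← Finset.prod_mul_distrib, mul_add]
      exact Finset.prod_congr rfl fun x _ => Subtype.ext (hCl _ _ _)
    · intro a c c'
      simp only [B3, ← Finset.prod_mul_distrib, mul_add]
      exact Finset.prod_congr rfl fun x _ => Subtype.ext (hCr _ _ _)
    · intro k a c hk
      obtain ⟨y, hy⟩ := exists_scale' P hk
      refine Fintype.prod_equiv (Equiv.mulRight y) _ _ fun x => Subtype.ext ?_
      have e : ∀ u : F, (x : F) * x / P.θ x * (k * u) =
          ((x * y : Fˣ) : F) * (x * y : Fˣ) / P.θ ((x * y : Fˣ) : F) * u := fun u => by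
        rw [← hy, Units.val_mul, map_mul]
        ring
      show ⁅ua _, ua _⁆ = ⁅ua _, ua _⁆
      rw [e a, e c]
      rfl
  have hle : ⁅Q, Q⁆ ≤ N.ker.map W.subtype := by
    rw [Subgroup.commutator_le]
    intro g hg h hh
    obtain ⟨a, b, ha⟩ := hQ (Subgroup.mem_map_of_mem σ hg)
    obtain ⟨c, d, hcd⟩ := hQ (Subgroup.mem_map_of_mem σ hh)
    refine ⟨⟨⁅ua a, ua c⁆, hCW a c⟩, ?_, (hC g h a c b d ha hcd).symm⟩
    rw [SetLike.mem_coe, MonoidHom.mem_ker, hNC, hB3]
  obtain ⟨w, hwk, hwz⟩ := hle hzQ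
  have hNz : N w = w ^ Fintype.card Fˣ := by
    show (∏ x : Fˣ, (⟨t x * w * (t x)⁻¹, htW x w w.2⟩ : ↥W)) = _
    rw [Finset.prod_congr rfl (g := fun _ => w) fun x _ => Subtype.ext (by
      show t x * (w : Γ) * (t x)⁻¹ = w
      exact hcent_conj (hc (show (w : Γ) ∈ σ.ker by rwa [show (w : Γ) = z from hwz])) _), Finset.prod_const, Finset.card_univ]
  have h1 : z ^ Fintype.card Fˣ = 1 := by
    rw [← hwz, ← map_pow, ← hNz, MonoidHom.mem_ker.1 hwk, map_one]
  obtain ⟨j, hj⟩ : Odd (Fintype.card Fˣ) := by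
    rw [Fintype.card_units]
    exact odd_q_sub_one hF (by omega)
  rwa [hj, pow_succ, pow_mul, hz2, one_pow, one_mul] at h1

include P hF in
lemma sylow_odd_cyclic (hm : 1 ≤ m) {p : ℕ} [Fact p.Prime] (hp : p ≠ 2) (S : Sylow p 𝔾) :
    IsCyclic ↥(S : Subgroup 𝔾) := by
  rcases subsingleton_or_nontrivial ↥(S : Subgroup 𝔾) with h | h
  · infer_instance
  haveI := S.2.center_nontrivial
  obtain ⟨⟨z, hzc⟩, hz⟩ := exists_ne (1 : ↥(Subgroup.center ↥(S : Subgroup 𝔾)))
  have hz1 : (z : 𝔾) ≠ 1 := fun e => hz (Subtype.ext (Subtype.ext e))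
  rcases element_cases P hF hm hz1 with h4 | ⟨hc, -⟩
  · exfalso
    obtain ⟨j, hj⟩ := S.2 z
    rw [← orderOf_dvd_iff_pow_eq_one, ← Subgroup.orderOf_coe] at hj
    refine hz1 (orderOf_eq_one_iff.1 (Nat.eq_one_of_dvd_coprimes ?_ hj h4))
    rw [show 4 = 2 ^ 2 from rfl]
    exact Nat.Coprime.pow _ _ ((Nat.coprime_primes Fact.out Nat.prime_two).2 hp)
  · rw [Subgroup.mem_center_iff] at hzc
    have hle : (S : Subgroup 𝔾) ≤ Subgroup.centralizer {(z : 𝔾)} := fun x hx =>
      Subgroup.mem_centralizer_singleton_iff.2 (congrArg Subtype.val (hzc ⟨x, hx⟩))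
    haveI := hc
    exact isCyclic_of_injective (Subgroup.inclusion hle) (Subgroup.inclusion_injective hle)

include P hF in
/-- The Schur multiplier of `Sz(q)` is trivial for `q ≥ 32`. -/
theorem multiplier_trivial (hm : 2 ≤ m) : Cfsg.HasCyclicSchurMultiplier 𝔾 1 := by
  refine CfsgLib.Schur.hasCyclicSchurMultiplier_one fun p hp => ?_
  haveI : Fact p.Prime := ⟨hp⟩
  rcases eq_or_ne p 2 with rfl | hp2
  · exact CfsgLib.Schur.noMultiplierAt_of_derived (sylowTwo P) fun Γ _ _ σ hσ Q hQ z hz hzQ hz2 =>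
      derived_inf_ker P hF hm hσ.1 hσ.2.1 (Q := Q) hQ.le hz hzQ hz2
  · obtain ⟨S⟩ : Nonempty (Sylow p 𝔾) := inferInstance
    exact CfsgLib.Schur.noMultiplierAt_of_cyclic S (sylow_odd_cyclic P hF (by omega) hp2 S)

end CfsgLib.SuzukiGroup
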