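import Cfsg.Agent.Lib.SuzukiGroup.Subgroups
import Cfsg.Prelude.Def_KGroupFacts

/-!
# Automorphisms of the Suzuki groups

Every automorphism of `Sz(q)` is an inner automorphism times a field automorphism.
-/

set_option autoImplicit false

open scoped MatrixGroups Matrix Pointwise

namespace CfsgLib.SuzukiGroup

open Cfsg.Lie

section Field

variable {F : Type*} [Field F] [Fintype F] [CharP F 2] {e : ℕ} (P : Params F e)

omit [Fintype F] [CharP F 2] in
lemma map_theta (σ : F ≃+* F) (x : F) : σ (P.θ x) = P.θ (σ x) := by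
  rw [P.pow_eq, P.pow_eq, map_pow]

/-- the entrywise action of a field automorphism on a unitriangular element -/
lemma glMap_uEl (σ : F ≃+* F) (a b : F) :
    Matrix.GeneralLinearGroup.map σ.toRingHom (uEl P a b : GL (Fin 4) F) =
      (uEl P (σ a) (σ b) : GL (Fin 4) F) := by
  apply Units.ext
  show (uMat P.θ a b).map σ = uMat P.θ (σ a) (σ b)
  ext i j
  fin_cases i <;> fin_cases j <;> simp [uMat, map_theta P]

lemma glMap_dEl (σ : F ≃+* F) (x : Fˣ) :
    Matrix.GeneralLinearGroup.map σ.toRingHom (dEl P x : GL (Fin 4) F) =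
      (dEl P (Units.map σ.toMonoidHom x) : GL (Fin 4) F) := by
  apply Units.ext
  show (dMat P.θ (x : F)).map σ = dMat P.θ (σ (x : F))
  ext i j
  fin_cases i <;> fin_cases j <;> simp [dMat, map_theta P]

lemma glMap_jEl (σ : F ≃+* F) :
    Matrix.GeneralLinearGroup.map σ.toRingHom (jEl P : GL (Fin 4) F) = (jEl P : GL (Fin 4) F) := by
  apply Units.ext
  show (jMat : Matrix (Fin 4) (Fin 4) F).map σ = jMat
  ext i j
  fin_cases i <;> fin_cases j <;> simp [jMat]

include P in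
lemma glMap_mem (σ : F ≃+* F) (g : ↥(Sz F e)) :
    Matrix.GeneralLinearGroup.map σ.toRingHom (g : GL (Fin 4) F) ∈ Sz F e := by
  have hB : ∀ h ∈ borel (F := F) (e := e),
      Matrix.GeneralLinearGroup.map σ.toRingHom (h : GL (Fin 4) F) ∈ Sz F e := by
    intro h hh
    obtain ⟨a, b, x, rfl⟩ := borel_form P hh
    rw [Subgroup.coe_mul, map_mul, glMap_uEl, glMap_dEl]
    exact mul_mem (uEl P _ _).2 (dEl P _).2
  by_cases hg : g ∈ borel (F := F) (e := e)
  · exact hB g hg
  · obtain ⟨a, b, h, hh, rfl⟩ := bruhat P hg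
    rw [Subgroup.coe_mul, Subgroup.coe_mul, map_mul, map_mul, glMap_uEl, glMap_jEl]
    exact mul_mem (mul_mem (uEl P _ _).2 (jEl P).2) (hB h hh)

/-- the endomorphism of `Sz` induced by a field automorphism -/
def fieldHom (σ : F ≃+* F) : ↥(Sz F e) →* ↥(Sz F e) where
  toFun g := ⟨Matrix.GeneralLinearGroup.map σ.toRingHom (g : GL (Fin 4) F), glMap_mem P σ g⟩
  map_one' := Subtype.ext (by simp)
  map_mul' g h := Subtype.ext (by simp)

lemma mat_fieldHom (σ : F ≃+* F) (g : ↥(Sz F e)) : mat (fieldHom P σ g) = (mat g).map σ := rfl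

lemma fieldHom_fieldHom (σ τ : F ≃+* F) (g : ↥(Sz F e)) :
    fieldHom P σ (fieldHom P τ g) = fieldHom P (σ * τ) g := by
  apply mat_ext
  rw [mat_fieldHom, mat_fieldHom, mat_fieldHom, Matrix.map_map]
  rfl

lemma fieldHom_one (g : ↥(Sz F e)) : fieldHom P (1 : F ≃+* F) g = g := by
  apply mat_ext
  rw [mat_fieldHom]
  ext i j
  rfl

/-- the field automorphisms of `Sz` -/
def fieldAut : (F ≃+* F) →* MulAut ↥(Sz F e) where
  toFun σ :=
    { toFun := fieldHom P σ
      invFun := fieldHom P σ⁻¹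
      left_inv := fun g => by rw [fieldHom_fieldHom, inv_mul_cancel, fieldHom_one]
      right_inv := fun g => by rw [fieldHom_fieldHom, mul_inv_cancel, fieldHom_one]
      map_mul' := map_mul _ }
  map_one' := MulEquiv.ext fun g => fieldHom_one P g
  map_mul' σ τ := MulEquiv.ext fun g => (fieldHom_fieldHom P σ τ g).symm

lemma fieldAut_uEl (σ : F ≃+* F) (a b : F) : fieldAut P σ (uEl P a b) = uEl P (σ a) (σ b) :=
  Subtype.ext (glMap_uEl P σ a b)

lemma fieldAut_dEl (σ : F ≃+* F) (x : Fˣ) :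
    fieldAut P σ (dEl P x) = dEl P (Units.map σ.toMonoidHom x) :=
  Subtype.ext (glMap_dEl P σ x)

omit [CharP F 2] [Fintype F] in
lemma theta_eq_scale {x : F} (hx : x ≠ 0) : P.θ x = x * x / P.θ x * P.θ (x * x / P.θ x) := by
  have hθ : P.θ x ≠ 0 := by simpa using hx
  rw [map_div₀, map_mul, P.sq]
  field_simp

omit [CharP F 2] in
lemma exists_scale' {k : F} (hk : k ≠ 0) : ∃ x : Fˣ, (x : F) * x / P.θ x = k := by
  obtain ⟨y, hy⟩ := (theta_bijective P).2 (k * P.θ k)
  have hy0 : y ≠ 0 := fun e => mul_ne_zero hk (show P.θ k ≠ 0 by simpa using hk)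
    (by rw [← hy, e, map_zero])
  exact ⟨Units.mk0 y hy0, theta_mul_inj P ((theta_eq_scale P hy0).symm.trans hy)⟩

lemma exists_ne_zero_one (hq : 2 < Fintype.card F) : ∃ a : F, a ≠ 0 ∧ a ≠ 1 := by
  classical
  by_contra h
  push Not at h
  have hsub : (Finset.univ : Finset F) ⊆ {0, 1} := by
    intro a _
    rcases eq_or_ne a 0 with h0 | h0
    · simp [h0]
    · simp [h a h0]
  have := Finset.card_le_card hsub
  have := Finset.card_le_two (a := (0 : F)) (b := 1)
  rw [Finset.card_univ] at *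
  omega

/-- An automorphism fixing the torus and the centre of `U` pointwise, and stabilising `U`,
fixes the Borel subgroup pointwise. -/
lemma fix_borel (hq : 2 < Fintype.card F) (β : MulAut ↥(Sz F e))
    (hU : ∀ u ∈ unip P, β u ∈ unip P) (hT : ∀ x, β (dEl P x) = dEl P x)
    (hZ : ∀ b, β (uEl P 0 b) = uEl P 0 b) :
    ∀ g ∈ borel (F := F) (e := e), β g = g := by
  have h0 : ∀ a, ∃ c d, β (uEl P a 0) = uEl P c d := fun a => hU _ ⟨a, 0, rfl⟩
  choose f h hf using h0
  have hfa : ∀ a, f a = a := by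
    intro a
    have := map_pow β (uEl P a 0) 2
    rw [uEl_sq, hZ, hf, uEl_sq] at this
    exact theta_mul_inj P (uEl_inj P this).2.symm
  replace hf : ∀ a, β (uEl P a 0) = uEl P a (h a) := fun a => (hf a).trans (by rw [hfa])
  have hfull : ∀ a b, β (uEl P a b) = uEl P a (h a + b) := by
    intro a b
    have : uEl P a b = uEl P a 0 * uEl P 0 b := by rw [uEl_mul]; simp
    rw [this, map_mul, hf, hZ, uEl_mul]
    simp
  have hadd : ∀ a c, h (a + c) = h a + h c := by
    intro a c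
    have := map_mul β (uEl P a 0) (uEl P c 0)
    rw [uEl_mul, hfull, hf, hf, uEl_mul] at this
    have := (uEl_inj P this).2
    simpa using this
  have hscale : ∀ a, h a = a * P.θ a * h 1 := by
    intro a
    rcases eq_or_ne a 0 with rfl | ha
    · have := hadd 0 0
      simp [CharTwo.add_self_eq_zero] at this
      simpa using this
    obtain ⟨x, hx⟩ := exists_scale' P ha
    have h1 := congrArg β (dEl_mul_uEl P x 1 0)
    rw [map_mul, map_mul, hT, hf, dEl_mul_uEl, mul_zero, hf] at h1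
    obtain ⟨-, e2⟩ := uEl_inj P (mul_right_cancel h1)
    rw [mul_one, hx] at e2
    rw [← e2, theta_eq_scale P x.ne_zero, hx]
  have h1 : h 1 = 0 := by
    obtain ⟨a, ha0, ha1⟩ := exists_ne_zero_one hq
    have e1 := hadd a 1
    rw [hscale (a + 1), hscale a, map_add, map_one] at e1
    have e2 : (a + P.θ a) * h 1 = 0 := by linear_combination e1
    refine (mul_eq_zero.1 e2).resolve_left fun e3 => ?_
    rw [CharTwo.add_eq_zero] at e3
    rcases theta_fix P e3.symm with h | h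
    · exact ha0 h
    · exact ha1 h
  intro g hg
  obtain ⟨a, b, x, rfl⟩ := borel_form P hg
  rw [map_mul, hT, hfull, hscale, h1, mul_zero, zero_add]

end Field

section Aut

variable {F : Type*} [Field F] [Fintype F] [CharP F 2] {m : ℕ}
  (hm : 1 ≤ m) (hF : Fintype.card F = 2 ^ (2 * m + 1)) (P : Params F (2 ^ (m + 1)))

include hm hF in
lemma two_lt_card : 2 < Fintype.card F := by
  have := Nat.pow_le_pow_right (n := 2) (by norm_num) (show 2 ≤ 2 * m + 1 by omega)
  omega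

include hm hF in
/-- An automorphism fixing the torus and the centre of `U` pointwise, and stabilising `U`, is trivial. -/
lemma aut_eq_one (β : MulAut ↥(Sz F (2 ^ (m + 1))))
    (hU : ∀ u ∈ unip P, β u ∈ unip P) (hT : ∀ x, β (dEl P x) = dEl P x)
    (hZ : ∀ b, β (uEl P 0 b) = uEl P 0 b) : β = 1 := by
  have hq := two_lt_card hm hF
  have hB := fix_borel P hq β hU hT hZ
  have hinv : ∀ x : Fˣ, β (jEl P) * dEl P x * (β (jEl P))⁻¹ = dEl P x⁻¹ := by
    intro x
    calc β (jEl P) * dEl P x * (β (jEl P))⁻¹ = β (jEl P * dEl P x * (jEl P)⁻¹) := by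
          rw [map_mul, map_mul, map_inv, hT]
      _ = dEl P x⁻¹ := by rw [jEl_conj_dEl, map_inv, hT, dEl_inv]
  have hn : β (jEl P) ∈ Subgroup.normalizer (torus P : Set ↥(Sz F (2 ^ (m + 1)))) := by
    refine Subgroup.mem_normalizer_iff.2 fun n => ⟨?_, ?_⟩
    · rintro ⟨x, rfl⟩
      exact ⟨x⁻¹, (hinv x).symm⟩
    · rintro ⟨x, hx⟩
      refine ⟨x⁻¹, ?_⟩
      have e1 : β (jEl P) * n * (β (jEl P))⁻¹ = β (jEl P) * dEl P x⁻¹ * (β (jEl P))⁻¹ := by
        rw [hinv, inv_inv]; exact hx.symm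
      exact (mul_left_cancel (mul_right_cancel e1)).symm
  obtain ⟨d, hd⟩ : ∃ d : Fˣ, β (jEl P) = dEl P d * jEl P := by
    rcases (mem_normalizer_torus P hq).1 hn with ⟨d, hd⟩ | ⟨d, hd⟩
    · have hd' : β (dEl P d) = β (jEl P) := by rw [hT]; exact hd
      exact absurd (β.injective hd' ▸ dEl_mem_borel P d) (jEl_notMem_borel P)
    · refine ⟨d⁻¹, ?_⟩
      rw [← jEl_mul_dEl, show dEl P d = jEl P * β (jEl P) from hd, ← mul_assoc, jEl_mul_self,
        one_mul]
  set u := uEl P (0 : F) 1 with hu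
  have hu1 : u ≠ 1 := fun h => one_ne_zero ((uEl_eq_one P).1 h).2
  have hju : jEl P * u * jEl P ∉ borel (F := F) (e := 2 ^ (m + 1)) := by
    intro h
    have ho : jEl P * u * (jEl P)⁻¹ ∈ unip P := by
      rw [jEl_inv]
      refine mem_unip_of_even P hF hm h (orderOf_dvd_of_pow_eq_one ?_)
      have e : (jEl P * u * (jEl P)⁻¹) ^ 4 = 1 := by
        have hu4 : u ^ (2 * 2) = 1 := by rw [pow_mul, hu, uEl_sq, zero_mul, uEl_zero, one_pow]
        rw [conj_pow, hu4, mul_one, mul_inv_cancel]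
      rwa [jEl_inv] at e
    exact jEl_notMem_borel P (conj_unip_ne P ⟨0, 1, rfl⟩ hu1 ho)
  obtain ⟨a, b, h, hh, hab⟩ := bruhat P hju
  have hab0 : a ≠ 0 ∨ b ≠ 0 := by
    by_contra hne
    push Not at hne
    rw [hne.1, hne.2, uEl_zero, one_mul, mul_assoc] at hab
    have : jEl P = u⁻¹ * h := by rw [← mul_left_cancel hab]; group
    exact jEl_notMem_borel P (this ▸ mul_mem (inv_mem (uEl_mem_borel P _ _)) hh)
  have e1 : β (jEl P * u * jEl P) = uEl P a b * jEl P * (dEl P d⁻¹ * h) := by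
    rw [hab, map_mul, map_mul, hB _ (uEl_mem_borel P a b), hB h hh, hd, ← mul_assoc (uEl P a b * jEl P),
      mul_assoc (uEl P a b) (jEl P), jEl_mul_dEl, inv_inv]
  have e2 : β (jEl P * u * jEl P) =
      uEl P ((d : F) * d / P.θ d * a) (P.θ d * b) * jEl P * (dEl P d⁻¹ * h * dEl P d⁻¹) := by
    have hd' : β (jEl P) = jEl P * dEl P d⁻¹ := by rw [hd, jEl_mul_dEl, inv_inv]
    calc β (jEl P * u * jEl P) = dEl P d * (jEl P * u * jEl P) * dEl P d⁻¹ := by
          rw [map_mul, map_mul, hB u (uEl_mem_borel P _ _)]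
          nth_rw 1 [hd]
          rw [hd']
          group
      _ = dEl P d * uEl P a b * jEl P * h * dEl P d⁻¹ := by rw [hab]; group
      _ = _ := by
          rw [dEl_mul_uEl, mul_assoc (uEl P _ _) (dEl P d) (jEl P)]
          have : dEl P d * jEl P = jEl P * dEl P d⁻¹ := by rw [jEl_mul_dEl, inv_inv]
          rw [this]; group
  obtain ⟨ka, kb⟩ := uj_unique P
    (h := dEl P d⁻¹ * h * (dEl P d⁻¹ * h * dEl P d⁻¹)⁻¹)
    (mul_mem (mul_mem (dEl_mem_borel P _) hh)
      (inv_mem (mul_mem (mul_mem (dEl_mem_borel P _) hh) (dEl_mem_borel P _))))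
    (by
      rw [← mul_assoc, ← e1, e2, mul_inv_cancel_right] :
      uEl P a b * jEl P * _ = uEl P ((d : F) * d / P.θ d * a) (P.θ d * b) * jEl P)
  have hd1 : d = 1 := by
    rcases hab0 with ha | hb
    · exact Units.ext (scale_eq_one P d.ne_zero
        (mul_right_cancel₀ ha (ka.symm.trans (one_mul a).symm)))
    · exact Units.ext ((theta_eq_one P).1 (mul_right_cancel₀ hb (kb.symm.trans (one_mul b).symm)))
  rw [hd1, dEl_one, one_mul] at hd
  refine MulEquiv.ext fun g => ?_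
  show β g = g
  by_cases hg : g ∈ borel (F := F) (e := 2 ^ (m + 1))
  · exact hB g hg
  · obtain ⟨a, b, h, hh, rfl⟩ := bruhat P hg
    rw [map_mul, map_mul, hB _ (uEl_mem_borel P a b), hB h hh, hd]

/-- An automorphism in normal position with respect to `U`, `T` and `u(0,1)`. -/
def Normalised (α : MulAut ↥(Sz F (2 ^ (m + 1)))) : Prop :=
  (∀ u ∈ unip P, α u ∈ unip P) ∧ (∀ x, ∃ y, α (dEl P x) = dEl P y) ∧
    α (uEl P 0 1) = uEl P 0 1

include hm hF in
lemma exists_normalised (α : MulAut ↥(Sz F (2 ^ (m + 1)))) :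
    ∃ g : ↥(Sz F (2 ^ (m + 1))), Normalised P (MulAut.conj g * α) := by
  have hq := two_lt_card hm hF
  haveI : Fact (Nat.Prime 2) := ⟨Nat.prime_two⟩
  obtain ⟨g, hg⟩ := MulAction.exists_smul_eq ↥(Sz F (2 ^ (m + 1))) (α • sylowTwo P) (sylowTwo P)
  have hβ : (MulAut.conj g * α) • sylowTwo P = sylowTwo P := by
    rw [mul_smul]; exact hg
  set β := MulAut.conj g * α with hβdef
  have hU : ∀ u ∈ unip P, β u ∈ unip P := by
    intro u hu
    have h1 : β • u ∈ ((β • sylowTwo P : Sylow 2 _) : Subgroup ↥(Sz F (2 ^ (m + 1)))) :=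
      Subgroup.smul_mem_pointwise_smul u β _ hu
    rw [hβ] at h1
    exact h1
  have hu01 : uEl P (0 : F) 1 ∈ unip P := ⟨0, 1, rfl⟩
  have hu1 : uEl P (0 : F) 1 ≠ 1 := fun h => one_ne_zero ((uEl_eq_one P).1 h).2
  obtain ⟨x₀, hx₀⟩ : ∃ x : Fˣ, x ≠ 1 := by
    obtain ⟨a, ha0, ha1⟩ := exists_ne_zero_one hq
    exact ⟨Units.mk0 a ha0, fun h => ha1 (congrArg Units.val h)⟩
  have hdB : β (dEl P x₀) ∈ borel (F := F) (e := 2 ^ (m + 1)) := by
    refine conj_unip_ne P (hU _ hu01) (fun h => hu1 (β.injective (h.trans (map_one β).symm))) ?_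
    rw [← map_mul, ← map_inv, ← map_mul]
    exact hU _ (dEl_conj_unip P x₀ hu01)
  obtain ⟨a, b, y, hy⟩ := borel_form P hdB
  have hy1 : y ≠ 1 := by
    rintro rfl
    rw [dEl_one, mul_one] at hy
    let f : ↥(unip P) → ↥(unip P) := fun v => ⟨β v, hU v v.2⟩
    have hf : Function.Injective f := fun v w h =>
      Subtype.ext (β.injective (congrArg Subtype.val h))
    obtain ⟨v, hv⟩ := (Finite.injective_iff_bijective.1 hf).2 ⟨uEl P a b, a, b, rfl⟩
    have hv' : (v : ↥(Sz F (2 ^ (m + 1)))) = dEl P x₀ :=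
      β.injective ((congrArg Subtype.val hv).trans hy.symm)
    refine hx₀ (borel_decomp_mem_unip P (a := 0) (b := 0) ?_)
    rw [uEl_zero, one_mul, ← hv']
    exact v.2
  obtain ⟨v, hv, hvy⟩ := exists_conj_dEl P a b hy1
  set γ := MulAut.conj v⁻¹ * β with hγdef
  have hUγ : ∀ u ∈ unip P, γ u ∈ unip P := by
    intro u hu
    show v⁻¹ * β u * v⁻¹⁻¹ ∈ unip P
    exact mul_mem (mul_mem (inv_mem hv) (hU u hu)) (by simpa using hv)
  have hγ0 : γ (dEl P x₀) = dEl P y := by
    show v⁻¹ * β (dEl P x₀) * v⁻¹⁻¹ = dEl P y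
    rw [hy, hvy]; group
  have hTγ : ∀ x, ∃ z, γ (dEl P x) = dEl P z := by
    intro x
    have hc : γ (dEl P x) ∈ Subgroup.centralizer {dEl P y} := by
      rw [Subgroup.mem_centralizer_singleton_iff, ← hγ0, ← map_mul, ← map_mul, dEl_mul, dEl_mul,
        mul_comm]
    rw [centralizer_dEl P hy1] at hc
    obtain ⟨z, hz⟩ := (mem_torus P).1 hc
    exact ⟨z, hz.symm⟩
  obtain ⟨c, d, hcd⟩ := hUγ _ hu01
  have hc : c = 0 := by
    have := map_pow γ (uEl P 0 1) 2
    rw [uEl_sq, zero_mul, uEl_zero, map_one, hcd, uEl_sq] at this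
    have := ((uEl_eq_one P).1 this.symm).2
    exact theta_mul_inj P (by simpa using this)
  subst hc
  have hd : d ≠ 0 := fun h => hu1 (γ.injective (by rw [hcd, h, uEl_zero, map_one]))
  obtain ⟨s, hs⟩ := (theta_bijective P).2 d⁻¹
  have hs0 : s ≠ 0 := fun h => inv_ne_zero hd (by rw [← hs, h, map_zero])
  refine ⟨dEl P (Units.mk0 s hs0) * v⁻¹ * g, ?_⟩
  have hEq : MulAut.conj (dEl P (Units.mk0 s hs0) * v⁻¹ * g) * α =
      MulAut.conj (dEl P (Units.mk0 s hs0)) * γ := by
    simp only [hγdef, hβdef, map_mul, mul_assoc]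
  rw [hEq]
  refine ⟨fun u hu => dEl_conj_unip P _ (hUγ u hu), fun x => ?_, ?_⟩
  · obtain ⟨z, hz⟩ := hTγ x
    refine ⟨z, ?_⟩
    show dEl P _ * γ (dEl P x) * (dEl P _)⁻¹ = dEl P z
    rw [hz, dEl_mul, mul_comm (Units.mk0 s hs0) z, ← dEl_mul, mul_inv_cancel_right]
  · show dEl P _ * γ (uEl P 0 1) * (dEl P _)⁻¹ = uEl P 0 1
    rw [hcd, dEl_mul_uEl, mul_inv_cancel_right, mul_zero, Units.val_mk0, hs, inv_mul_cancel₀ hd]

include hm hF in
/-- An automorphism in normal position is a field automorphism. -/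
lemma normalised_eq_fieldAut {α : MulAut ↥(Sz F (2 ^ (m + 1)))} (hα : Normalised P α) :
    ∃ σ : F ≃+* F, α = fieldAut P σ := by
  obtain ⟨hU, hT, h1⟩ := hα
  choose χ hχ using hT
  have hZ : ∀ b, ∃ c, α (uEl P 0 b) = uEl P 0 c := by
    intro b
    obtain ⟨c, d, hcd⟩ := hU _ ⟨0, b, rfl⟩
    have := map_pow α (uEl P 0 b) 2
    rw [uEl_sq, zero_mul, uEl_zero, map_one, hcd, uEl_sq] at this
    have hc : c = 0 := theta_mul_inj P (by simpa using ((uEl_eq_one P).1 this.symm).2)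
    exact ⟨d, by rw [hcd, hc]⟩
  choose φ hφ using hZ
  have hφ1 : φ 1 = 1 := (uEl_inj P ((hφ 1).symm.trans h1)).2
  have hφadd : ∀ b c, φ (b + c) = φ b + φ c := by
    intro b c
    have := map_mul α (uEl P 0 b) (uEl P 0 c)
    rw [uEl_mul, hφ b, hφ c, uEl_mul] at this
    simp only [add_zero, zero_mul] at this
    rw [hφ] at this
    exact (uEl_inj P this).2
  have hφ0 : φ 0 = 0 := by
    have := hφ 0
    rw [uEl_zero, map_one] at this
    exact ((uEl_eq_one P).1 this.symm).2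
  have hrel : ∀ (x : Fˣ) b, φ (P.θ x * b) = P.θ (χ x) * φ b := by
    intro x b
    have := congrArg α (dEl_mul_uEl P x 0 b)
    rw [map_mul, map_mul, hχ, hφ, mul_zero, hφ, dEl_mul_uEl, mul_zero] at this
    exact (uEl_inj P (mul_right_cancel this)).2.symm
  have hχθ : ∀ x : Fˣ, φ (P.θ x) = P.θ (χ x) := fun x => by
    simpa [hφ1] using hrel x 1
  have hφmul : ∀ s t, φ (s * t) = φ s * φ t := by
    intro s t
    rcases eq_or_ne s 0 with rfl | hs
    · simp [hφ0]
    obtain ⟨x, rfl⟩ := (theta_bijective P).2 s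
    have hx : x ≠ 0 := fun h => hs (by rw [h, map_zero])
    have := hrel (Units.mk0 x hx) t
    rw [Units.val_mk0] at this
    rw [this, ← hχθ, Units.val_mk0]
  let φh : F →+* F :=
    { toFun := φ
      map_zero' := hφ0
      map_one' := hφ1
      map_add' := hφadd
      map_mul' := hφmul }
  let σ : F ≃+* F := RingEquiv.ofBijective φh (Finite.injective_iff_bijective.1 φh.injective)
  have hσ : ∀ b, σ b = φ b := fun b => rfl
  have hχσ : ∀ x : Fˣ, χ x = Units.map σ.toMonoidHom x := by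
    intro x
    apply Units.ext
    apply P.θ.injective
    show P.θ (χ x : F) = P.θ (σ (x : F))
    rw [← map_theta P, hσ, hχθ]
  refine ⟨σ, ?_⟩
  have : (fieldAut P σ)⁻¹ * α = 1 := by
    refine aut_eq_one hm hF P _ (fun u hu => ?_) (fun x => ?_) (fun b => ?_)
    · obtain ⟨a, b, hab⟩ := hU u hu
      show (fieldAut P σ)⁻¹ (α u) ∈ unip P
      rw [hab, ← map_inv, fieldAut_uEl]
      exact ⟨_, _, rfl⟩
    · show (fieldAut P σ).symm (α (dEl P x)) = dEl P x
      rw [MulEquiv.symm_apply_eq, hχ, fieldAut_dEl, hχσ]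
    · show (fieldAut P σ).symm (α (uEl P 0 b)) = uEl P 0 b
      rw [MulEquiv.symm_apply_eq, hφ, fieldAut_uEl, map_zero, hσ]
  exact (inv_mul_eq_one.1 this).symm

include hm hF in
/-- A field automorphism which is inner is trivial. -/
lemma eq_one_of_fieldAut_inner {σ : F ≃+* F} {g : ↥(Sz F (2 ^ (m + 1)))}
    (h : fieldAut P σ = MulAut.conj g) : σ = 1 := by
  have hu01 : uEl P (0 : F) 1 ∈ unip P := ⟨0, 1, rfl⟩
  have hu1 : uEl P (0 : F) 1 ≠ 1 := fun h => one_ne_zero ((uEl_eq_one P).1 h).2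
  have e1 : g * uEl P 0 1 * g⁻¹ = uEl P 0 1 := by
    have := fieldAut_uEl P σ 0 1
    rw [h, map_zero, map_one] at this
    exact this
  have hg : g ∈ unip P := centralizer_le_unip P hu01 hu1
    (Subgroup.mem_centralizer_singleton_iff.2 (mul_inv_eq_iff_eq_mul.1 e1))
  refine RingEquiv.ext fun t => ?_
  show σ t = t
  rcases eq_or_ne t 0 with rfl | ht
  · exact map_zero σ
  set x : Fˣ := Units.mk0 t ht
  set y : Fˣ := Units.map σ.toMonoidHom x with hy
  have e2 : g * dEl P x * g⁻¹ = dEl P y := by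
    have := fieldAut_dEl P σ x
    rw [h] at this
    exact this
  have e3 : dEl P (y * x⁻¹) ∈ unip P := by
    rw [← dEl_mul, ← e2, ← dEl_inv, mul_assoc, mul_assoc, ← mul_assoc (dEl P x)]
    exact mul_mem hg (dEl_conj_unip P x (inv_mem hg))
  have e4 : y * x⁻¹ = 1 :=
    borel_decomp_mem_unip P (a := 0) (b := 0) (by rwa [uEl_zero, one_mul])
  exact congrArg Units.val (mul_inv_eq_one.1 e4)

include hm hF in
theorem card_out (P : Params F (2 ^ (m + 1))) :
    Nat.card (Cfsg.Out ↥(Sz F (2 ^ (m + 1)))) = Nat.card (F ≃+* F) := by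
  symm
  refine Nat.card_eq_of_bijective
    (fun σ => (QuotientGroup.mk (fieldAut P σ) : Cfsg.Out ↥(Sz F (2 ^ (m + 1))))) ⟨?_, ?_⟩
  · intro σ τ h
    obtain ⟨g, hg⟩ := (QuotientGroup.eq.1 h : (fieldAut P σ)⁻¹ * fieldAut P τ ∈ _)
    rw [← map_inv, ← map_mul] at hg
    exact inv_mul_eq_one.1 (eq_one_of_fieldAut_inner hm hF P hg.symm)
  · intro q
    induction q using QuotientGroup.induction_on with
    | H α =>
      obtain ⟨g, hg⟩ := exists_normalised hm hF P α
      obtain ⟨σ, hσ⟩ := normalised_eq_fieldAut hm hF P hg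
      refine ⟨σ, QuotientGroup.eq.2 ?_⟩
      have hmem : (MulAut.conj g)⁻¹ ∈ Cfsg.Inn ↥(Sz F (2 ^ (m + 1))) :=
        inv_mem ⟨g, rfl⟩
      have hc := (Cfsg.innNormal ↥(Sz F (2 ^ (m + 1)))).conj_mem _ hmem α⁻¹
      rwa [inv_inv, mul_assoc, ← mul_assoc α⁻¹, ← mul_inv_rev, hσ] at hc

end Aut

end CfsgLib.SuzukiGroup
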