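import Cfsg.Agent.Lib.SuzukiOvoid.Subgroups

/-!
# Solvabilizers in `Sz(q)` with `q = 2^p`, `p` prime
-/

set_option autoImplicit false

open scoped MatrixGroups Matrix

namespace CfsgLib.SuzukiGroup

open Cfsg.Lie

section generic

variable {G : Type*} [Group G] [Finite G]

omit [Finite G] in
/-- the solvabilizer -/
def solvSet (x : G) : Set G := {y | Group.IsSolvable ↥(Subgroup.closure ({x, y} : Set G))}

theorem card_conj_into (x : G) (H : Subgroup G) :
    Nat.card {k : G // k⁻¹ * x * k ∈ H} =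
      Nat.card {n : G // n ∈ H ∧ IsConj x n} * Nat.card ↥(Subgroup.centralizer {x}) := by
  have hex : ∀ n : {n : G // n ∈ H ∧ IsConj x n}, ∃ s : G, s⁻¹ * x * s = n := fun n => by
    obtain ⟨c, hc⟩ := isConj_iff.1 n.2.2
    exact ⟨c⁻¹, by rw [inv_inv]; exact hc⟩
  choose s hs using hex
  rw [← Nat.card_prod]
  refine (Nat.card_eq_of_bijective (fun p : {n : G // n ∈ H ∧ IsConj x n} × ↥(Subgroup.centralizer {x}) =>
    (⟨(p.2 : G) * s p.1, by
      rw [mul_inv_rev, show (s p.1)⁻¹ * (p.2 : G)⁻¹ * x * ((p.2 : G) * s p.1) =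
        (s p.1)⁻¹ * ((p.2 : G)⁻¹ * (x * (p.2 : G))) * s p.1 by group,
        ← Subgroup.mem_centralizer_singleton_iff.1 p.2.2, inv_mul_cancel_left, hs]
      exact p.1.2.1⟩ : {k : G // k⁻¹ * x * k ∈ H})) ⟨?_, ?_⟩).symm
  · rintro ⟨n, c⟩ ⟨n', c'⟩ h
    have h' : (c : G) * s n = (c' : G) * s n' := congrArg Subtype.val h
    have key : ∀ (n : {n : G // n ∈ H ∧ IsConj x n}) (c : ↥(Subgroup.centralizer {x})),
        ((c : G) * s n)⁻¹ * x * ((c : G) * s n) = n := by
      intro n c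
      rw [mul_inv_rev, show (s n)⁻¹ * (c : G)⁻¹ * x * ((c : G) * s n) =
        (s n)⁻¹ * ((c : G)⁻¹ * (x * (c : G))) * s n by group,
        ← Subgroup.mem_centralizer_singleton_iff.1 c.2, inv_mul_cancel_left, hs]
    have hn : n = n' := Subtype.ext (by rw [← key n c, h', key n' c'])
    subst hn
    exact Prod.ext rfl (Subtype.ext (mul_right_cancel h'))
  · rintro ⟨k, hk⟩
    let n : {n : G // n ∈ H ∧ IsConj x n} := ⟨k⁻¹ * x * k, hk, isConj_iff.2 ⟨k⁻¹, by rw [inv_inv]⟩⟩
    refine ⟨(n, ⟨k * (s n)⁻¹, Subgroup.mem_centralizer_singleton_iff.2 ?_⟩), Subtype.ext (inv_mul_cancel_right k (s n))⟩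
    calc k * (s n)⁻¹ * x = k * ((s n)⁻¹ * x * s n) * (s n)⁻¹ := by group
      _ = k * (k⁻¹ * x * k) * (s n)⁻¹ := by rw [hs]
      _ = x * (k * (s n)⁻¹) := by group

/-- A group element of order dividing four acting on such a centraliser by conjugation is an inversion
if it is an involution. -/
theorem OddTI.invert (h : OddTI G) {g v z : G} (hg : ¬ orderOf g ∣ 4)
    (hv : v ∈ Subgroup.normalizer (Subgroup.centralizer {g} : Set G)) (hvv : v * v = 1) (hv1 : v ≠ 1)
    (hz : z ∈ Subgroup.centralizer {g}) : v * z * v⁻¹ = z⁻¹ := by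
  haveI := h.cyclic g hg
  have hz' : v * z * v⁻¹ ∈ Subgroup.centralizer {g} := (Subgroup.mem_normalizer_iff.1 hv z).1 hz
  by_contra hne
  set y := z * (v * z * v⁻¹) with hy
  have hy1 : y ≠ 1 := fun e => hne (eq_inv_of_mul_eq_one_right e)
  have hyC : y ∈ Subgroup.centralizer {g} := mul_mem hz hz'
  have hcomm : z * (v * z * v⁻¹) = v * z * v⁻¹ * z := congrArg Subtype.val
    ((IsCyclic.commGroup (α := ↥(Subgroup.centralizer {g}))).mul_comm ⟨z, hz⟩ ⟨_, hz'⟩)
  have hvy : v ∈ Subgroup.centralizer {y} := by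
    rw [Subgroup.mem_centralizer_singleton_iff, ← mul_inv_eq_iff_eq_mul, hy]
    calc v * (z * (v * z * v⁻¹)) * v⁻¹ = (v * z * v⁻¹) * ((v * v) * z * (v * v)⁻¹) := by group
      _ = (v * z * v⁻¹) * z := by rw [hvv]; group
      _ = z * (v * z * v⁻¹) := hcomm.symm
  rw [h.centralizer_eq g y hg hyC hy1] at hvy
  refine h.not_dvd_four hg hvy hv1 ?_
  have h2 : orderOf v ∣ 2 := orderOf_dvd_of_pow_eq_one (by rw [pow_two]; exact hvv)
  exact h2.trans (by norm_num)

/-- An element of the normaliser whose order does not divide four lies in the centraliser. -/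
theorem OddTI.mem_of_odd (h : OddTI G) {g a : G} (hg : ¬ orderOf g ∣ 4)
    (ha : a ∈ Subgroup.normalizer (Subgroup.centralizer {g} : Set G)) (ha4 : ¬ orderOf a ∣ 4) :
    a ∈ Subgroup.centralizer {g} := by
  obtain ⟨i, hi, hN, -⟩ := h.class_eq hg
  set C := Subgroup.centralizer {g} with hC
  set N := Subgroup.normalizer (C : Set G) with hNdef
  have hidx : (C.subgroupOf N).index = i := by
    have h1 := Subgroup.card_mul_index (C.subgroupOf N)
    rw [Nat.card_congr (Subgroup.subgroupOfEquivOfLe (Subgroup.le_normalizer (H := C))).toEquiv, hN,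
      mul_comm i] at h1
    exact Nat.eq_of_mul_eq_mul_left Nat.card_pos h1
  haveI : (C.subgroupOf N).Normal := Subgroup.normal_in_normalizer
  have hord : orderOf (QuotientGroup.mk' (C.subgroupOf N) ⟨a, ha⟩) ∣ Nat.gcd (orderOf a) i := by
    refine Nat.dvd_gcd ?_ ?_
    · exact (orderOf_map_dvd _ _).trans (dvd_of_eq (Subgroup.orderOf_mk a ha))
    · rw [← hidx, Subgroup.index_eq_card]; exact orderOf_dvd_natCard _
  have hcop : Nat.gcd (orderOf a) i = 1 := by
    have hodd := Nat.coprime_two_right.2 (h.odd_order ha4)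
    rcases hi with rfl | rfl | rfl
    · exact Nat.gcd_one_right _
    · exact hodd
    · exact (show 4 = 2 ^ 2 from rfl) ▸ hodd.pow_right 2
  rw [hcop, Nat.dvd_one, orderOf_eq_one_iff, QuotientGroup.mk'_apply, QuotientGroup.eq_one_iff,
    Subgroup.mem_subgroupOf] at hord
  exact hord

end generic

variable {F : Type*} [Field F] [Fintype F] [CharP F 2] {m : ℕ}
  (P : Params F (2 ^ (m + 1))) (hF : Fintype.card F = 2 ^ (2 * m + 1)) (hm : 1 ≤ m)

include P hF hm in
theorem solvable_iff_local (hp : (2 * m + 1).Prime) (M : Subgroup ↥(Sz F (2 ^ (m + 1)))) :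
    Group.IsSolvable ↥M ↔ Local M := by
  refine ⟨fun hs => ?_, fun h => local_solvable P hF hm h⟩
  rcases subgroup_cases P hF hm M with h | ⟨k, L, l, h8, hl, hd, heq⟩
  · exact h
  exfalso
  rcases hp.eq_one_or_self_of_dvd l hd with rfl | rfl
  · rw [hl] at h8; norm_num at h8
  · have hL : ∀ x : F, x ∈ L := fun x => by
      rw [mem_subfield_iff L hl, ← hF, FiniteField.pow_card]
    have htop : M.map (MulAut.conj k).toMonoidHom = ⊤ := by
      rw [heq, eq_top_iff]; intro y _ a b; exact hL _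
    have hMtop : M = ⊤ := Subgroup.map_injective (f := (MulAut.conj k).toMonoidHom) (MulAut.conj k).injective
      (htop.trans (Subgroup.map_top_of_surjective _ (MulAut.conj k).surjective).symm)
    subst hMtop
    haveI := hs
    exact not_solvable_sz P hF hm (Group.isSolvable_of_surjective
      (f := (Subgroup.topEquiv (G := ↥(Sz F (2 ^ (m + 1))))).toMonoidHom)
      (Subgroup.topEquiv (G := ↥(Sz F (2 ^ (m + 1))))).surjective)

section unipotent

variable {x : ↥(Sz F (2 ^ (m + 1)))} (hx : x ∈ unip P) (hx1 : x ≠ 1)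

include hF hm hx hx1 in
/-- The intersection of a torus normaliser through `x` with the Borel subgroup. -/
theorem normalizer_inter_borel {g : ↥(Sz F (2 ^ (m + 1)))} (hg : ¬ orderOf g ∣ 4)
    (hxN : x ∈ Subgroup.normalizer (Subgroup.centralizer {g} : Set ↥(Sz F (2 ^ (m + 1))))) {i : ℕ}
    (hi : Nat.card ↥(Subgroup.normalizer (Subgroup.centralizer {g} : Set ↥(Sz F (2 ^ (m + 1))))) =
      i * Nat.card ↥(Subgroup.centralizer {g})) (hi24 : i = 1 ∨ i = 2 ∨ i = 4) :
    Nat.card {y : ↥(Sz F (2 ^ (m + 1))) //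
      y ∈ Subgroup.normalizer (Subgroup.centralizer {g} : Set ↥(Sz F (2 ^ (m + 1)))) ∧
        y ∈ borel (F := F) (e := 2 ^ (m + 1))} = i := by
  haveI : Fact (Nat.Prime 2) := ⟨Nat.prime_two⟩
  have hO := oddTI P hF hm
  set C := Subgroup.centralizer {g} with hC
  set N := Subgroup.normalizer (C : Set ↥(Sz F (2 ^ (m + 1)))) with hN
  have hx4 : orderOf x ∣ 4 := orderOf_dvd_four P (k := 1) (by rwa [one_mul, inv_one, mul_one])
  have hNB : ∀ y ∈ N, y ∈ borel (F := F) (e := 2 ^ (m + 1)) → y ∈ unip P := by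
    intro y hy hyB
    refine mem_unip_of_even P hF hm hyB ?_
    by_contra hy4
    have hyC := hO.mem_of_odd hg hy hy4
    have hy1 : y ≠ 1 := fun e => hy4 (by rw [e, orderOf_one]; exact one_dvd 4)
    have h1 : x * y * x⁻¹ * y⁻¹ ∈ C := mul_mem ((Subgroup.mem_normalizer_iff.1 hxN y).1 hyC) (inv_mem hyC)
    have h2 : x * y * x⁻¹ * y⁻¹ ∈ unip P := by
      rw [mul_assoc, mul_assoc]
      refine mul_mem hx ?_
      rw [← mul_assoc]
      exact (Subgroup.mem_normalizer_iff.1 (borel_le_normalizer P hyB) x⁻¹).1 (inv_mem hx)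
    have h3 : x * y * x⁻¹ * y⁻¹ = 1 := by
      by_contra hne
      exact hO.not_dvd_four hg h1 hne (orderOf_dvd_four P (k := 1) (by rwa [one_mul, inv_one, mul_one]))
    have h4 : x ∈ Subgroup.centralizer {y} := Subgroup.mem_centralizer_singleton_iff.2
      (mul_inv_eq_iff_eq_mul.1 (mul_inv_eq_one.1 h3))
    rw [hO.centralizer_eq g y hg hyC hy1] at h4
    exact hO.not_dvd_four hg h4 hx1 hx4
  set T := (unip P).subgroupOf N with hT
  have hTp : IsPGroup 2 ↥T := fun u => ⟨2, Subtype.ext (Subtype.ext (orderOf_dvd_iff_pow_eq_one.1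
    (orderOf_dvd_four P (k := 1) (g := ((u : ↥N) : ↥(Sz F (2 ^ (m + 1)))))
      (by rw [one_mul, inv_one, mul_one]; exact u.2))))⟩
  obtain ⟨S, hTS⟩ := hTp.exists_le_sylow
  have hxS : (⟨x, hxN⟩ : ↥N) ∈ (S : Subgroup ↥N) := hTS hx
  haveI : Nontrivial ↥(S : Subgroup ↥N) :=
    ⟨⟨⟨_, hxS⟩, 1, fun e => hx1 (congrArg (fun w : ↥(S : Subgroup ↥N) => ((w : ↥N) : ↥(Sz F (2 ^ (m + 1))))) e)⟩⟩
  have hST : (S : Subgroup ↥N) = T := by
    refine le_antisymm ?_ hTS
    haveI := S.2.center_nontrivial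
    obtain ⟨⟨c, hcc⟩, hc⟩ := exists_ne (1 : ↥(Subgroup.center ↥(S : Subgroup ↥N)))
    rw [Subgroup.mem_center_iff] at hcc
    have hc1 : ((c : ↥N) : ↥(Sz F (2 ^ (m + 1)))) ≠ 1 := fun e => hc (Subtype.ext (Subtype.ext (Subtype.ext e)))
    have hcU := centralizer_le_unip P hx hx1 (Subgroup.mem_centralizer_singleton_iff.2
        (congrArg (fun w : ↥(S : Subgroup ↥N) => ((w : ↥N) : ↥(Sz F (2 ^ (m + 1))))) (hcc ⟨_, hxS⟩)).symm)
    intro u hu
    exact centralizer_le_unip P hcU hc1 (Subgroup.mem_centralizer_singleton_iff.2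
      (congrArg (fun w : ↥(S : Subgroup ↥N) => ((w : ↥N) : ↥(Sz F (2 ^ (m + 1))))) (hcc ⟨u, hu⟩)))
  have hcard : Nat.card ↥T = i := by
    obtain ⟨j, hj⟩ := S.2.exists_card_eq
    have h1 : Nat.card ↥(S : Subgroup ↥N) ∣ i := by
      refine Nat.Coprime.dvd_of_dvd_mul_right ?_ ((Subgroup.card_subgroup_dvd_card (S : Subgroup ↥N)).trans (dvd_of_eq hi))
      rw [hj]
      exact ((Nat.coprime_two_right.2 (hO.odd g hg)).symm).pow_left j
    rw [← hST]
    refine le_antisymm (Nat.le_of_dvd (by rcases hi24 with rfl | rfl | rfl <;> norm_num) h1) ?_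
    obtain ⟨i', hi'⟩ : ∃ e, i = 2 ^ e := by
      rcases hi24 with rfl | rfl | rfl
      exacts [⟨0, rfl⟩, ⟨1, rfl⟩, ⟨2, rfl⟩]
    have h2 : 2 ^ i' ∣ Nat.card ↥N := ⟨_, hi'.symm ▸ hi⟩
    rw [hi']
    exact Nat.le_of_dvd Nat.card_pos (S.pow_dvd_card_of_pow_dvd_card h2)
  rw [← hcard]
  exact Nat.card_congr
    { toFun := fun y => ⟨⟨y, y.2.1⟩, hNB y y.2.1 y.2.2⟩
      invFun := fun u => ⟨u.1, u.1.2, unip_le_borel P u.2⟩
      left_inv := fun _ => rfl
      right_inv := fun _ => rfl }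

/-- The elements outside the Borel subgroup lying with `x` in a conjugate of the normaliser of `C(g)`. -/
def outer (x g : ↥(Sz F (2 ^ (m + 1)))) : Set ↥(Sz F (2 ^ (m + 1))) :=
  {y | y ∉ borel (F := F) (e := 2 ^ (m + 1)) ∧ ∃ k : ↥(Sz F (2 ^ (m + 1))),
    x ∈ Subgroup.normalizer (Subgroup.centralizer {k * g * k⁻¹} : Set ↥(Sz F (2 ^ (m + 1)))) ∧
      y ∈ Subgroup.normalizer (Subgroup.centralizer {k * g * k⁻¹} : Set ↥(Sz F (2 ^ (m + 1))))}

omit [Fintype F] [CharP F 2] in
theorem mem_normalizer_conj {g k y : ↥(Sz F (2 ^ (m + 1)))} :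
    y ∈ Subgroup.normalizer (Subgroup.centralizer {k * g * k⁻¹} : Set ↥(Sz F (2 ^ (m + 1)))) ↔
      k⁻¹ * y * k ∈ Subgroup.normalizer (Subgroup.centralizer {g} : Set ↥(Sz F (2 ^ (m + 1)))) := by
  rw [← centralizer_map_conj, ← Subgroup.map_equiv_normalizer_eq, Subgroup.mem_map_equiv,
    MulAut.conj_symm_apply]

include P hF hm hx hx1 in
/-- Two torus normalisers through `x` share no further element. -/
theorem same_torus {g g' y : ↥(Sz F (2 ^ (m + 1)))} (hg : ¬ orderOf g ∣ 4) (hg' : ¬ orderOf g' ∣ 4)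
    (hyB : y ∉ borel (F := F) (e := 2 ^ (m + 1)))
    (h1 : x ∈ Subgroup.normalizer (Subgroup.centralizer {g} : Set ↥(Sz F (2 ^ (m + 1)))))
    (h2 : y ∈ Subgroup.normalizer (Subgroup.centralizer {g} : Set ↥(Sz F (2 ^ (m + 1)))))
    (h3 : x ∈ Subgroup.normalizer (Subgroup.centralizer {g'} : Set ↥(Sz F (2 ^ (m + 1)))))
    (h4 : y ∈ Subgroup.normalizer (Subgroup.centralizer {g'} : Set ↥(Sz F (2 ^ (m + 1))))) :
    Subgroup.centralizer {g} = Subgroup.centralizer {g'} := by
  haveI : Fact (Nat.Prime 2) := ⟨Nat.prime_two⟩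
  have hO := oddTI P hF hm
  set H := Subgroup.closure ({x, y} : Set ↥(Sz F (2 ^ (m + 1)))) with hH
  have hxH : x ∈ H := Subgroup.subset_closure (Or.inl rfl)
  have hyH : y ∈ H := Subgroup.subset_closure (Or.inr rfl)
  have hH1 : H ≤ Subgroup.normalizer (Subgroup.centralizer {g} : Set ↥(Sz F (2 ^ (m + 1)))) := by
    rw [hH, Subgroup.closure_le]; rintro z (rfl | rfl) <;> assumption
  have hH2 : H ≤ Subgroup.normalizer (Subgroup.centralizer {g'} : Set ↥(Sz F (2 ^ (m + 1)))) := by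
    rw [hH, Subgroup.closure_le]; rintro z (rfl | rfl) <;> assumption
  by_contra hne
  have heven : ∀ a ∈ H, orderOf a ∣ 4 := by
    intro a ha
    by_contra ha4
    have ha1 : a ≠ 1 := fun e => ha4 (by rw [e, orderOf_one]; exact one_dvd 4)
    exact hne ((hO.centralizer_eq g a hg (hO.mem_of_odd hg (hH1 ha) ha4) ha1).symm.trans
      (hO.centralizer_eq g' a hg' (hO.mem_of_odd hg' (hH2 ha) ha4) ha1))
  have hp : IsPGroup 2 ↥H := fun a => ⟨2, Subtype.ext (orderOf_dvd_iff_pow_eq_one.1 (heven a a.2))⟩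
  obtain ⟨S, hS⟩ := hp.exists_le_sylow
  obtain ⟨k, hk⟩ := MulAction.exists_smul_eq ↥(Sz F (2 ^ (m + 1))) (sylowTwo P) S
  have hmem : ∀ z ∈ H, k⁻¹ * z * k ∈ unip P := by
    intro z hz
    have := hS hz
    rw [← hk, Sylow.coe_subgroup_smul] at this
    obtain ⟨w, hw, rfl⟩ := this
    show k⁻¹ * (k * w * k⁻¹) * k ∈ unip P
    rw [show k⁻¹ * (k * w * k⁻¹) * k = w by group]
    exact hw
  have hkB : k⁻¹ ∈ borel (F := F) (e := 2 ^ (m + 1)) :=
    conj_unip_ne P hx hx1 (by rw [inv_inv]; exact hmem x hxH)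
  refine hyB ?_
  have := mul_mem (mul_mem (inv_mem hkB) (unip_le_borel P (hmem y hyH))) hkB
  rwa [inv_inv, show k * (k⁻¹ * y * k) * k⁻¹ = y by group] at this

include P hF hm hx hx1 in
theorem outer_card {g : ↥(Sz F (2 ^ (m + 1)))} (hg : ¬ orderOf g ∣ 4) {i c : ℕ}
    (hc : Nat.card ↥(Subgroup.centralizer {g}) = c)
    (hi : Nat.card ↥(Subgroup.normalizer (Subgroup.centralizer {g} : Set ↥(Sz F (2 ^ (m + 1))))) = i * c)
    (hi24 : i = 1 ∨ i = 2 ∨ i = 4)
    (hY : Nat.card {n : ↥(Sz F (2 ^ (m + 1))) //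
      n ∈ Subgroup.normalizer (Subgroup.centralizer {g} : Set ↥(Sz F (2 ^ (m + 1)))) ∧ IsConj x n} = c) :
    (outer x g).ncard = Nat.card ↥(Subgroup.centralizer {x}) * (c - 1) := by
  classical
  have hO := oddTI P hF hm
  set N := Subgroup.normalizer (Subgroup.centralizer {g} : Set ↥(Sz F (2 ^ (m + 1)))) with hN
  have hcpos : 0 < c := hc ▸ Nat.card_pos
  -- pairs
  let Kt := {k : ↥(Sz F (2 ^ (m + 1))) // k⁻¹ * x * k ∈ N}
  let Q := Σ k : Kt, {n : ↥(Sz F (2 ^ (m + 1))) // n ∈ N ∧ (k : ↥(Sz F (2 ^ (m + 1)))) * n *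
    (k : ↥(Sz F (2 ^ (m + 1))))⁻¹ ∉ borel (F := F) (e := 2 ^ (m + 1))}
  have hK : Nat.card Kt = c * Nat.card ↥(Subgroup.centralizer {x}) := by
    rw [show Nat.card Kt = _ from card_conj_into x N, hY]
  have hfib : ∀ k : Kt, Nat.card {n : ↥(Sz F (2 ^ (m + 1))) // n ∈ N ∧ (k : ↥(Sz F (2 ^ (m + 1)))) * n *
      (k : ↥(Sz F (2 ^ (m + 1))))⁻¹ ∉ borel (F := F) (e := 2 ^ (m + 1))} = i * c - i := by
    intro k
    set g' := (k : ↥(Sz F (2 ^ (m + 1)))) * g * (k : ↥(Sz F (2 ^ (m + 1))))⁻¹ with hg'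
    have hg'4 : ¬ orderOf g' ∣ 4 := by
      rw [hg', show orderOf ((k : ↥(Sz F (2 ^ (m + 1)))) * g * (k : ↥(Sz F (2 ^ (m + 1))))⁻¹) = orderOf g from
        orderOf_injective (MulAut.conj (k : ↥(Sz F (2 ^ (m + 1))))).toMonoidHom
          (MulAut.conj (k : ↥(Sz F (2 ^ (m + 1))))).injective g]
      exact hg
    have hc' : Nat.card ↥(Subgroup.centralizer {g'}) = c := (card_centralizer_conj _ g).trans hc
    have hN' : Nat.card ↥(Subgroup.normalizer (Subgroup.centralizer {g'} : Set ↥(Sz F (2 ^ (m + 1))))) =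
        i * c := by
      rw [hg', ← centralizer_map_conj, ← Subgroup.map_equiv_normalizer_eq,
        ← Nat.card_congr ((Subgroup.normalizer (Subgroup.centralizer {g} : Set ↥(Sz F (2 ^ (m + 1))))).equivMapOfInjective
          (MulAut.conj (k : ↥(Sz F (2 ^ (m + 1))))).toMonoidHom (MulAut.conj (k : ↥(Sz F (2 ^ (m + 1))))).injective).toEquiv, hi]
    have h := normalizer_inter_borel P hF hm hx hx1 hg'4 (mem_normalizer_conj.2 k.2) (i := i)
      (by rw [hN', hc']) hi24
    rw [Nat.card_congr (Equiv.subtypeEquiv (MulAut.conj (k : ↥(Sz F (2 ^ (m + 1))))).toEquiv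
      (q := fun y => y ∈ (Subgroup.normalizer (Subgroup.centralizer {g'} : Set ↥(Sz F (2 ^ (m + 1)))) :
        Subgroup ↥(Sz F (2 ^ (m + 1)))) ∧ y ∉ borel (F := F) (e := 2 ^ (m + 1))) (fun n => by
        show _ ↔ (k : ↥(Sz F (2 ^ (m + 1)))) * n * (k : ↥(Sz F (2 ^ (m + 1))))⁻¹ ∈ _ ∧ _
        rw [hg', mem_normalizer_conj,
          show (k : ↥(Sz F (2 ^ (m + 1))))⁻¹ * ((k : ↥(Sz F (2 ^ (m + 1)))) * n * (k : ↥(Sz F (2 ^ (m + 1))))⁻¹) *
            (k : ↥(Sz F (2 ^ (m + 1)))) = n by group]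
        rfl))]
    have hsplit := Set.ncard_sdiff_add_ncard_of_subset
      (s := {y : ↥(Sz F (2 ^ (m + 1))) | y ∈ Subgroup.normalizer (Subgroup.centralizer {g'} : Set ↥(Sz F (2 ^ (m + 1)))) ∧
        y ∈ borel (F := F) (e := 2 ^ (m + 1))})
      (t := (Subgroup.normalizer (Subgroup.centralizer {g'} : Set ↥(Sz F (2 ^ (m + 1)))) : Set ↥(Sz F (2 ^ (m + 1)))))
      (fun y hy => hy.1) (Set.toFinite _)
    rw [← Nat.card_coe_set_eq, ← Nat.card_coe_set_eq, ← Nat.card_coe_set_eq] at hsplit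
    have e1 : Nat.card {y : ↥(Sz F (2 ^ (m + 1))) //
        y ∈ (Subgroup.normalizer (Subgroup.centralizer {g'} : Set ↥(Sz F (2 ^ (m + 1)))) :
          Subgroup ↥(Sz F (2 ^ (m + 1)))) ∧ y ∉ borel (F := F) (e := 2 ^ (m + 1))} = i * c - i := by
      refine Eq.trans (Nat.card_congr (Equiv.subtypeEquivRight fun y => ?_)) (Nat.eq_sub_of_add_eq
        ((congrArg (_ + ·) h).symm.trans (hsplit.trans hN')))
      show _ ↔ y ∈ _ ∧ ¬(y ∈ _ ∧ y ∈ _)
      exact ⟨fun h => ⟨h.1, fun h' => h.2 h'.2⟩, fun h => ⟨h.1, fun hb => h.2 ⟨h.1, hb⟩⟩⟩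
    exact e1
  have hQ : Nat.card Q = c * Nat.card ↥(Subgroup.centralizer {x}) * (i * c - i) := by
    haveI := Fintype.ofFinite Kt
    rw [Nat.card_sigma, Finset.sum_congr rfl (fun k _ => hfib k), Finset.sum_const, Finset.card_univ,
      ← Nat.card_eq_fintype_card, hK, smul_eq_mul]
  have hsec : ∀ y : ↥(outer x g), ∃ k : ↥(Sz F (2 ^ (m + 1))), k⁻¹ * x * k ∈ N ∧ k⁻¹ * (y : ↥(Sz F (2 ^ (m + 1)))) * k ∈ N := by
    rintro ⟨y, hyB, k, h1, h2⟩
    exact ⟨k, mem_normalizer_conj.1 h1, mem_normalizer_conj.1 h2⟩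
  choose s hs1 hs2 using hsec
  have hA : Nat.card Q = (outer x g).ncard * (i * c) := by
    rw [← Nat.card_coe_set_eq, ← hi, ← Nat.card_prod]
    refine (Nat.card_eq_of_bijective (fun p : ↥(outer x g) × ↥N => (⟨⟨s p.1 * (p.2 : ↥(Sz F (2 ^ (m + 1)))), by
        rw [mul_inv_rev, show (p.2 : ↥(Sz F (2 ^ (m + 1))))⁻¹ * (s p.1)⁻¹ * x * (s p.1 * p.2) =
          (p.2 : ↥(Sz F (2 ^ (m + 1))))⁻¹ * ((s p.1)⁻¹ * x * s p.1) * p.2 by group]
        exact mul_mem (mul_mem (inv_mem p.2.2) (hs1 _)) p.2.2⟩,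
      ⟨(p.2 : ↥(Sz F (2 ^ (m + 1))))⁻¹ * ((s p.1)⁻¹ * (p.1 : ↥(Sz F (2 ^ (m + 1)))) * s p.1) * p.2,
        mul_mem (mul_mem (inv_mem p.2.2) (hs2 _)) p.2.2, by
          rw [show s p.1 * (p.2 : ↥(Sz F (2 ^ (m + 1)))) * ((p.2 : ↥(Sz F (2 ^ (m + 1))))⁻¹ *
            ((s p.1)⁻¹ * (p.1 : ↥(Sz F (2 ^ (m + 1)))) * s p.1) * p.2) * (s p.1 * p.2)⁻¹ = p.1 by group]
          exact p.1.2.1⟩⟩ : Q)) ⟨?_, ?_⟩).symm
    · rintro ⟨y, a⟩ ⟨y', b⟩ h
      have h1 : s y * (a : ↥(Sz F (2 ^ (m + 1)))) = s y' * b := congrArg (fun q : Q => (q.1 : ↥(Sz F (2 ^ (m + 1))))) h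
      have h2 : (a : ↥(Sz F (2 ^ (m + 1))))⁻¹ * ((s y)⁻¹ * (y : ↥(Sz F (2 ^ (m + 1)))) * s y) * a =
          (b : ↥(Sz F (2 ^ (m + 1))))⁻¹ * ((s y')⁻¹ * (y' : ↥(Sz F (2 ^ (m + 1)))) * s y') * b :=
        congrArg (fun q : Q => (q.2 : ↥(Sz F (2 ^ (m + 1))))) h
      have hy : y = y' := Subtype.ext (by
        have e : ∀ (u v : ↥(Sz F (2 ^ (m + 1)))) (w : ↥(Sz F (2 ^ (m + 1)))),
            (u * v) * (v⁻¹ * (u⁻¹ * w * u) * v) * (u * v)⁻¹ = w := fun u v w => by group
        rw [← e (s y) a y, h2, h1, e])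
      subst hy
      exact Prod.ext rfl (Subtype.ext (mul_left_cancel h1))
    · rintro ⟨⟨k, hk⟩, n, hn, hnB⟩
      have hy : k * n * k⁻¹ ∈ outer x g := ⟨hnB, k, mem_normalizer_conj.2 hk,
        mem_normalizer_conj.2 (by rwa [show k⁻¹ * (k * n * k⁻¹) * k = n by group])⟩
      set y : ↥(outer x g) := ⟨_, hy⟩
      have hsame : Subgroup.centralizer {s y * g * (s y)⁻¹} = Subgroup.centralizer {k * g * k⁻¹} := by
        have h4 : ∀ z : ↥(Sz F (2 ^ (m + 1))), ¬ orderOf (z * g * z⁻¹) ∣ 4 := fun z => by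
          rw [show orderOf (z * g * z⁻¹) = orderOf g from
            orderOf_injective (MulAut.conj z).toMonoidHom (MulAut.conj z).injective g]
          exact hg
        exact same_torus P hF hm hx hx1 (h4 _) (h4 _) hnB (mem_normalizer_conj.2 (hs1 y))
          (mem_normalizer_conj.2 (hs2 y)) (mem_normalizer_conj.2 hk)
          (mem_normalizer_conj.2 (by rwa [show k⁻¹ * (k * n * k⁻¹) * k = n by group]))
      have ha : (s y)⁻¹ * k ∈ N := by
        refine hO.ti hg (mem_centralizer_self g) (fun e => hg (by rw [e, orderOf_one]; exact one_dvd 4)) ?_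
        have : k * g * k⁻¹ ∈ Subgroup.centralizer {s y * g * (s y)⁻¹} := hsame ▸ mem_centralizer_self _
        rw [show (s y)⁻¹ * k * g * ((s y)⁻¹ * k)⁻¹ = (s y)⁻¹ * (k * g * k⁻¹) * s y by group]
        have h5 := (centralizer_conj (s y) g (x := (s y)⁻¹ * (k * g * k⁻¹) * s y)).1
        exact h5 (by rwa [show s y * ((s y)⁻¹ * (k * g * k⁻¹) * s y) * (s y)⁻¹ = k * g * k⁻¹ by group])
      refine ⟨(y, ⟨_, ha⟩), Sigma.subtype_ext (Subtype.ext (mul_inv_cancel_left (s y) k)) ?_⟩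
      show ((s y)⁻¹ * k)⁻¹ * ((s y)⁻¹ * (k * n * k⁻¹) * s y) * ((s y)⁻¹ * k) = n
      group
  rw [hQ] at hA
  refine Nat.eq_of_mul_eq_mul_right (show 0 < i * c by rcases hi24 with rfl | rfl | rfl <;> omega) ?_
  rw [← hA, ← Nat.mul_sub_one]
  ring

end unipotent


section counts

include P in
theorem isConj_involutions {u v : ↥(Sz F (2 ^ (m + 1)))} (hu : orderOf u = 2) (hv : orderOf v = 2)
    (huU : ∃ k : ↥(Sz F (2 ^ (m + 1))), k * u * k⁻¹ ∈ unip P)
    (hvU : ∃ k : ↥(Sz F (2 ^ (m + 1))), k * v * k⁻¹ ∈ unip P) : IsConj u v := by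
  have key : ∀ w : ↥(Sz F (2 ^ (m + 1))), orderOf w = 2 →
      (∃ k : ↥(Sz F (2 ^ (m + 1))), k * w * k⁻¹ ∈ unip P) → IsConj w (uEl P 0 1) := by
    intro w hw ⟨k, hk⟩
    have ho : orderOf (k * w * k⁻¹) = 2 :=
      (orderOf_injective (MulAut.conj k).toMonoidHom (MulAut.conj k).injective w).trans hw
    have h1 : k * w * k⁻¹ ≠ 1 := fun e => by rw [e, orderOf_one] at ho; omega
    rcases unip_cases P hk h1 with ⟨-, b, hb, he⟩ | ⟨h4, -⟩
    · obtain ⟨y, hy⟩ := (theta_bijective P).2 b⁻¹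
      have hy0 : y ≠ 0 := fun e => hb (inv_eq_zero.1 (by rw [← hy, e, map_zero]))
      refine isConj_iff.2 ⟨dEl P (Units.mk0 y hy0) * k, ?_⟩
      rw [show dEl P (Units.mk0 y hy0) * k * w * (dEl P (Units.mk0 y hy0) * k)⁻¹ =
        dEl P (Units.mk0 y hy0) * (k * w * k⁻¹) * (dEl P (Units.mk0 y hy0))⁻¹ by group, he, dEl_mul_uEl,
        mul_zero, mul_inv_cancel_right, Units.val_mk0, hy, inv_mul_cancel₀ hb]
    · omega
  exact (key u hu huU).trans (key v hv hvU).symm

include P hF hm in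
theorem isConj_order_four {u v : ↥(Sz F (2 ^ (m + 1)))} (hu : orderOf u = 4) (hv : orderOf v = 4)
    (huU : ∃ k : ↥(Sz F (2 ^ (m + 1))), k * u * k⁻¹ ∈ unip P)
    (hvU : ∃ k : ↥(Sz F (2 ^ (m + 1))), k * v * k⁻¹ ∈ unip P) : IsConj u v ∨ IsConj u v⁻¹ := by
  let f : F →+ F := AddMonoidHom.id F + P.θ.toAddMonoidHom
  have hf : ∀ c, f c = c + P.θ c := fun c => rfl
  have hker : Nat.card ↥f.ker = 2 := by
    have : (f.ker : Set F) = {0, 1} := by
      ext c
      simp only [SetLike.mem_coe, AddMonoidHom.mem_ker, hf, Set.mem_insert_iff, Set.mem_singleton_iff]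
      constructor
      · intro h; exact theta_fix P (CharTwo.add_eq_zero.1 h).symm
      · rintro (rfl | rfl)
        · simp
        · rw [map_one, CharTwo.add_self_eq_zero]
    rw [show Nat.card ↥f.ker = (f.ker : Set F).ncard from rfl, this, Set.ncard_pair zero_ne_one]
  have hone : (1 : F) ∉ f.range := by
    rintro ⟨t, ht⟩
    rw [hf] at ht
    have e6 : P.θ t = t + 1 := by linear_combination ht - t * (CharTwo.two_eq_zero (R := F))
    have e5 := P.sq t
    rw [e6, map_add, map_one, e6] at e5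
    have e7 : t * t = t := by linear_combination (-1 : F) * e5 + (CharTwo.two_eq_zero (R := F))
    rcases eq_or_ne t 0 with h | h
    · rw [h, map_zero, add_zero] at ht; exact zero_ne_one ht
    · rw [mul_left_cancel₀ h (e7.trans (mul_one t).symm), map_one, CharTwo.add_self_eq_zero] at ht
      exact zero_ne_one ht
  have hidx : f.range.index = 2 := by
    have h1 := AddSubgroup.card_mul_index f.ker
    rw [AddSubgroup.index_ker] at h1
    have h2 := AddSubgroup.card_mul_index f.range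
    rw [← h1, hker, mul_comm 2] at h2
    exact Nat.eq_of_mul_eq_mul_left Nat.card_pos h2
  have key : ∀ w : ↥(Sz F (2 ^ (m + 1))), orderOf w = 4 →
      (∃ k : ↥(Sz F (2 ^ (m + 1))), k * w * k⁻¹ ∈ unip P) →
      IsConj w (uEl P 1 0) ∨ IsConj w (uEl P 1 0)⁻¹ := by
    intro w hw ⟨k, hk⟩
    have ho : orderOf (k * w * k⁻¹) = 4 :=
      (orderOf_injective (MulAut.conj k).toMonoidHom (MulAut.conj k).injective w).trans hw
    have h1 : k * w * k⁻¹ ≠ 1 := fun e => by rw [e, orderOf_one] at ho; omega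
    rcases unip_cases P hk h1 with ⟨h2, -⟩ | ⟨-, a, b, ha, he⟩
    · omega
    obtain ⟨x, -, hx⟩ := exists_scale P ⊤ (k := a⁻¹) trivial (inv_ne_zero ha)
    have hw1 : IsConj w (uEl P 1 (P.θ (x : F) * b)) := by
      refine isConj_iff.2 ⟨dEl P x * k, ?_⟩
      rw [show dEl P x * k * w * (dEl P x * k)⁻¹ = dEl P x * (k * w * k⁻¹) * (dEl P x)⁻¹ by group, he,
        dEl_mul_uEl, mul_inv_cancel_right, hx, inv_mul_cancel₀ ha]
    have hshift : ∀ β c : F, IsConj (uEl P 1 (β + (c + P.θ c))) (uEl P 1 β) := by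
      intro β c
      refine isConj_iff.2 ⟨uEl P c 0, ?_⟩
      rw [mul_inv_eq_iff_eq_mul, uEl_mul, uEl_mul, map_one]
      congr 1
      · ring
      · linear_combination c * (CharTwo.two_eq_zero (R := F))
    set β := P.θ (x : F) * b
    by_cases hβ : β ∈ f.range
    · obtain ⟨c, hc⟩ := hβ
      left
      refine hw1.trans ?_
      have := hshift 0 c
      rwa [zero_add, ← hf, hc] at this
    · right
      refine hw1.trans ?_
      obtain ⟨c, hc⟩ : β + 1 ∈ f.range := by
        rw [AddSubgroup.add_mem_iff_of_index_two hidx]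
        exact iff_of_false hβ hone
      have := hshift 1 c
      rw [← hf, hc, add_comm β 1, ← add_assoc, CharTwo.add_self_eq_zero, zero_add] at this
      rwa [uEl_inv, map_one, mul_one, zero_add]
  have hinv : ∀ {a b : ↥(Sz F (2 ^ (m + 1)))}, IsConj a b → IsConj a⁻¹ b⁻¹ := by
    intro a b h
    obtain ⟨c, hc⟩ := isConj_iff.1 h
    exact isConj_iff.2 ⟨c, by rw [← hc]; group⟩
  rcases key u hu huU with h1 | h1 <;> rcases key v hv hvU with h2 | h2
  · exact Or.inl (h1.trans h2.symm)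
  · exact Or.inr (h1.trans (by have := (hinv h2).symm; rwa [inv_inv] at this))
  · exact Or.inr (h1.trans (hinv h2).symm)
  · exact Or.inl (h1.trans h2.symm)

include P in
theorem not_isConj_inv_four {u : ↥(Sz F (2 ^ (m + 1)))} (hu : u ∈ unip P) (ho : orderOf u = 4) :
    ¬ IsConj u u⁻¹ := by
  intro hc
  have h1 : u ≠ 1 := fun e => by rw [e, orderOf_one] at ho; omega
  rcases unip_cases P hu h1 with ⟨h2, -⟩ | ⟨-, a, b, ha, rfl⟩
  · omega
  obtain ⟨g, hg⟩ := isConj_iff.1 hc
  have hgB := conj_unip_ne P hu h1 (by rw [hg]; exact inv_mem hu)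
  obtain ⟨c, d, x, rfl⟩ := borel_form P hgB
  rw [mul_inv_eq_iff_eq_mul, mul_assoc, dEl_mul_uEl, ← mul_assoc, ← mul_assoc, mul_left_inj,
    uEl_inv, uEl_mul, uEl_mul] at hg
  obtain ⟨e1, e2⟩ := uEl_inj P hg
  have hk : (x : F) * x / P.θ x = 1 := by
    rw [add_comm a c] at e1
    exact mul_right_cancel₀ ha ((add_left_cancel e1).trans (one_mul a).symm)
  have hx : (x : F) = 1 := scale_eq_one P x.ne_zero hk
  rw [hx, map_one, one_mul, div_one, one_mul, one_mul] at e2
  have e3 : c * P.θ a = a * P.θ a + a * P.θ c := by linear_combination e2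
  set t := c / a with ht
  have hc' : c = t * a := by rw [ht, div_mul_cancel₀ c ha]
  rw [hc', map_mul] at e3
  have ha' : a * P.θ a ≠ 0 := by simpa using ha
  have e4 : t = 1 + P.θ t := mul_right_cancel₀ ha' (by linear_combination e3)
  have e6 : P.θ t = t + 1 := by
    linear_combination (-1 : F) * e4 - (CharTwo.two_eq_zero (R := F))
  have e5 := P.sq t
  rw [e6, map_add, map_one, e6] at e5
  have e7 : t * t = t := by linear_combination (-1 : F) * e5 + (CharTwo.two_eq_zero (R := F))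
  rcases eq_or_ne t 0 with h | h
  · rw [h, map_zero, add_zero] at e4; exact zero_ne_one e4
  · rw [mul_left_cancel₀ h (e7.trans (mul_one t).symm), map_one, CharTwo.add_self_eq_zero] at e4
    exact one_ne_zero e4

open Classical in
include hF hm in
theorem card_centralizer_uEl (a b : F) (h : uEl P a b ≠ 1) :
    Nat.card ↥(Subgroup.centralizer {uEl P a b}) =
      if a = 0 then Fintype.card F ^ 2 else 2 * Fintype.card F := by
  have hle := centralizer_le_unip P (s := uEl P a b) ⟨a, b, rfl⟩ h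
  split_ifs with ha
  · subst ha
    rw [← card_unip P]
    refine Nat.card_congr (Equiv.subtypeEquivRight fun u => ⟨fun hu => hle hu, ?_⟩)
    rintro ⟨c, d, rfl⟩
    exact Subgroup.mem_centralizer_singleton_iff.2 ((uEl_comm_iff P c d 0 b).2 (by simp))
  · refine Eq.trans ?_ ((Nat.card_prod Bool F).trans (by rw [Nat.card_eq_fintype_card, Fintype.card_bool,
      Nat.card_eq_fintype_card]))
    refine (Nat.card_eq_of_bijective (fun p : Bool × F =>
      (⟨uEl P (cond p.1 a 0) p.2, Subgroup.mem_centralizer_singleton_iff.2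
        ((uEl_comm_iff P (cond p.1 a 0) p.2 a b).2 (by cases p.1 <;> simp))⟩ :
        ↥(Subgroup.centralizer {uEl P a b}))) ⟨?_, ?_⟩).symm
    · rintro ⟨i, d⟩ ⟨j, d'⟩ h
      obtain ⟨e1, e2⟩ := uEl_inj P (congrArg Subtype.val h)
      cases i <;> cases j <;> simp_all
    · rintro ⟨u, hu⟩
      obtain ⟨c, d, rfl⟩ := hle hu
      have e := (uEl_comm_iff P c d a b).1 (Subgroup.mem_centralizer_singleton_iff.1 hu)
      have hfix : P.θ (c / a) = c / a := by
        rw [map_div₀, div_eq_div_iff (by simpa using ha) ha]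
        linear_combination -e
      rcases theta_fix P hfix with h0 | h0
      · refine ⟨(false, d), Subtype.ext ?_⟩
        obtain rfl : c = 0 := by simpa [ha] using h0
        rfl
      · refine ⟨(true, d), Subtype.ext ?_⟩
        obtain rfl : c = a := (div_eq_one_iff_eq ha).1 h0
        rfl

end counts

section unipotent'

variable {x : ↥(Sz F (2 ^ (m + 1)))} (hx : x ∈ unip P) (hx1 : x ≠ 1)

include P hF hm in
theorem card_conj_involution {g v : ↥(Sz F (2 ^ (m + 1)))} (hv2 : orderOf v = 2) (hg : ¬ orderOf g ∣ 4)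
    {i : ℕ} (hi : Nat.card ↥(Subgroup.normalizer (Subgroup.centralizer {g} : Set ↥(Sz F (2 ^ (m + 1))))) =
      i * Nat.card ↥(Subgroup.centralizer {g})) (hev : 2 ∣ i) :
    Nat.card {n : ↥(Sz F (2 ^ (m + 1))) //
      n ∈ Subgroup.normalizer (Subgroup.centralizer {g} : Set ↥(Sz F (2 ^ (m + 1)))) ∧ IsConj v n} =
      Nat.card ↥(Subgroup.centralizer {g}) := by
  haveI : Fact (Nat.Prime 2) := ⟨Nat.prime_two⟩
  have hO := oddTI P hF hm
  set C := Subgroup.centralizer {g}
  set N := Subgroup.normalizer (C : Set ↥(Sz F (2 ^ (m + 1))))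
  obtain ⟨⟨w, hw⟩, hw2⟩ := exists_prime_orderOf_dvd_card' (G := ↥N) 2 (hi.symm ▸ hev.mul_right _)
  rw [Subgroup.orderOf_mk] at hw2
  have hne : ∀ {u : ↥(Sz F (2 ^ (m + 1)))}, orderOf u = 2 → u * u = 1 ∧ u ≠ 1 := fun {u} h =>
    ⟨by have := pow_orderOf_eq_one u; rw [h, pow_two] at this; exact this, fun e => by rw [e, orderOf_one] at h; omega⟩
  have hU : ∀ {u : ↥(Sz F (2 ^ (m + 1)))}, orderOf u = 2 →
      ∃ k : ↥(Sz F (2 ^ (m + 1))), k * u * k⁻¹ ∈ unip P := fun {u} h =>
    (even_iff_conj_unip P hF hm (hne h).2).1 ((dvd_of_eq h).trans (by norm_num))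
  obtain ⟨hww, hw1⟩ := hne hw2
  have hcw : ∀ z ∈ C, orderOf (z * w) = 2 := by
    intro z hz
    refine orderOf_eq_prime (p := 2) ?_ ?_
    · rw [pow_two, show z * w * (z * w) = z * (w * z * w⁻¹) * (w * w) by group,
        hO.invert hg hw hww hw1 hz, hww, mul_inv_cancel, one_mul]
    · intro e
      have hwC : w ∈ C := by rw [eq_inv_of_mul_eq_one_right e]; exact inv_mem hz
      exact hO.not_dvd_four hg hwC hw1 ((dvd_of_eq hw2).trans (by norm_num))
  refine (Nat.card_eq_of_bijective (fun z : ↥C => (⟨(z : ↥(Sz F (2 ^ (m + 1)))) * w,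
    mul_mem (Subgroup.le_normalizer z.2) hw,
    isConj_involutions P hv2 (hcw z z.2) (hU hv2) (hU (hcw z z.2))⟩ :
    {n : ↥(Sz F (2 ^ (m + 1))) // n ∈ N ∧ IsConj v n})) ⟨?_, ?_⟩).symm
  · intro a b h
    exact Subtype.ext (mul_right_cancel (congrArg Subtype.val h))
  · rintro ⟨n, hn, hvn⟩
    obtain ⟨c, hc⟩ := isConj_iff.1 hvn
    have hn2 : orderOf n = 2 := by
      rw [← hc]; exact (orderOf_injective (MulAut.conj c).toMonoidHom (MulAut.conj c).injective v).trans hv2
    obtain ⟨hnn, hn1⟩ := hne hn2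
    refine ⟨⟨n * w, ?_⟩, Subtype.ext (by
      show n * w * w = n
      rw [mul_assoc, hww, mul_one])⟩
    have i1 := hO.invert hg hn hnn hn1 (mem_centralizer_self g)
    have i2 := hO.invert hg hw hww hw1 (mem_centralizer_self g)
    rw [Subgroup.mem_centralizer_singleton_iff, ← mul_inv_eq_iff_eq_mul]
    calc n * w * g * (n * w)⁻¹ = n * (w * g * w⁻¹) * n⁻¹ := by group
      _ = (n * g * n⁻¹)⁻¹ := by rw [i2]; group
      _ = g := by rw [i1, inv_inv]

include P hF hm in
theorem card_conj_four {g v : ↥(Sz F (2 ^ (m + 1)))} (hvU : v ∈ unip P) (hv4 : orderOf v = 4)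
    (hg : ¬ orderOf g ∣ 4)
    (hi : Nat.card ↥(Subgroup.normalizer (Subgroup.centralizer {g} : Set ↥(Sz F (2 ^ (m + 1))))) =
      4 * Nat.card ↥(Subgroup.centralizer {g})) :
    Nat.card {n : ↥(Sz F (2 ^ (m + 1))) //
      n ∈ Subgroup.normalizer (Subgroup.centralizer {g} : Set ↥(Sz F (2 ^ (m + 1)))) ∧ IsConj v n} =
      Nat.card ↥(Subgroup.centralizer {g}) := by
  haveI : Fact (Nat.Prime 2) := ⟨Nat.prime_two⟩
  have hO := oddTI P hF hm
  set C := Subgroup.centralizer {g}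
  set N := Subgroup.normalizer (C : Set ↥(Sz F (2 ^ (m + 1))))
  set Y : Set ↥(Sz F (2 ^ (m + 1))) := {n | n ∈ N ∧ IsConj v n}
  set Z : Set ↥(Sz F (2 ^ (m + 1))) := {n | n ∈ N ∧ IsConj v n⁻¹}
  set v2 := v ^ 2 with hv2def
  have hv2 : orderOf v2 = 2 := by
    rw [hv2def, orderOf_pow' v two_ne_zero, hv4]; rfl
  set I : Set ↥(Sz F (2 ^ (m + 1))) := {n | n ∈ N ∧ IsConj v2 n}
  have hIc : I.ncard = Nat.card ↥C := by
    rw [← Nat.card_coe_set_eq]
    exact card_conj_involution P hF hm hv2 hg hi (by norm_num)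
  have hYZ : Z.ncard = Y.ncard := by
    rw [← Nat.card_coe_set_eq, ← Nat.card_coe_set_eq]
    exact Nat.card_congr ((Equiv.inv _).subtypeEquiv fun n => ⟨fun h => ⟨inv_mem h.1, h.2⟩,
      fun h => ⟨by simpa using inv_mem h.1, h.2⟩⟩)
  have hord : ∀ {a b : ↥(Sz F (2 ^ (m + 1)))}, IsConj a b → orderOf a = orderOf b := by
    intro a b h
    obtain ⟨c, hc⟩ := isConj_iff.1 h
    rw [← hc]
    exact (orderOf_injective (MulAut.conj c).toMonoidHom (MulAut.conj c).injective a).symm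
  have hsplit : (N : Set ↥(Sz F (2 ^ (m + 1)))) = (C : Set ↥(Sz F (2 ^ (m + 1)))) ∪ I ∪ (Y ∪ Z) := by
    ext n
    constructor
    · intro hn
      by_cases h4 : orderOf n ∣ 4
      · rcases eq_or_ne n 1 with rfl | hn1
        · exact Or.inl (Or.inl (one_mem C))
        have hU := (even_iff_conj_unip P hF hm hn1).1 h4
        have hvU' : ∃ k : ↥(Sz F (2 ^ (m + 1))), k * v * k⁻¹ ∈ unip P := ⟨1, by simpa using hvU⟩
        obtain ⟨k, hk⟩ := hU
        rcases unip_cases P hk (fun e => hn1 (conj_eq_one_iff.1 e)) with ⟨ho, -⟩ | ⟨ho, -⟩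
        · refine Or.inl (Or.inr ⟨hn, isConj_involutions P hv2 ?_ ?_ ⟨k, hk⟩⟩)
          · exact (orderOf_injective (MulAut.conj k).toMonoidHom (MulAut.conj k).injective n).symm.trans ho
          · exact ⟨1, by simpa [hv2def] using pow_mem hvU 2⟩
        · have ho' : orderOf n = 4 :=
            (orderOf_injective (MulAut.conj k).toMonoidHom (MulAut.conj k).injective n).symm.trans ho
          rcases isConj_order_four P hF hm hv4 ho' hvU' ⟨k, hk⟩ with h | h
          · exact Or.inr (Or.inl ⟨hn, h⟩)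
          · exact Or.inr (Or.inr ⟨hn, h⟩)
      · exact Or.inl (Or.inl (hO.mem_of_odd hg hn h4))
    · rintro ((h | h) | (h | h))
      exacts [Subgroup.le_normalizer h, h.1, h.1, h.1]
  have hC4 : ∀ n ∈ C, orderOf n = 2 ∨ orderOf n = 4 → False := by
    intro n hn ho
    refine hO.not_dvd_four hg hn (fun e => by rw [e, orderOf_one] at ho; omega) ?_
    rcases ho with ho | ho <;> rw [ho]
    norm_num
  have d1 : Disjoint (C : Set ↥(Sz F (2 ^ (m + 1)))) I :=
    Set.disjoint_left.2 fun n hn h => hC4 n hn (Or.inl ((hord h.2).symm.trans hv2))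
  have d2 : Disjoint ((C : Set ↥(Sz F (2 ^ (m + 1)))) ∪ I) (Y ∪ Z) := by
    rw [Set.disjoint_left]
    intro n hn h
    have ho : orderOf n = 4 := by
      rcases h with h | h
      · exact (hord h.2).symm.trans hv4
      · rw [← orderOf_inv]; exact (hord h.2).symm.trans hv4
    rcases hn with hn | hn
    · exact hC4 n hn (Or.inr ho)
    · have := (hord hn.2).symm.trans hv2; omega
  have d3 : Disjoint Y Z := by
    refine Set.disjoint_left.2 fun n h h' => not_isConj_inv_four P hvU hv4 ?_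
    obtain ⟨c, hc⟩ := isConj_iff.1 h.2
    obtain ⟨d, hd⟩ := isConj_iff.1 h'.2
    have e : n⁻¹ = c * v⁻¹ * c⁻¹ := by rw [← hc]; group
    exact isConj_iff.2 ⟨c⁻¹ * d, by
      rw [show c⁻¹ * d * v * (c⁻¹ * d)⁻¹ = c⁻¹ * (d * v * d⁻¹) * c by group, hd, e]; group⟩
  have hcard := congrArg Set.ncard hsplit
  rw [Set.ncard_union_eq d2, Set.ncard_union_eq d1, Set.ncard_union_eq d3, hIc, hYZ,
    show (N : Set ↥(Sz F (2 ^ (m + 1)))).ncard = Nat.card ↥N from rfl,
    show (C : Set ↥(Sz F (2 ^ (m + 1)))).ncard = Nat.card ↥C from rfl, hi] at hcard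
  rw [show Nat.card {n // n ∈ N ∧ IsConj v n} = Y.ncard from rfl]
  omega

include P hF hm hx hx1 in
theorem solvSet_unip (hp : (2 * m + 1).Prime) {d a b : ↥(Sz F (2 ^ (m + 1)))} {x₀ : Fˣ} (hd : d = dEl P x₀)
    (hx₀ : x₀ ≠ 1) (ha : FPF a) (hb : FPF b) (hca : Nat.card ↥(Subgroup.centralizer {a}) = toA m)
    (hcb : Nat.card ↥(Subgroup.centralizer {b}) = toB m) :
    (solvSet x).ncard = Fintype.card F ^ 2 * (Fintype.card F - 1) +
      ((outer x d).ncard + (outer x a).ncard + (outer x b).ncard) := by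
  have hO := oddTI P hF hm
  obtain ⟨hA2, hB2⟩ := toA_toB_dvd (m := m) hF
  have hfpf4 : ∀ {g : ↥(Sz F (2 ^ (m + 1)))}, FPF g → ¬ orderOf g ∣ 4 := fun {g} hg h4 => hg.ne_one
    (orderOf_eq_one_iff.1 (Nat.eq_one_of_dvd_coprimes
      (show Nat.Coprime _ (2 ^ 2) from (q_coprime hF (fpf_orderOf P hF hg)).2.pow_right 2) dvd_rfl h4))
  have hd4 : ¬ orderOf d ∣ 4 := fun h4 => by
    rw [hd] at h4
    exact hx₀ (borel_decomp_mem_unip P (a := 0) (b := 0) (by
      rw [uEl_zero, one_mul]; exact mem_unip_of_even P hF hm (dEl_mem_borel P x₀) h4))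
  have hx4 : orderOf x ∣ 4 := orderOf_dvd_four P (k := 1) (by rwa [one_mul, inv_one, mul_one])
  have hsol : solvSet x = (borel (F := F) (e := 2 ^ (m + 1)) : Set ↥(Sz F (2 ^ (m + 1)))) ∪
      (outer x d ∪ outer x a ∪ outer x b) := by
    ext y
    show Group.IsSolvable _ ↔ _
    rw [solvable_iff_local P hF hm hp]
    constructor
    · rintro (⟨k, hk⟩ | ⟨g, hg, hle⟩)
      · left
        have hxk := hk x (Subgroup.subset_closure (Or.inl rfl))
        have hkU : k * x * k⁻¹ ∈ unip P := mem_unip_of_even P hF hm hxk (by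
          rw [show orderOf (k * x * k⁻¹) = orderOf x from
            orderOf_injective (MulAut.conj k).toMonoidHom (MulAut.conj k).injective x]
          exact hx4)
        have hkB := conj_unip_ne P hx hx1 hkU
        have := mul_mem (mul_mem (inv_mem hkB) (hk y (Subgroup.subset_closure (Or.inr rfl)))) hkB
        rwa [show k⁻¹ * (k * y * k⁻¹) * k = y by group] at this
      · by_cases hyB : y ∈ borel (F := F) (e := 2 ^ (m + 1))
        · exact Or.inl hyB
        right
        have h1 := hle (Subgroup.subset_closure (Or.inl rfl))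
        have h2 := hle (Subgroup.subset_closure (Or.inr rfl))
        have g1 : g ≠ 1 := fun e => hg (by rw [e, orderOf_one]; exact one_dvd 4)
        have hmk : ∀ r : ↥(Sz F (2 ^ (m + 1))), (∃ k : ↥(Sz F (2 ^ (m + 1))),
            Subgroup.centralizer {g} = Subgroup.centralizer {k * r * k⁻¹}) → y ∈ outer x r := by
          rintro r ⟨k, hk⟩
          exact ⟨hyB, k, hk ▸ h1, hk ▸ h2⟩
        rcases trichotomy P g1 with h | ⟨k, z, hz, hk⟩ | hf
        · exact absurd ((even_iff_conj_unip P hF hm g1).2 h) hg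
        · refine Or.inl (Or.inl (hmk d ⟨k⁻¹, ?_⟩))
          rw [← centralizer_map_conj, hd, centralizer_dEl P hx₀, ← centralizer_dEl P hz,
            centralizer_map_conj, ← hk]
          congr 2; group
        · rcases fpf_card P hF hm hf with hc | hc
          · obtain ⟨k, hk⟩ := fpf_conj P hF hm ha hf (hca.trans hc.symm)
            exact Or.inl (Or.inr (hmk a ⟨k, by rw [← hk, centralizer_map_conj]⟩))
          · obtain ⟨k, hk⟩ := fpf_conj P hF hm hb hf (hcb.trans hc.symm)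
            exact Or.inr (hmk b ⟨k, by rw [← hk, centralizer_map_conj]⟩)
    · have hcl : ∀ r : ↥(Sz F (2 ^ (m + 1))), ¬ orderOf r ∣ 4 → y ∈ outer x r →
          Local (Subgroup.closure ({x, y} : Set ↥(Sz F (2 ^ (m + 1))))) := by
        rintro r hr ⟨-, k, h1, h2⟩
        refine Or.inr ⟨k * r * k⁻¹, ?_, (Subgroup.closure_le _).2 ?_⟩
        · rw [show orderOf (k * r * k⁻¹) = orderOf r from
            orderOf_injective (MulAut.conj k).toMonoidHom (MulAut.conj k).injective r]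
          exact hr
        · rintro z (rfl | rfl) <;> assumption
      rintro (h | (h | h) | h)
      · refine Or.inl ⟨1, fun z hz => ?_⟩
        rw [one_mul, inv_one, mul_one]
        exact (Subgroup.closure_le _).2 (by rintro w (rfl | rfl); exacts [unip_le_borel P hx, h]) hz
      · exact hcl d hd4 h
      · exact hcl a (hfpf4 ha) h
      · exact hcl b (hfpf4 hb) h
  have hdisj : ∀ r s : ↥(Sz F (2 ^ (m + 1))), ¬ orderOf r ∣ 4 → ¬ orderOf s ∣ 4 →
      Nat.card ↥(Subgroup.centralizer {r}) ≠ Nat.card ↥(Subgroup.centralizer {s}) →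
      Disjoint (outer x r) (outer x s) := by
    intro r s hr hs hne
    rw [Set.disjoint_left]
    rintro y ⟨hyB, k, h1, h2⟩ ⟨-, l, h3, h4⟩
    refine hne ?_
    have hk : ∀ (z w : ↥(Sz F (2 ^ (m + 1)))), ¬ orderOf w ∣ 4 → ¬ orderOf (z * w * z⁻¹) ∣ 4 := fun z w hw => by
      rw [show orderOf (z * w * z⁻¹) = orderOf w from
        orderOf_injective (MulAut.conj z).toMonoidHom (MulAut.conj z).injective w]
      exact hw
    rw [← card_centralizer_conj k r, same_torus P hF hm hx hx1 (hk k r hr) (hk l s hs) hyB h1 h2 h3 h4,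
      card_centralizer_conj]
  have hdC : Nat.card ↥(Subgroup.centralizer {d}) = Fintype.card F - 1 := by
    rw [hd, centralizer_dEl P hx₀, card_torus]
  obtain ⟨hcA, hcB⟩ := q_sub_one_coprime (F := F) hF hm
  have h8 := eight_le hF hm
  have hdA : Disjoint (outer x d) (outer x a) := hdisj d a hd4 (hfpf4 ha) (by
    rw [hdC, hca]; intro e; rw [e, Nat.coprime_self] at hcA; exact (one_lt_toA m).ne' hcA)
  have hdB : Disjoint (outer x d) (outer x b) := hdisj d b hd4 (hfpf4 hb) (by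
    rw [hdC, hcb]; intro e; rw [e, Nat.coprime_self] at hcB; exact (one_lt_toB m hm).ne' hcB)
  have hAB : Disjoint (outer x a) (outer x b) := hdisj a b (hfpf4 ha) (hfpf4 hb) (by
    rw [hca, hcb]
    have := toA_coprime_toB m
    intro e; rw [e, Nat.coprime_self] at this; exact (one_lt_toB m hm).ne' this)
  have hBo : Disjoint (borel (F := F) (e := 2 ^ (m + 1)) : Set ↥(Sz F (2 ^ (m + 1))))
      (outer x d ∪ outer x a ∪ outer x b) := by
    rw [Set.disjoint_left]
    rintro y hy ((h | h) | h) <;> exact h.1 hy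
  rw [hsol, Set.ncard_union_eq hBo, Set.ncard_union_eq (Set.disjoint_union_left.2 ⟨hdB, hAB⟩),
    Set.ncard_union_eq hdA, show (borel (F := F) (e := 2 ^ (m + 1)) : Set ↥(Sz F (2 ^ (m + 1)))).ncard =
      Nat.card ↥(borel (F := F) (e := 2 ^ (m + 1))) from rfl, card_borel P]

end unipotent'

section semisimple

include P in
/-- Two opposite Borel subgroups meet in the torus. -/
theorem mem_torus_of_conj {g : ↥(Sz F (2 ^ (m + 1)))} (h1 : g ∈ borel (F := F) (e := 2 ^ (m + 1)))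
    (h2 : jEl P * g * jEl P ∈ borel (F := F) (e := 2 ^ (m + 1))) : g ∈ torus P := by
  obtain ⟨a, b, z, rfl⟩ := borel_form P h1
  have h3 : jEl P * uEl P a b * jEl P ∈ borel (F := F) (e := 2 ^ (m + 1)) := by
    have := mul_mem h2 (inv_mem (dEl_mem_borel P z⁻¹))
    rwa [show jEl P * (uEl P a b * dEl P z) * jEl P = jEl P * uEl P a b * (dEl P z * jEl P) by group,
      show dEl P z * jEl P = jEl P * dEl P z⁻¹ by rw [jEl_mul_dEl, inv_inv], ← mul_assoc,
      mul_inv_cancel_right] at this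
  obtain ⟨rfl, rfl⟩ := uj_unique P (a := 0) (b := 0) (a' := a) (b' := b) h3 (by
    rw [uEl_zero, one_mul, ← mul_assoc, ← mul_assoc, jEl_mul_self, one_mul])
  rw [uEl_zero, one_mul]
  exact dEl_mem_torus P z

include P hF hm in
theorem solvSet_torus (hp : (2 * m + 1).Prime) {x₀ : Fˣ} (hx₀ : x₀ ≠ 1) :
    (solvSet (dEl P x₀)).ncard = 2 * Fintype.card F ^ 2 * (Fintype.card F - 1) := by
  have hO := oddTI P hF hm
  have hq : 2 < Fintype.card F := by have := eight_le hF hm; omega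
  set d := dEl P x₀ with hd
  set B : Set ↥(Sz F (2 ^ (m + 1))) := ↑(borel (F := F) (e := 2 ^ (m + 1))) with hB
  set B' : Set ↥(Sz F (2 ^ (m + 1))) := {y | jEl P * y * jEl P ∈ borel (F := F) (e := 2 ^ (m + 1))} with hB'
  set N : Set ↥(Sz F (2 ^ (m + 1))) := ↑(Subgroup.normalizer (torus P : Set ↥(Sz F (2 ^ (m + 1))))) with hN
  have hd4 : ¬ orderOf d ∣ 4 := fun h4 =>
    hx₀ (borel_decomp_mem_unip P (a := 0) (b := 0) (by
      rw [uEl_zero, one_mul]; exact mem_unip_of_even P hF hm (dEl_mem_borel P x₀) h4))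
  have hjd : jEl P * d * jEl P = dEl P x₀⁻¹ := by
    have := jEl_conj_dEl P x₀
    rwa [jEl_inv, dEl_inv] at this
  have hsol : solvSet d = B ∪ B' ∪ N := by
    ext y
    show Group.IsSolvable _ ↔ _
    rw [solvable_iff_local P hF hm hp]
    constructor
    · rintro (⟨k, hk⟩ | ⟨g, hg, hle⟩)
      · have hkd := hk d (Subgroup.subset_closure (Or.inl rfl))
        have hky := hk y (Subgroup.subset_closure (Or.inr rfl))
        by_cases hkB : k ∈ borel (F := F) (e := 2 ^ (m + 1))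
        · refine Or.inl (Or.inl ?_)
          have := mul_mem (mul_mem (inv_mem hkB) hky) hkB
          rwa [show k⁻¹ * (k * y * k⁻¹) * k = y by group] at this
        · obtain ⟨a, b, h, hh, hkinv⟩ := bruhat P (g := k⁻¹) (fun h => hkB (by simpa using inv_mem h))
          have hk' : k = h⁻¹ * jEl P * (uEl P a b)⁻¹ := by
            have := congrArg (·⁻¹) hkinv
            simpa [mul_inv_rev, jEl_inv, mul_assoc] using this
          have h1 : jEl P * ((uEl P a b)⁻¹ * d * uEl P a b) * jEl P ∈ borel (F := F) (e := 2 ^ (m + 1)) := by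
            have := mul_mem (mul_mem hh hkd) (inv_mem hh)
            rw [hk'] at this
            simpa [mul_inv_rev, jEl_inv, mul_assoc] using this
          have hcb : (uEl P a b)⁻¹ * d * uEl P a b ∈ borel (F := F) (e := 2 ^ (m + 1)) :=
            mul_mem (mul_mem (inv_mem (uEl_mem_borel P a b)) (dEl_mem_borel P x₀)) (uEl_mem_borel P a b)
          obtain ⟨w, hw⟩ := (mem_torus P).1 (mem_torus_of_conj P hcb h1)
          obtain ⟨c, e, hce⟩ : (uEl P a b)⁻¹ * d * uEl P a b * d⁻¹ ∈ unip P := by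
            rw [mul_assoc (uEl P a b)⁻¹ d, mul_assoc]
            exact mul_mem (inv_mem ⟨a, b, rfl⟩) (dEl_conj_unip P x₀ ⟨a, b, rfl⟩)
          have hw1 : w * x₀⁻¹ = 1 := borel_decomp_mem_unip P (a := 0) (b := 0) (by
            rw [uEl_zero, one_mul, ← dEl_mul, ← dEl_inv, hw]; exact ⟨c, e, hce⟩)
          replace hw : (uEl P a b)⁻¹ * d * uEl P a b = d := by rw [← hw, mul_inv_eq_one.1 hw1]
          have hcomm : uEl P a b ∈ Subgroup.centralizer {d} := by
            rw [Subgroup.mem_centralizer_singleton_iff]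
            calc uEl P a b * d = uEl P a b * ((uEl P a b)⁻¹ * d * uEl P a b) := by rw [hw]
              _ = d * uEl P a b := by group
          rw [hd, centralizer_dEl P hx₀] at hcomm
          obtain ⟨z, hz⟩ := (mem_torus P).1 hcomm
          have hz1 : z = 1 := borel_decomp_mem_unip P (a := 0) (b := 0)
            (by rw [uEl_zero, one_mul, hz]; exact ⟨a, b, rfl⟩)
          rw [hz1, dEl_one] at hz
          rw [← hz, inv_one, mul_one] at hk'
          refine Or.inl (Or.inr ?_)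
          have := mul_mem (mul_mem hh hky) (inv_mem hh)
          rw [hk'] at this
          simpa [mul_inv_rev, jEl_inv, mul_assoc, hB'] using this
      · right
        have hdN := hle (Subgroup.subset_closure (Or.inl rfl))
        have e := hO.centralizer_eq g d hg (hO.mem_of_odd hg hdN hd4)
          (fun e => hd4 (by rw [e, orderOf_one]; exact one_dvd 4))
        rw [hd, centralizer_dEl P hx₀] at e
        show y ∈ Subgroup.normalizer (torus P : Set ↥(Sz F (2 ^ (m + 1))))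
        rw [e]
        exact hle (Subgroup.subset_closure (Or.inr rfl))
    · rintro ((h | h) | h)
      · refine Or.inl ⟨1, fun z hz => ?_⟩
        rw [one_mul, inv_one, mul_one]
        exact (Subgroup.closure_le _).2 (by rintro w (rfl | rfl); exacts [dEl_mem_borel P x₀, h]) hz
      · refine Or.inl ⟨jEl P, fun z hz => ?_⟩
        have : Subgroup.closure ({d, y} : Set ↥(Sz F (2 ^ (m + 1)))) ≤
            (borel (F := F) (e := 2 ^ (m + 1))).comap (MulAut.conj (jEl P)).toMonoidHom := by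
          rw [Subgroup.closure_le]
          rintro w (rfl | rfl)
          · simp only [SetLike.mem_coe, Subgroup.mem_comap, MulEquiv.coe_toMonoidHom, MulAut.conj_apply]
            rw [jEl_inv, hjd]; exact dEl_mem_borel P _
          · simp only [SetLike.mem_coe, Subgroup.mem_comap, MulEquiv.coe_toMonoidHom, MulAut.conj_apply]
            rw [jEl_inv]; exact h
        exact this hz
      · refine Or.inr ⟨d, hd4, ?_⟩
        rw [hd, centralizer_dEl P hx₀, Subgroup.closure_le]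
        rintro w (rfl | rfl)
        · exact Subgroup.le_normalizer (dEl_mem_torus P x₀)
        · exact h
  have hBB : B ∩ B' = ↑(torus P) := by
    ext y
    refine ⟨fun h => mem_torus_of_conj P h.1 h.2, ?_⟩
    intro hy
    obtain ⟨z, rfl⟩ := (mem_torus P).1 hy
    refine ⟨dEl_mem_borel P z, ?_⟩
    have := jEl_conj_dEl P z
    rw [jEl_inv, dEl_inv] at this
    rw [hB', Set.mem_ofPred_eq, this]
    exact dEl_mem_borel P _
  have hBN : (B ∪ B') ∩ N = ↑(torus P) := by
    ext y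
    constructor
    · rintro ⟨h, hy⟩
      rcases (mem_normalizer_torus P hq).1 hy with hy' | hy'
      · exact hy'
      exfalso
      obtain ⟨z, hz⟩ := (mem_torus P).1 hy'
      have hyz : y = jEl P * dEl P z := by rw [hz, ← mul_assoc, jEl_mul_self, one_mul]
      rcases h with h | h
      · refine jEl_notMem_borel P ?_
        have := mul_mem (show y ∈ borel (F := F) (e := 2 ^ (m + 1)) from h) (inv_mem (dEl_mem_borel P z))
        rwa [hyz, mul_inv_cancel_right] at this
      · refine jEl_notMem_borel P ?_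
        have h' : jEl P * y * jEl P ∈ borel (F := F) (e := 2 ^ (m + 1)) := h
        rw [← hz] at h'
        have := mul_mem (inv_mem (dEl_mem_borel P z)) h'
        rwa [inv_mul_cancel_left] at this
    · intro hy
      refine ⟨Or.inl ?_, Subgroup.le_normalizer hy⟩
      obtain ⟨z, rfl⟩ := (mem_torus P).1 hy
      exact dEl_mem_borel P z
  have hB'c : B'.ncard = Nat.card ↥(borel (F := F) (e := 2 ^ (m + 1))) := by
    rw [← Nat.card_coe_set_eq]
    refine Nat.card_congr ((MulAut.conj (jEl P)).toEquiv.subtypeEquiv fun y => ?_)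
    rw [hB', Set.mem_ofPred_eq, show (MulAut.conj (jEl P)).toEquiv y = jEl P * y * (jEl P)⁻¹ from rfl, jEl_inv]
  have h1 := Set.ncard_union_add_ncard_inter B B' (Set.toFinite _) (Set.toFinite _)
  have h2 := Set.ncard_union_add_ncard_inter (B ∪ B') N (Set.toFinite _) (Set.toFinite _)
  rw [hBN] at h2
  rw [hBB, hB'c, show B.ncard = Nat.card ↥(borel (F := F) (e := 2 ^ (m + 1))) from rfl, card_borel P,
    show (torus P : Set ↥(Sz F (2 ^ (m + 1)))).ncard = Nat.card ↥(torus P) from rfl, card_torus P] at h1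
  rw [show N.ncard = Nat.card ↥(Subgroup.normalizer (torus P : Set ↥(Sz F (2 ^ (m + 1))))) from rfl,
    card_normalizer_torus P hF hm,
    show (torus P : Set ↥(Sz F (2 ^ (m + 1)))).ncard = Nat.card ↥(torus P) from rfl, card_torus P] at h2
  rw [hsol, mul_assoc]
  omega

include P hF hm in
theorem solvSet_fpf (hp : (2 * m + 1).Prime) {x : ↥(Sz F (2 ^ (m + 1)))} (hx : FPF x) :
    (solvSet x).ncard = 4 * Nat.card ↥(Subgroup.centralizer {x}) := by
  have hO := oddTI P hF hm
  have hx4 : ¬ orderOf x ∣ 4 := fun h4 => hx.ne_one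
    (orderOf_eq_one_iff.1 (Nat.eq_one_of_dvd_coprimes
      (show Nat.Coprime _ (2 ^ 2) from (q_coprime hF (fpf_orderOf P hF hx)).2.pow_right 2) dvd_rfl h4))
  rw [← fpf_card_normalizer P hF hm hx]
  have hsol : solvSet x = ↑(Subgroup.normalizer (Subgroup.centralizer {x} : Set ↥(Sz F (2 ^ (m + 1))))) := by
    ext y
    show Group.IsSolvable _ ↔ _
    rw [solvable_iff_local P hF hm hp]
    constructor
    · rintro (⟨k, hk⟩ | ⟨g, hg, hle⟩)
      · exact absurd (hk x (Subgroup.subset_closure (Or.inl rfl))) (hx k)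
      · have e := hO.centralizer_eq g x hg
          (hO.mem_of_odd hg (hle (Subgroup.subset_closure (Or.inl rfl))) hx4) hx.ne_one
        show y ∈ Subgroup.normalizer (Subgroup.centralizer {x} : Set ↥(Sz F (2 ^ (m + 1))))
        rw [e]
        exact hle (Subgroup.subset_closure (Or.inr rfl))
    · intro hy
      refine Or.inr ⟨x, hx4, (Subgroup.closure_le _).2 ?_⟩
      rintro w (rfl | rfl)
      · exact Subgroup.le_normalizer (mem_centralizer_self _)
      · exact hy
  rw [hsol]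
  rfl

end semisimple

omit [Fintype F] [CharP F 2] in
theorem solvSet_conj (k x : ↥(Sz F (2 ^ (m + 1)))) :
    (solvSet (k * x * k⁻¹)).ncard = (solvSet x).ncard := by
  have h : solvSet (k * x * k⁻¹) = (MulAut.conj k) '' solvSet x := by
    ext y
    obtain ⟨y, rfl⟩ := (MulAut.conj k).surjective y
    rw [(MulAut.conj k).injective.mem_set_image]
    have e : Subgroup.closure ({k * x * k⁻¹, MulAut.conj k y} : Set ↥(Sz F (2 ^ (m + 1)))) =
        (Subgroup.closure ({x, y} : Set ↥(Sz F (2 ^ (m + 1))))).map (MulAut.conj k).toMonoidHom := by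
      rw [MonoidHom.map_closure, Set.image_pair]
      rfl
    show Group.IsSolvable _ ↔ Group.IsSolvable _
    let ε := (Subgroup.closure ({x, y} : Set ↥(Sz F (2 ^ (m + 1))))).equivMapOfInjective
      (MulAut.conj k).toMonoidHom (MulAut.conj k).injective
    rw [e]
    constructor
    · intro hs; exact Group.isSolvable_of_surjective (f := ε.symm.toMonoidHom) ε.symm.surjective
    · intro hs; exact Group.isSolvable_of_surjective (f := ε.toMonoidHom) ε.surjective
  rw [h, Set.ncard_image_of_injective _ (MulAut.conj k).injective]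

end CfsgLib.SuzukiGroup
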