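import Cfsg.Agent.Lib.SuzukiGroup.Structure
import Mathlib.Algebra.Field.Subfield.Basic

/-!
# Subfield subgroups of the Suzuki groups
-/

set_option autoImplicit false

open scoped MatrixGroups Matrix

namespace CfsgLib.SuzukiGroup

open Cfsg.Lie

variable {F : Type*} [Field F] [Fintype F] [CharP F 2] {e : ℕ} (P : Params F e)

omit [CharP F 2] in
lemma theta_mul_inj {a b : F} (h : a * P.θ a = b * P.θ b) : a = b := by
  rcases eq_or_ne b 0 with rfl | hb
  · simpa using h
  set c := a / b with hc
  have hθb : P.θ b ≠ 0 := by simpa using hb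
  have h1 : c * P.θ c = 1 := by
    rw [hc, map_div₀, div_mul_div_comm, h, div_self (mul_ne_zero hb hθb)]
  have hc0 : c ≠ 0 := fun e => by simp [e] at h1
  have h2 := congrArg P.θ h1
  rw [map_mul, P.sq, map_one] at h2
  have hθc : P.θ c = c⁻¹ := eq_inv_of_mul_eq_one_right h1
  rw [hθc, pow_two, inv_mul_cancel_left₀ hc0] at h2
  exact (div_eq_one_iff_eq hb).1 (hc ▸ h2)

variable (L : Subfield F)

omit [Fintype F] [CharP F 2] in
lemma theta_mem {a : F} (ha : a ∈ L) : P.θ a ∈ L := by
  rw [P.pow_eq]; exact pow_mem ha e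

/-- elements with all entries in `L` -/
def subGroup : Subgroup ↥(Sz F e) :=
  let S : Submonoid ↥(Sz F e) :=
    { carrier := {g | ∀ i j, mat g i j ∈ L}
      one_mem' := fun i j => by
        rw [mat_one, Matrix.one_apply]; split_ifs
        · exact L.one_mem
        · exact L.zero_mem
      mul_mem' := fun {g h} hg hh i j => by
        rw [mat_mul, Matrix.mul_apply]
        exact L.sum_mem fun k _ => L.mul_mem (hg i k) (hh k j) }
  { S with
    inv_mem' := fun {g} hg => by
      rw [inv_eq_of_mul_eq_one_right (show g * g ^ (orderOf g - 1) = 1 by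
        rw [← pow_succ', Nat.sub_add_cancel (orderOf_pos g), pow_orderOf_eq_one])]
      exact pow_mem (S := S) hg _ }

omit [CharP F 2] in
lemma mem_subGroup {g : ↥(Sz F e)} : g ∈ subGroup (e := e) L ↔ ∀ i j, mat g i j ∈ L := Iff.rfl

lemma uEl_mem_subGroup {a b : F} : uEl P a b ∈ subGroup (e := e) L ↔ a ∈ L ∧ b ∈ L := by
  constructor
  · intro h
    exact ⟨by simpa [uMat] using (mem_subGroup L).1 h 0 1, by simpa [uMat] using (mem_subGroup L).1 h 0 2⟩
  · rintro ⟨ha, hb⟩
    have hta := theta_mem P L ha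
    have htb := theta_mem P L hb
    refine (mem_subGroup L).2 fun i j => ?_
    fin_cases i <;> fin_cases j <;> simp [uMat] <;>
      first
        | exact L.zero_mem | exact L.one_mem | exact ha | exact hb | exact hta
        | exact L.add_mem hb (L.mul_mem ha hta)
        | exact L.add_mem (L.add_mem htb (L.mul_mem ha hb)) (L.mul_mem (L.mul_mem ha ha) hta)

lemma dEl_mem_subGroup {x : Fˣ} : dEl P x ∈ subGroup (e := e) L ↔ (x : F) ∈ L := by
  constructor
  · intro h; simpa [dMat] using (mem_subGroup L).1 h 0 0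
  · intro hx
    have htx := theta_mem P L hx
    refine (mem_subGroup L).2 fun i j => ?_
    fin_cases i <;> fin_cases j <;> simp [dMat] <;>
      first
        | exact L.zero_mem | exact hx | exact L.div_mem htx hx | exact L.div_mem hx htx | exact L.inv_mem hx

lemma jEl_mem_subGroup : jEl P ∈ subGroup (e := e) L := by
  refine (mem_subGroup L).2 fun i j => ?_
  fin_cases i <;> fin_cases j <;> simp [jMat] <;> first | exact L.zero_mem | exact L.one_mem

/-- the parameters of the subfield -/
def restrictParams : Params ↥L e where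
  θ := (P.θ.comp L.subtype).codRestrict L fun x => theta_mem P L x.2
  pow_eq x := Subtype.ext (by show P.θ (x : F) = _; rw [P.pow_eq]; rfl)
  sq x := Subtype.ext (P.sq (x : F))

omit [Fintype F] in
instance subfieldCharP : CharP ↥L 2 := RingHom.charP L.subtype L.subtype_injective 2

lemma rel_map (A : Matrix (Fin 4) (Fin 4) ↥L) :
    Rel P.θ (A.map L.subtype) ↔ Rel (restrictParams P L).θ A := by
  have h1 : ColSymp (A.map L.subtype) ↔ ColSymp A := by
    refine forall_congr' fun i => forall_congr' fun j => ?_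
    rw [← L.subtype_injective.eq_iff (a := altForm4 (fun k => A k i) (fun k => A k j))]
    split_ifs <;> simp [altForm4]
  have h2 : star4 (A.map L.subtype) = (star4 A).map L.subtype := by
    ext p r; simp [star4]
  have h3 : (A.map L.subtype).map P.θ = (A.map (restrictParams P L).θ).map L.subtype := by
    ext p r; rfl
  rw [Rel, Rel, h1, h2, h3]
  refine and_congr_right fun _ => ⟨fun h => ?_, fun h => by rw [h]⟩
  ext p r
  exact congrFun (congrFun h p) r

/-- the subfield group is a Suzuki group -/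
noncomputable def subGroupEquiv : ↥(Sz ↥L e) ≃* ↥(subGroup (e := e) L) := by
  letI : Fintype ↥L := Fintype.ofFinite _
  let φ : GL (Fin 4) ↥L →* GL (Fin 4) F := Matrix.GeneralLinearGroup.map L.subtype
  have hφ : ∀ g, ((φ g : GL (Fin 4) F) : Matrix (Fin 4) (Fin 4) F) =
      ((g : GL (Fin 4) ↥L) : Matrix (Fin 4) (Fin 4) ↥L).map L.subtype := fun g => rfl
  have hmem : ∀ g : ↥(Sz ↥L e), φ g ∈ Sz F e := fun g =>
    (mem_iff P _).2 ((rel_map P L _).2 ((mem_iff (restrictParams P L) _).1 g.2))
  let ψ : ↥(Sz ↥L e) →* ↥(subGroup (e := e) L) :=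
    { toFun := fun g => ⟨⟨φ g, hmem g⟩, fun i j => ((mat g) i j).2⟩
      map_one' := Subtype.ext (Subtype.ext (map_one φ))
      map_mul' := fun g h => Subtype.ext (Subtype.ext (map_mul φ g.1 h.1)) }
  refine MulEquiv.ofBijective ψ ⟨fun g h hgh => ?_, fun g => ?_⟩
  · apply mat_ext
    ext i j
    exact congrArg (fun x : ↥(subGroup (e := e) L) => mat (x : ↥(Sz F e)) i j) hgh
  · have hg := (mem_subGroup L).1 g.2
    have hgi := (mem_subGroup L).1 (inv_mem g.2)
    let A : Matrix (Fin 4) (Fin 4) ↥L := fun i j => ⟨mat (g : ↥(Sz F e)) i j, hg i j⟩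
    let B : Matrix (Fin 4) (Fin 4) ↥L := fun i j => ⟨mat (g : ↥(Sz F e))⁻¹ i j, hgi i j⟩
    have hA : A.map L.subtype = mat (g : ↥(Sz F e)) := rfl
    have hB : B.map L.subtype = mat (g : ↥(Sz F e))⁻¹ := rfl
    have hinj : Function.Injective (fun M : Matrix (Fin 4) (Fin 4) ↥L => M.map L.subtype) :=
      Matrix.map_injective L.subtype_injective
    have h1 : A * B = 1 := hinj (by
      show (A * B).map L.subtype = (1 : Matrix (Fin 4) (Fin 4) ↥L).map L.subtype
      rw [Matrix.map_mul, Matrix.map_one _ (map_zero _) (map_one _), hA, hB, ← mat_mul, mul_inv_cancel, mat_one])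
    let a : GL (Fin 4) ↥L := ⟨A, B, h1, mul_eq_one_comm.1 h1⟩
    have ha : a ∈ Sz ↥L e :=
      (mem_iff (restrictParams P L) _).2 ((rel_map P L A).1 (hA ▸ rel_mat P (g : ↥(Sz F e))))
    exact ⟨⟨a, ha⟩, Subtype.ext (mat_ext hA)⟩

include P in
lemma card_subGroup : Nat.card ↥(subGroup (e := e) L) =
    Nat.card ↥L ^ 2 * (Nat.card ↥L - 1) * (Nat.card ↥L ^ 2 + 1) := by
  letI : Fintype ↥L := Fintype.ofFinite _
  rw [← Nat.card_congr (subGroupEquiv P L).toEquiv, card_sz (restrictParams P L), Nat.card_eq_fintype_card]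

end CfsgLib.SuzukiGroup
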