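import Cfsg.Agent.Lib.SuzukiGroup.SubgroupCount
import Cfsg.Agent.Lib.SuzukiGroup.Subfield

/-!
# Local subgroups of the Suzuki groups, and the first reductions of the subgroup theorem
-/

set_option autoImplicit false

open scoped MatrixGroups Matrix Pointwise

namespace CfsgLib.SuzukiGroup

open Cfsg.Lie

variable {F : Type*} [Field F] [Fintype F] [CharP F 2] {m : ℕ}
  (P : Params F (2 ^ (m + 1))) (hF : Fintype.card F = 2 ^ (2 * m + 1)) (hm : 1 ≤ m)

include hF hm in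
omit [CharP F 2] in
lemma odd_q_sub_one : Odd (Fintype.card F - 1) := by
  rw [hF]
  exact Nat.Even.sub_odd Nat.one_le_two_pow (Nat.even_pow.2 ⟨even_two, by omega⟩) odd_one

include P hF hm in
lemma orderOf_conj_dEl {g : ↥(Sz F (2 ^ (m + 1)))} {k : ↥(Sz F (2 ^ (m + 1)))} {x : Fˣ} (hk : k * g * k⁻¹ = dEl P x) :
    orderOf g ∣ Fintype.card F - 1 := by
  rw [← card_torus P, ← orderOf_injective (MulAut.conj k).toMonoidHom (MulAut.conj k).injective g]
  exact Subgroup.orderOf_dvd_natCard _ (show k * g * k⁻¹ ∈ torus P from hk ▸ dEl_mem_torus P x)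

include P hF hm in
lemma even_iff_conj_unip {g : ↥(Sz F (2 ^ (m + 1)))} (h1 : g ≠ 1) : orderOf g ∣ 4 ↔ ∃ k : ↥(Sz F (2 ^ (m + 1))), k * g * k⁻¹ ∈ unip P := by
  constructor
  · intro h4
    have hco : ∀ d, Odd d → orderOf g ∣ d → False := fun d hd hgd => h1 (orderOf_eq_one_iff.1
      (Nat.eq_one_of_dvd_coprimes
        (show Nat.Coprime d (2 ^ 2) from (Nat.coprime_two_right.2 hd).pow_right 2) hgd h4))
    rcases trichotomy P h1 with h | ⟨k, x, -, hk⟩ | hf
    · exact h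
    · exact (hco _ (odd_q_sub_one hF hm) (orderOf_conj_dEl P hF hm hk)).elim
    · exact (hco _ (Nat.coprime_two_right.1 (q_coprime hF (fpf_orderOf P hF hf)).2) dvd_rfl).elim
  · rintro ⟨k, hk⟩
    exact orderOf_dvd_four P hk

include P hF hm in
/-- The group has the abstract properties used in the counting. -/
theorem oddTI : OddTI ↥(Sz F (2 ^ (m + 1))) := by
  have hcases : ∀ g : ↥(Sz F (2 ^ (m + 1))), ¬ orderOf g ∣ 4 →
      (∃ k : ↥(Sz F (2 ^ (m + 1))), ∃ x : Fˣ, x ≠ 1 ∧ k * g * k⁻¹ = dEl P x) ∨ FPF g := by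
    intro g hg
    have h1 : g ≠ 1 := fun e => hg (by rw [e, orderOf_one]; exact one_dvd 4)
    rcases trichotomy P h1 with h | h | h
    · exact absurd ((even_iff_conj_unip P hF hm h1).2 h) hg
    · exact Or.inl h
    · exact Or.inr h
  have hcard : ∀ g : ↥(Sz F (2 ^ (m + 1))), ¬ orderOf g ∣ 4 → IsCyclic ↥(Subgroup.centralizer {g}) ∧
      Odd (Nat.card ↥(Subgroup.centralizer {g})) := by
    intro g hg
    have h1 : g ≠ 1 := fun e => hg (by rw [e, orderOf_one]; exact one_dvd 4)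
    rcases element_cases P hF hm h1 with h | ⟨hc, h⟩
    · exact absurd h hg
    refine ⟨hc, ?_⟩
    obtain ⟨hA, hB⟩ := toA_toB_dvd (m := m) hF
    rcases h with h | h | h <;> rw [h]
    · exact odd_q_sub_one hF hm
    · exact Nat.coprime_two_right.1 (q_coprime hF hA).2
    · exact Nat.coprime_two_right.1 (q_coprime hF hB).2
  refine ⟨fun g hg => (hcard g hg).1, fun g hg => (hcard g hg).2, fun g h hg hh h1 => ?_,
    fun g hg => ?_, ?_⟩
  · have hh4 : ¬ orderOf h ∣ 4 := fun h4 => h1 (orderOf_eq_one_iff.1 (Nat.eq_one_of_dvd_coprimes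
      (show Nat.Coprime _ (2 ^ 2) from (Nat.coprime_two_right.2 (hcard g hg).2).pow_right 2)
      (Subgroup.orderOf_dvd_natCard _ hh) h4))
    have comm : ∀ {a u v : ↥(Sz F (2 ^ (m + 1)))}, ¬ orderOf a ∣ 4 → u ∈ Subgroup.centralizer {a} →
        v ∈ Subgroup.centralizer {a} → u * v = v * u := by
      intro a u v ha hu hv
      haveI := (hcard a ha).1
      exact congrArg Subtype.val
        ((IsCyclic.commGroup (α := ↥(Subgroup.centralizer {a}))).mul_comm ⟨u, hu⟩ ⟨v, hv⟩)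
    have hc := Subgroup.mem_centralizer_singleton_iff.1 hh
    refine le_antisymm (fun x hx => ?_) (fun x hx => ?_)
    · exact Subgroup.mem_centralizer_singleton_iff.2
        (comm hh4 hx (Subgroup.mem_centralizer_singleton_iff.2 hc.symm))
    · exact Subgroup.mem_centralizer_singleton_iff.2 (comm hg hx hh)
  · rcases hcases g hg with ⟨k, x, hx, hk⟩ | hf
    · have hC : (Subgroup.centralizer {g}).map (MulAut.conj k).toMonoidHom = torus P := by
        rw [centralizer_map_conj, hk, centralizer_dEl P hx]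
      have hcard_map : ∀ H : Subgroup ↥(Sz F (2 ^ (m + 1))),
          Nat.card ↥H = Nat.card ↥(H.map (MulAut.conj k).toMonoidHom) := fun H =>
        Nat.card_congr (H.equivMapOfInjective (MulAut.conj k).toMonoidHom (MulAut.conj k).injective).toEquiv
      rw [hcard_map (Subgroup.normalizer _), hcard_map (Subgroup.centralizer {g}),
        Subgroup.map_equiv_normalizer_eq, hC, card_normalizer_torus P hF hm, card_torus P]
      omega
    · exact (fpf_card_normalizer P hF hm hf).le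
  · rw [card_sz P, hF, Nat.dvd_iff_mod_eq_zero]
    have h4 : (2 ^ (2 * m + 1)) % 3 = 2 := by
      rw [pow_succ, pow_mul, Nat.mul_mod, Nat.pow_mod]; norm_num
    have hpos : 1 ≤ 2 ^ (2 * m + 1) := Nat.one_le_two_pow
    simp [Nat.mul_mod, Nat.add_mod, Nat.pow_mod, h4, show (2 ^ (2 * m + 1) - 1) % 3 = 1 by omega]

/-- Contained in the normaliser of a Sylow `2`-subgroup or of a maximal torus. -/
def Local (M : Subgroup ↥(Sz F (2 ^ (m + 1)))) : Prop :=
  (∃ k : ↥(Sz F (2 ^ (m + 1))), ∀ x ∈ M, k * x * k⁻¹ ∈ borel (F := F) (e := 2 ^ (m + 1))) ∨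
    ∃ g : ↥(Sz F (2 ^ (m + 1))), ¬ orderOf g ∣ 4 ∧ M ≤ Subgroup.normalizer (Subgroup.centralizer {g} : Set ↥(Sz F (2 ^ (m + 1))))

omit [CharP F 2] in
lemma Local.of_map {M : Subgroup ↥(Sz F (2 ^ (m + 1)))} {k : ↥(Sz F (2 ^ (m + 1)))} (h : Local (M.map (MulAut.conj k).toMonoidHom)) : Local M := by
  rcases h with ⟨l, hl⟩ | ⟨g, hg, hle⟩
  · refine Or.inl ⟨l * k, fun x hx => ?_⟩
    have := hl (k * x * k⁻¹) ⟨x, hx, rfl⟩
    simpa [mul_assoc] using this
  · have hg' : k * (k⁻¹ * g * k) * k⁻¹ = g := by group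
    refine Or.inr ⟨k⁻¹ * g * k, fun h4 => hg ?_, fun x hx => ?_⟩
    · rw [← hg', ← show (MulAut.conj k).toMonoidHom (k⁻¹ * g * k) = k * (k⁻¹ * g * k) * k⁻¹ from rfl,
        orderOf_injective (MulAut.conj k).toMonoidHom (MulAut.conj k).injective]
      exact h4
    · have h2 := hle ⟨x, hx, rfl⟩
      rw [← hg', ← centralizer_map_conj, ← Subgroup.map_equiv_normalizer_eq] at h2
      obtain ⟨y, hy, hyx⟩ := h2
      rwa [← (MulAut.conj k).injective hyx]

include P hF hm in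
lemma local_of_normal_cyclic {M A : Subgroup ↥(Sz F (2 ^ (m + 1)))} (hA : A ≠ ⊥) (hc : IsCyclic ↥A)
    (hn : ∀ x ∈ M, ∀ a ∈ A, x * a * x⁻¹ ∈ A) : Local M := by
  obtain ⟨⟨a, ha⟩, hgen⟩ := hc.exists_generator
  have hA' : ∀ b ∈ A, b ∈ Subgroup.zpowers a := by
    intro b hb
    obtain ⟨j, hj⟩ := hgen ⟨b, hb⟩
    exact ⟨j, congrArg Subtype.val hj⟩
  have ha1 : a ≠ 1 := by
    intro e
    refine hA ((Subgroup.eq_bot_iff_forall _).2 fun b hb => ?_)
    have := hA' b hb
    rwa [e, Subgroup.zpowers_one_eq_bot, Subgroup.mem_bot] at this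
  by_cases h4 : orderOf a ∣ 4
  · obtain ⟨k, hk⟩ := (even_iff_conj_unip P hF hm ha1).1 h4
    refine Or.inl ⟨k, fun x hx => conj_unip_ne P hk (fun e => ha1 (conj_eq_one_iff.1 e)) ?_⟩
    obtain ⟨j, hj⟩ := hA' _ (hn x hx a ha)
    rw [show k * x * k⁻¹ * (k * a * k⁻¹) * (k * x * k⁻¹)⁻¹ = k * (x * a * x⁻¹) * k⁻¹ by group, ← hj]
    show k * a ^ j * k⁻¹ ∈ unip P
    rw [← conj_zpow]
    exact zpow_mem hk j
  · refine Or.inr ⟨a, h4, fun x hx => ?_⟩
    exact (oddTI P hF hm).ti h4 (mem_centralizer_self a) ha1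
      (Subgroup.zpowers_le.2 (mem_centralizer_self a) (hA' _ (hn x hx a ha)))

include P hF hm in
lemma local_of_isZGroup {M : Subgroup ↥(Sz F (2 ^ (m + 1)))} (hZ : IsZGroup ↥M) : Local M := by
  rcases eq_or_ne M ⊥ with rfl | hM
  · exact Or.inl ⟨1, fun x hx => by rw [Subgroup.mem_bot.1 hx]; simp⟩
  rcases eq_or_ne (commutator ↥M) ⊥ with hcomm | hcomm
  · have : Group.IsNilpotent ↥M := by
      letI : CommGroup ↥M :=
        { (inferInstance : Group ↥M) with
          mul_comm := fun a b => by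
            have := Subgroup.commutator_mem_commutator (Subgroup.mem_top a) (Subgroup.mem_top b)
            rw [← commutator_def, hcomm, Subgroup.mem_bot] at this
            exact commutatorElement_eq_one_iff_mul_comm.1 this }
      exact CommGroup.isNilpotent
    refine local_of_normal_cyclic P hF hm hM inferInstance fun x hx a ha => ?_
    exact mul_mem (mul_mem hx ha) (inv_mem hx)
  · haveI := IsZGroup.isCyclic_commutator (G := ↥M)
    refine local_of_normal_cyclic P hF hm (A := (commutator ↥M).map M.subtype)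
      (fun e => hcomm ((Subgroup.map_eq_bot_iff_of_injective _ M.subtype_injective).1 e))
      (isCyclic_of_surjective ((commutator ↥M).equivMapOfInjective M.subtype M.subtype_injective).toMonoidHom
        (MulEquiv.surjective _)) ?_
    rintro x hx _ ⟨a, ha, rfl⟩
    have hnorm : (commutator ↥M).Normal := Subgroup.commutator_normal _ _
    exact ⟨(⟨x, hx⟩ : ↥M) * a * (⟨x, hx⟩ : ↥M)⁻¹, hnorm.conj_mem a ha ⟨x, hx⟩, rfl⟩

include P hF hm in
lemma sylow_odd_isCyclic (M : Subgroup ↥(Sz F (2 ^ (m + 1)))) {p : ℕ} [Fact p.Prime] (hp : p ≠ 2) (S : Sylow p ↥M) :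
    IsCyclic ↥(S : Subgroup ↥M) := by
  rcases subsingleton_or_nontrivial ↥(S : Subgroup ↥M) with h | h
  · infer_instance
  haveI := S.2.center_nontrivial
  obtain ⟨⟨z, hzc⟩, hz⟩ := exists_ne (1 : ↥(Subgroup.center ↥(S : Subgroup ↥M)))
  have hz1 : (z : ↥M) ≠ 1 := fun e => hz (Subtype.ext (Subtype.ext e))
  have h4 : ¬ orderOf (z : ↥M) ∣ 4 := by
    intro h4
    obtain ⟨j, hj⟩ := S.2 z
    rw [← orderOf_dvd_iff_pow_eq_one, ← Subgroup.orderOf_coe] at hj
    refine hz1 (orderOf_eq_one_iff.1 (Nat.eq_one_of_dvd_coprimes ?_ hj h4))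
    rw [show 4 = 2 ^ 2 from rfl]
    exact Nat.Coprime.pow _ _ ((Nat.coprime_primes Fact.out Nat.prime_two).2 hp)
  haveI : IsCyclic ↥(Subgroup.centralizer {(z : ↥M)}) := ((oddTI P hF hm).subgroup M).cyclic (z : ↥M) h4
  rw [Subgroup.mem_center_iff] at hzc
  have hle : (S : Subgroup ↥M) ≤ Subgroup.centralizer {(z : ↥M)} := fun x hx =>
    Subgroup.mem_centralizer_singleton_iff.2 (congrArg Subtype.val (hzc ⟨x, hx⟩))
  exact isCyclic_of_injective (Subgroup.inclusion hle) (Subgroup.inclusion_injective hle)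

include P hF hm in
lemma local_of_sylow_two {M : Subgroup ↥(Sz F (2 ^ (m + 1)))} (S : Sylow 2 ↥M) (hS : IsCyclic ↥(S : Subgroup ↥M)) :
    Local M := by
  refine local_of_isZGroup P hF hm ((isZGroup_iff _).2 fun p hp T => ?_)
  haveI : Fact p.Prime := ⟨hp⟩
  rcases eq_or_ne p 2 with rfl | hp2
  · obtain ⟨k, hk⟩ := MulAction.exists_smul_eq ↥M S T
    haveI := hS
    rw [← hk]
    exact isCyclic_of_surjective (Sylow.equiv S (k • S)).toMonoidHom (MulEquiv.surjective _)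
  · exact sylow_odd_isCyclic P hF hm M hp2 T

include P in
lemma conj_borel_scale {g : ↥(Sz F (2 ^ (m + 1)))} (hg : g ∈ borel (F := F) (e := 2 ^ (m + 1))) :
    ∃ (a b : F) (x : Fˣ), g = uEl P a b * dEl P x ∧
      ∀ w : F, g * uEl P 0 w * g⁻¹ = uEl P 0 (P.θ x * w) := by
  obtain ⟨a, b, x, rfl⟩ := borel_form P hg
  refine ⟨a, b, x, rfl, fun w => ?_⟩
  rw [mul_assoc (uEl P a b), dEl_mul_uEl, mul_zero, mul_inv_rev, ← mul_assoc, ← mul_assoc,
    mul_inv_cancel_right, (uEl_comm_iff P a b 0 (P.θ x * w)).2 (by simp), mul_inv_cancel_right]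

include P hF hm in
lemma mem_unip_of_even {g : ↥(Sz F (2 ^ (m + 1)))} (hg : g ∈ borel (F := F) (e := 2 ^ (m + 1))) (h4 : orderOf g ∣ 4) :
    g ∈ unip P := by
  obtain ⟨a, b, x, rfl⟩ := borel_form P hg
  rcases eq_or_ne x 1 with rfl | hx
  · rw [dEl_one, mul_one]; exact ⟨a, b, rfl⟩
  obtain ⟨v, -, hv⟩ := exists_conj_dEl P a b hx
  exfalso
  have hk : v⁻¹ * (uEl P a b * dEl P x) * v⁻¹⁻¹ = dEl P x := by rw [hv]; group
  have h1 : uEl P a b * dEl P x ≠ 1 := fun e => hx (borel_decomp_mem_unip P (by rw [e]; exact one_mem _))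
  refine h1 (orderOf_eq_one_iff.1 (Nat.eq_one_of_dvd_coprimes
    (show Nat.Coprime _ (2 ^ 2) from (Nat.coprime_two_right.2 (odd_q_sub_one hF hm)).pow_right 2)
    (orderOf_conj_dEl P hF hm hk) h4))

/-- Two involutions whose product has odd order are conjugate by a power of the product. -/
lemma conj_involutions_of_odd {H : Type*} [Group H] {s r : H} (hs : s * s = 1) (hr : r * r = 1)
    (ho : Odd (orderOf (s * r))) : ∃ j : ℕ, (s * r) ^ j * s * ((s * r) ^ j)⁻¹ = r := by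
  obtain ⟨i, hi⟩ := ho
  refine ⟨i, ?_⟩
  have hflip : ∀ n : ℕ, s * ((s * r) ^ n)⁻¹ = (s * r) ^ n * s := by
    intro n
    induction n with
    | zero => simp
    | succ n ih =>
      rw [pow_succ', mul_inv_rev, ← mul_assoc, ih, mul_inv_rev, inv_eq_of_mul_eq_one_right hr,
        inv_eq_of_mul_eq_one_right hs]
      calc (s * r) ^ n * s * (r * s) = (s * r) ^ n * (s * r) * s := by group
        _ = s * r * (s * r) ^ n * s := by rw [← pow_succ, ← pow_succ']
  have h2 : (s * r) ^ (2 * i) = r * s := by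
    have h := pow_orderOf_eq_one (s * r)
    rw [hi, pow_succ] at h
    rw [eq_inv_of_mul_eq_one_left h, mul_inv_rev, inv_eq_of_mul_eq_one_right hr,
      inv_eq_of_mul_eq_one_right hs]
  calc (s * r) ^ i * s * ((s * r) ^ i)⁻¹ = (s * r) ^ i * (s * ((s * r) ^ i)⁻¹) := by group
    _ = (s * r) ^ (2 * i) * s := by rw [hflip, ← mul_assoc, ← pow_add, two_mul]
    _ = r := by rw [h2, mul_assoc, hs, mul_one]

include P hF hm in
/-- Two involutions with no common fixed point have product of odd order. -/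
lemma odd_product {s r : ↥(Sz F (2 ^ (m + 1)))} (hs : s ∈ unip P) (hs1 : s ≠ 1) (hs2 : s * s = 1) (hr : r * r = 1)
    (hrB : r ∉ borel (F := F) (e := 2 ^ (m + 1))) : Odd (orderOf (s * r)) := by
  by_contra hodd
  rw [Nat.not_odd_iff_even] at hodd
  obtain ⟨i, hi⟩ := hodd
  set p := s * r with hp
  have hpos := orderOf_pos p
  set z := p ^ i with hz
  have hz1 : z ≠ 1 := pow_ne_one_of_lt_orderOf (by omega) (by omega)
  have hzz : z⁻¹ = z := inv_eq_of_mul_eq_one_right (by rw [hz, ← pow_add, ← hi, pow_orderOf_eq_one])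
  have hpinv : p⁻¹ = r * s := by
    rw [hp, mul_inv_rev, inv_eq_of_mul_eq_one_right hs2, inv_eq_of_mul_eq_one_right hr]
  have hcs : s * z * s⁻¹ = z := by
    rw [hz, ← conj_pow, show s * p * s⁻¹ = p⁻¹ by
      rw [hpinv, hp, inv_eq_of_mul_eq_one_right hs2, ← mul_assoc, hs2, one_mul], inv_pow]
    exact hzz
  have hcr : r * z * r⁻¹ = z := by
    rw [hz, ← conj_pow, show r * p * r⁻¹ = p⁻¹ by
      rw [hpinv, hp, inv_eq_of_mul_eq_one_right hr, mul_assoc, mul_assoc, hr, mul_one], inv_pow]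
    exact hzz
  have hzU : z ∈ unip P := centralizer_le_unip P hs hs1 (Subgroup.mem_centralizer_singleton_iff.2
    (mul_inv_eq_iff_eq_mul.1 hcs).symm)
  have hrU : r ∈ unip P := centralizer_le_unip P hzU hz1 (Subgroup.mem_centralizer_singleton_iff.2
    (mul_inv_eq_iff_eq_mul.1 hcr))
  exact hrB (unip_le_borel P hrU)

/-- The parameter field of the central involutions of `M`, with the torus part of `M ∩ B`. -/
structure Frame (M : Subgroup ↥(Sz F (2 ^ (m + 1)))) where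
  L : Subfield F
  l : ℕ
  card_L : Nat.card ↥L = 2 ^ l
  l_dvd : l ∣ 2 * m + 1
  cen : ∀ b : F, uEl P 0 b ∈ M ↔ b ∈ L
  dia : ∀ x : Fˣ, (∃ a b : F, uEl P a b * dEl P x ∈ M) ↔ (x : F) ∈ L
  sq_mem : ∀ a b : F, uEl P a b ∈ M → a ∈ L

include P hF hm in
theorem exists_frame {M : Subgroup ↥(Sz F (2 ^ (m + 1)))} (hloc : ¬ Local M) (h01 : uEl P 0 1 ∈ M) : Nonempty (Frame P M) := by
  set Lset : Set F := {b | uEl P 0 b ∈ M} with hLset
  set X : Set Fˣ := {x | ∃ a b : F, uEl P a b * dEl P x ∈ M} with hX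
  have hscale : ∀ x ∈ X, ∀ w ∈ Lset, P.θ ((x : Fˣ) : F) * w ∈ Lset := by
    rintro x ⟨a, b, hab⟩ w hw
    obtain ⟨a', b', x', he, hc⟩ := conj_borel_scale P (g := uEl P a b * dEl P x)
      (mul_mem (uEl_mem_borel P a b) (dEl_mem_borel P x))
    have hxx : x' = x := by
      have := congrFun (congrFun (congrArg mat he) 0) 0
      exact Units.ext (by simpa [uMat, dMat, Matrix.mul_apply, Fin.sum_univ_four] using this.symm)
    show uEl P 0 _ ∈ M
    rw [← hxx, ← hc]
    exact mul_mem (mul_mem hab hw) (inv_mem hab)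
  -- an involution of `M` moving the point at infinity
  obtain ⟨g, hgM, hgB⟩ : ∃ g ∈ M, g ∉ borel (F := F) (e := 2 ^ (m + 1)) := by
    by_contra hno
    refine hloc (Or.inl ⟨1, fun x hx => ?_⟩)
    by_contra hxB
    exact hno ⟨x, hx, by simpa using hxB⟩
  set u := uEl P 0 1 with hu
  have hu1 : u ≠ 1 := fun e => one_ne_zero ((uEl_eq_one P).1 e).2
  have huu : u * u = 1 := by rw [← pow_two, hu, uEl_sq, zero_mul, uEl_zero]
  have huU : u ∈ unip P := ⟨0, 1, rfl⟩
  set r := g * u * g⁻¹ with hr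
  have hr2 : r * r = 1 := by
    rw [hr, show g * u * g⁻¹ * (g * u * g⁻¹) = g * (u * u) * g⁻¹ by group, huu]; group
  have hrB : r ∉ borel (F := F) (e := 2 ^ (m + 1)) := fun h => hgB (conj_unip_ne P huU hu1
    (mem_unip_of_even P hF hm h (orderOf_dvd_of_pow_eq_one (by
      rw [← hr, show r ^ 4 = (r * r) ^ 2 by rw [← pow_two, ← pow_mul], hr2, one_pow]))))
  have hrM : r ∈ M := mul_mem (mul_mem hgM h01) (inv_mem hgM)
  have htrans : ∀ b ∈ Lset, b ≠ 0 → ∃ x ∈ X, P.θ ((x : Fˣ) : F) = b := by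
    intro b hb hb0
    have hs1 : uEl P 0 b ≠ 1 := fun e => hb0 ((uEl_eq_one P).1 e).2
    have hss : uEl P 0 b * uEl P 0 b = 1 := by rw [← pow_two, uEl_sq, zero_mul, uEl_zero]
    obtain ⟨j, hj⟩ := conj_involutions_of_odd hss hr2 (odd_product P hF hm ⟨0, b, rfl⟩ hs1 hss hr2 hrB)
    obtain ⟨i, hi⟩ := conj_involutions_of_odd huu hr2 (odd_product P hF hm huU hu1 huu hr2 hrB)
    set k := ((uEl P 0 b * r) ^ j)⁻¹ * (u * r) ^ i with hk
    have hkM : k ∈ M := mul_mem (inv_mem (pow_mem (mul_mem hb hrM) j)) (pow_mem (mul_mem h01 hrM) i)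
    have hkc : k * u * k⁻¹ = uEl P 0 b := by
      calc k * u * k⁻¹ = ((uEl P 0 b * r) ^ j)⁻¹ * ((u * r) ^ i * u * ((u * r) ^ i)⁻¹) *
            (uEl P 0 b * r) ^ j := by rw [hk]; group
        _ = ((uEl P 0 b * r) ^ j)⁻¹ *
            ((uEl P 0 b * r) ^ j * uEl P 0 b * ((uEl P 0 b * r) ^ j)⁻¹) * (uEl P 0 b * r) ^ j := by
          rw [hi, hj]
        _ = uEl P 0 b := by group
    have hkB := conj_unip_ne P huU hu1 (by rw [hkc]; exact ⟨0, b, rfl⟩)
    obtain ⟨a', b', x, he, hc⟩ := conj_borel_scale P hkB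
    refine ⟨x, ⟨a', b', he ▸ hkM⟩, ?_⟩
    have := (uEl_inj P ((hc 1).symm.trans hkc)).2
    rwa [mul_one] at this
  have hmul : ∀ b ∈ Lset, ∀ c ∈ Lset, b * c ∈ Lset := by
    intro b hb c hc
    rcases eq_or_ne b 0 with rfl | hb0
    · rw [zero_mul]; show uEl P 0 0 ∈ M; rw [uEl_zero]; exact one_mem M
    · obtain ⟨x, hx, rfl⟩ := htrans b hb hb0
      exact hscale x hx c hc
  have hadd : ∀ b ∈ Lset, ∀ c ∈ Lset, b + c ∈ Lset := by
    intro b hb c hc
    show uEl P 0 (b + c) ∈ M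
    have := mul_mem (show uEl P 0 b ∈ M from hb) (show uEl P 0 c ∈ M from hc)
    rwa [uEl_mul, map_zero, mul_zero, add_zero, add_zero] at this
  let S : Submonoid F := { carrier := Lset, one_mem' := h01, mul_mem' := fun {a b} ha hb => hmul a ha b hb }
  let L : Subfield F :=
    { carrier := Lset
      one_mem' := h01
      mul_mem' := fun {a b} ha hb => hmul a ha b hb
      add_mem' := fun {a b} ha hb => hadd a ha b hb
      zero_mem' := show uEl P 0 0 ∈ M by rw [uEl_zero]; exact one_mem M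
      neg_mem' := fun {a} ha => show -a ∈ Lset by rw [CharTwo.neg_eq]; exact ha
      inv_mem' := fun a ha => by
        rcases eq_or_ne a 0 with rfl | ha0
        · rw [inv_zero]; exact ha
        have h1 : a * a ^ (Fintype.card F - 2) = 1 := by
          rw [← pow_succ', show Fintype.card F - 2 + 1 = Fintype.card F - 1 by
            have := eight_le hF hm; omega]
          exact FiniteField.pow_card_sub_one_eq_one a ha0
        rw [inv_eq_of_mul_eq_one_right h1]
        exact pow_mem (S := S) ha _ }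
  have hcen : ∀ b : F, uEl P 0 b ∈ M ↔ b ∈ L := fun b => Iff.rfl
  have hsqroot : ∀ a : F, a ^ 2 ∈ L → a ∈ L := fun a ha => by
    have h1 : (a ^ 2) ^ (2 ^ (2 * m)) = a := by
      rw [← pow_mul, ← pow_succ', ← hF, FiniteField.pow_card]
    rw [← h1]; exact pow_mem ha _
  have hthroot : ∀ a : F, P.θ a ∈ L → a ∈ L := fun a ha => hsqroot a (P.sq a ▸ theta_mem P L ha)
  obtain ⟨l, hl⟩ : ∃ l, Nat.card ↥L = 2 ^ l := by
    letI : Fintype ↥L := Fintype.ofFinite _
    obtain ⟨n, -, hn⟩ := FiniteField.card ↥L 2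
    exact ⟨n, by rw [Nat.card_eq_fintype_card, hn]⟩
  have hld : l ∣ 2 * m + 1 := by
    have h := Module.natCard_eq_pow_finrank (K := ↥L) (V := F)
    rw [hl, Nat.card_eq_fintype_card, hF, ← pow_mul] at h
    exact ⟨_, Nat.pow_right_injective le_rfl h⟩
  refine ⟨⟨L, l, hl, hld, hcen, fun x => ⟨fun hx => ?_, fun hx => ?_⟩, fun a b hab => ?_⟩⟩
  · refine hthroot _ ?_
    have := hscale x hx 1 h01
    rwa [mul_one] at this
  · obtain ⟨y, hy, hyx⟩ := htrans (P.θ x) (theta_mem P L hx) (by simp)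
    rwa [← Units.ext (P.θ.injective hyx)]
  · rcases eq_or_ne a 0 with rfl | ha
    · exact L.zero_mem
    have hsq : uEl P 0 (a * P.θ a) ∈ M := by rw [← uEl_sq P a b]; exact pow_mem hab 2
    -- `c ↦ c θ(c)` is bijective on `L`
    have hinj : Function.Injective (fun c : ↥L => (⟨(c : F) * P.θ c, L.mul_mem c.2 (theta_mem P L c.2)⟩ : ↥L)) :=
      fun c d h => Subtype.ext (theta_mul_inj P (congrArg Subtype.val h))
    obtain ⟨c, hc⟩ := (Finite.injective_iff_bijective.1 hinj).2 ⟨_, hsq⟩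
    rw [theta_mul_inj P (congrArg Subtype.val hc).symm]
    exact c.2

include P hF hm in
/-- A non-local subgroup can be moved so that it contains `u(0,1)`. -/
lemma exists_conj_u01 {M : Subgroup ↥(Sz F (2 ^ (m + 1)))} (hloc : ¬ Local M) :
    ∃ k : ↥(Sz F (2 ^ (m + 1))), uEl P 0 1 ∈ M.map (MulAut.conj k).toMonoidHom := by
  haveI : Fact (Nat.Prime 2) := ⟨Nat.prime_two⟩
  by_cases h : ∃ s ∈ M, s ≠ 1 ∧ orderOf s ∣ 4
  · obtain ⟨s, hsM, hs1, hs4⟩ := h
    obtain ⟨k, hk⟩ := (even_iff_conj_unip P hF hm hs1).1 hs4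
    obtain ⟨b, hb, hbM⟩ : ∃ b : F, b ≠ 0 ∧ uEl P 0 b ∈ M.map (MulAut.conj k).toMonoidHom := by
      have hk1 : k * s * k⁻¹ ≠ 1 := fun e => hs1 (conj_eq_one_iff.1 e)
      have hkM : k * s * k⁻¹ ∈ M.map (MulAut.conj k).toMonoidHom := ⟨s, hsM, rfl⟩
      rcases unip_cases P hk hk1 with ⟨-, b, hb, he⟩ | ⟨-, a, b, ha, he⟩
      · exact ⟨b, hb, he ▸ hkM⟩
      · refine ⟨a * P.θ a, mul_ne_zero ha (by simpa using ha), ?_⟩
        rw [← uEl_sq P a b, ← he]
        exact pow_mem hkM 2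
    obtain ⟨y, hy⟩ := (theta_bijective P).2 b⁻¹
    have hy0 : y ≠ 0 := fun e => hb (inv_eq_zero.1 (by rw [← hy, e, map_zero]))
    refine ⟨dEl P (Units.mk0 y hy0) * k, ?_⟩
    obtain ⟨w, hw, hwe⟩ := hbM
    refine ⟨w, hw, ?_⟩
    show dEl P (Units.mk0 y hy0) * k * w * (dEl P (Units.mk0 y hy0) * k)⁻¹ = _
    rw [show dEl P (Units.mk0 y hy0) * k * w * (dEl P (Units.mk0 y hy0) * k)⁻¹ =
      dEl P (Units.mk0 y hy0) * (k * w * k⁻¹) * (dEl P (Units.mk0 y hy0))⁻¹ by group,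
      show k * w * k⁻¹ = uEl P 0 b from hwe, dEl_mul_uEl, mul_zero, mul_inv_cancel_right, Units.val_mk0, hy,
      inv_mul_cancel₀ hb]
  · refine absurd ?_ hloc
    obtain ⟨S⟩ : Nonempty (Sylow 2 ↥M) := inferInstance
    have hbot : (S : Subgroup ↥M) = ⊥ := by
      refine (Subgroup.eq_bot_iff_forall _).2 fun x hx => ?_
      by_contra hx1
      haveI : Nontrivial ↥(S : Subgroup ↥M) := ⟨⟨⟨x, hx⟩, 1, fun e => hx1 (congrArg Subtype.val e)⟩⟩
      obtain ⟨y, hy⟩ := exists_prime_orderOf_dvd_card' (G := ↥(S : Subgroup ↥M)) 2 (by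
        obtain ⟨n, hn, hcard⟩ := S.2.nontrivial_iff_card.1 inferInstance
        rw [hcard]; exact dvd_pow_self 2 hn.ne')
      rw [← Subgroup.orderOf_coe, ← Subgroup.orderOf_coe] at hy
      refine h ⟨_, (y : ↥M).2, fun e => ?_, ?_⟩
      · rw [e, orderOf_one] at hy; exact absurd hy (by norm_num)
      · rw [hy]; norm_num
    refine local_of_sylow_two P hF hm S ?_
    rw [hbot]
    exact isCyclic_of_subsingleton

end CfsgLib.SuzukiGroup
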