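import Cfsg.Agent.Lib.SuzukiGroup.Tori
import Cfsg.Agent.Lib.SuzukiGroup.SubgroupBasic

/-!
# The trace of a semisimple element of `Sz(q)` determines its cyclic group up to conjugacy
-/

set_option autoImplicit false

open scoped MatrixGroups Matrix

namespace CfsgLib.SuzukiGroup

open Cfsg.Lie

variable {F : Type*} [Field F] [Fintype F] [CharP F 2] {m : ℕ}
  (P : Params F (2 ^ (m + 1))) (hF : Fintype.card F = 2 ^ (2 * m + 1)) (hm : 1 ≤ m)

set_option quotPrecheck false
local notation "𝔾" => ↥(Sz F (2 ^ (m + 1)))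
local notation "K" => AlgebraicClosure F

omit [Fintype F] in
lemma matK_pow_eigen {g : 𝔾} {c : K} {w : Fin 4 → K} (hw : matK g *ᵥ w = c • w) (i : ℕ) :
    matK (g ^ i) *ᵥ w = c ^ i • w := by
  induction i with
  | zero => rw [pow_zero, pow_zero, matK_one, Matrix.one_mulVec, one_smul]
  | succ i ih =>
    rw [pow_succ g i, matK_mul, ← Matrix.mulVec_mulVec, hw, Matrix.mulVec_smul, ih, smul_smul,
      ← pow_succ' c i]

omit [Fintype F] in
lemma eigvec_of_det {g : 𝔾} {z : K}
    (h : (z • (1 : Matrix (Fin 4) (Fin 4) K) + matK g).det = 0) :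
    ∃ w : Fin 4 → K, w ≠ 0 ∧ matK g *ᵥ w = z • w := by
  haveI : CharP K 2 := charP_of_injective_algebraMap (algebraMap F K).injective 2
  obtain ⟨w, hw, he⟩ := Matrix.exists_mulVec_eq_zero_iff.2 h
  rw [Matrix.add_mulVec, Matrix.smul_mulVec, Matrix.one_mulVec] at he
  exact ⟨w, hw, funext fun i => (CharTwo.add_eq_zero.1 (congrFun he i)).symm⟩

omit [Fintype F] in
lemma exists_det_root (g : 𝔾) :
    ∃ z : K, (z • (1 : Matrix (Fin 4) (Fin 4) K) + matK g).det = 0 := by
  haveI : CharP K 2 := charP_of_injective_algebraMap (algebraMap F K).injective 2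
  obtain ⟨c, hc⟩ := Module.End.exists_eigenvalue (matK g).mulVecLin
  obtain ⟨w, hw⟩ := hc.exists_hasEigenvector
  have hw' : matK g *ᵥ w = c • w := hw.apply_eq_smul
  refine ⟨c, Matrix.exists_mulVec_eq_zero_iff.1 ⟨w, hw.2, ?_⟩⟩
  rw [Matrix.add_mulVec, Matrix.smul_mulVec, Matrix.one_mulVec, hw']
  funext i; exact CharTwo.add_self_eq_zero _

omit [Fintype F] in
lemma root_pow_orderOf {g : 𝔾} {z : K}
    (h : (z • (1 : Matrix (Fin 4) (Fin 4) K) + matK g).det = 0) : z ^ orderOf g = 1 := by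
  obtain ⟨w, hw, he⟩ := eigvec_of_det h
  refine smul_left_injective K hw ?_
  show z ^ orderOf g • w = (1 : K) • w
  rw [← matK_pow_eigen he, pow_orderOf_eq_one, matK_one, Matrix.one_mulVec, one_smul]

include P hF in
lemma orderOf_root {g : 𝔾} (hodd : Odd (orderOf g)) {z : K}
    (h : (z • (1 : Matrix (Fin 4) (Fin 4) K) + matK g).det = 0) : orderOf z = orderOf g := by
  obtain ⟨w, hw, he⟩ := eigvec_of_det h
  refine Nat.dvd_antisymm (orderOf_dvd_of_pow_eq_one (root_pow_orderOf h))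
    (orderOf_dvd_of_pow_eq_one ?_)
  refine eq_one_of_fix_K P hF (Odd.of_dvd_nat hodd (orderOf_pow_dvd _)) hw ?_
  rw [matK_pow_eigen he, pow_orderOf_eq_one, one_smul]

include P hF hm in
/-- An element of non-zero trace is semisimple. -/
lemma not_dvd_four_of_trace {g : 𝔾} (h : (mat g).trace ≠ 0) : ¬ orderOf g ∣ 4 := by
  haveI : CharP K 2 := charP_of_injective_algebraMap (algebraMap F K).injective 2
  intro h4
  obtain ⟨z, hz⟩ := exists_det_root g
  obtain ⟨j, hj⟩ := h4
  have hz4 : z ^ 4 = 1 := by rw [hj, pow_mul, root_pow_orderOf hz, one_pow]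
  have hz1 : z = 1 := by
    have e : (z + 1) ^ (2 ^ 2) = 0 := by
      haveI : ExpChar K 2 := ExpChar.prime Nat.prime_two
      rw [add_pow_expChar_pow, show 2 ^ 2 = 4 from rfl, hz4, one_pow, CharTwo.add_self_eq_zero]
    exact CharTwo.add_eq_zero.1 ((pow_eq_zero_iff (by norm_num)).1 e)
  rw [det_smul_add P hF hm, hz1] at hz
  apply h
  apply P.θ.injective
  apply (algebraMap F K).injective
  rw [map_zero, map_zero]
  have h2 : (1 : K) + 1 = 0 := CharTwo.add_self_eq_zero 1
  linear_combination hz - (1 + algebraMap F K (mat g).trace) * h2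

include P hF hm in
lemma trace_ne_zero_of_odd {g : 𝔾} (hodd : Odd (orderOf g)) (h1 : g ≠ 1) : (mat g).trace ≠ 0 := by
  haveI : CharP K 2 := charP_of_injective_algebraMap (algebraMap F K).injective 2
  haveI : ExpChar K 2 := ExpChar.prime Nat.prime_two
  intro h
  obtain ⟨z, hz⟩ := exists_det_root g
  have ho := orderOf_root P hF hodd hz
  rw [det_smul_add P hF hm, h, map_zero, map_zero] at hz
  have e : (z + 1) ^ (2 ^ 2) = 0 := by
    rw [add_pow_expChar_pow, show 2 ^ 2 = 4 from rfl, one_pow]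
    simpa using hz
  rw [CharTwo.add_eq_zero.1 ((pow_eq_zero_iff (by norm_num)).1 e), orderOf_one] at ho
  exact h1 (orderOf_eq_one_iff.1 ho.symm)

include P hF hm in
lemma orderOf_eq_of_trace {g h : 𝔾} (hg : Odd (orderOf g)) (hh : Odd (orderOf h))
    (he : (mat g).trace = (mat h).trace) : orderOf g = orderOf h := by
  obtain ⟨z, hz⟩ := exists_det_root g
  rw [← orderOf_root P hF hg hz]
  refine orderOf_root P hF hh ?_
  rw [det_smul_add P hF hm] at hz ⊢
  rw [← he]
  exact hz

include P hF hm in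
/-- Semisimple elements of the same order generate conjugate subgroups. -/
lemma exists_conj_zpowers {x y : 𝔾} (hx : ¬ orderOf x ∣ 4) (hy : ¬ orderOf y ∣ 4)
    (he : orderOf y = orderOf x) : ∃ k : 𝔾, k * y * k⁻¹ ∈ Subgroup.zpowers x := by
  classical
  have hT := oddTI P hF hm
  have h1 : ∀ g : 𝔾, ¬ orderOf g ∣ 4 → g ≠ 1 := fun g hg e => hg (by rw [e, orderOf_one]; exact one_dvd 4)
  obtain ⟨hqa, hqb⟩ := q_sub_one_coprime (m := m) hF hm
  have hab := toA_coprime_toB m
  have hd : orderOf x ≠ 1 := fun e => hx (by rw [e]; exact one_dvd 4)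
  have hdx : orderOf x ∣ Nat.card ↥(Subgroup.centralizer ({x} : Set 𝔾)) :=
    Subgroup.orderOf_dvd_natCard _ (mem_centralizer_self x)
  have hdy : orderOf x ∣ Nat.card ↥(Subgroup.centralizer ({y} : Set 𝔾)) :=
    he ▸ Subgroup.orderOf_dvd_natCard _ (mem_centralizer_self y)
  have hcard : Nat.card ↥(Subgroup.centralizer ({x} : Set 𝔾)) =
      Nat.card ↥(Subgroup.centralizer ({y} : Set 𝔾)) := by
    rcases element_cases P hF hm (h1 x hx) with h | ⟨-, hcx⟩
    · exact absurd h hx
    rcases element_cases P hF hm (h1 y hy) with h | ⟨-, hcy⟩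
    · exact absurd h hy
    have no : ∀ a b : ℕ, a.Coprime b → orderOf x ∣ a → orderOf x ∣ b → False := fun a b hc ha hb =>
      hd (Nat.eq_one_of_dvd_coprimes hc ha hb)
    rcases hcx with h | h | h <;> rcases hcy with h' | h' | h' <;> rw [h] at hdx ⊢ <;>
      rw [h'] at hdy ⊢
    · exact (no _ _ hqa hdx hdy).elim
    · exact (no _ _ hqb hdx hdy).elim
    · exact (no _ _ hqa hdy hdx).elim
    · exact (no _ _ hab hdx hdy).elim
    · exact (no _ _ hqb hdy hdx).elim
    · exact (no _ _ hab hdy hdx).elim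
  obtain ⟨k, hk⟩ : ∃ k : 𝔾, (Subgroup.centralizer ({y} : Set 𝔾)).map (MulAut.conj k).toMonoidHom =
      Subgroup.centralizer ({x} : Set 𝔾) := by
    have hfpf : ∀ g : 𝔾, FPF g → Nat.card ↥(Subgroup.centralizer ({g} : Set 𝔾)) ≠ Fintype.card F - 1 := by
      intro g hg hc
      have h5 : Nat.card ↥(Subgroup.centralizer ({g} : Set 𝔾)) ≠ 1 := fun e => hg.ne_one (by
        have := mem_centralizer_self g
        rwa [Subgroup.eq_bot_of_card_eq _ e, Subgroup.mem_bot] at this)
      rcases fpf_card P hF hm hg with h | h <;> rw [hc] at h h5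
      · exact h5 (Nat.eq_one_of_dvd_coprimes hqa dvd_rfl (h ▸ dvd_rfl))
      · exact h5 (Nat.eq_one_of_dvd_coprimes hqb dvd_rfl (h ▸ dvd_rfl))
    have hsplit : ∀ g : 𝔾, ¬ orderOf g ∣ 4 → FPF g ∨
        ∃ k : 𝔾, (Subgroup.centralizer ({g} : Set 𝔾)).map (MulAut.conj k).toMonoidHom = torus P := by
      intro g hg
      rcases trichotomy P (h1 g hg) with ⟨k, hk⟩ | ⟨k, t, ht, hk⟩ | hf
      · exact absurd (orderOf_dvd_four P hk) hg
      · exact Or.inr ⟨k, by rw [centralizer_map_conj, hk, centralizer_dEl P ht]⟩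
      · exact Or.inl hf
    have hct : ∀ (g k : 𝔾), (Subgroup.centralizer ({g} : Set 𝔾)).map (MulAut.conj k).toMonoidHom =
        torus P → Nat.card ↥(Subgroup.centralizer ({g} : Set 𝔾)) = Fintype.card F - 1 := fun g k h => by
      rw [← card_torus P, ← h,
        Subgroup.card_map_of_injective (f := (MulAut.conj k).toMonoidHom) (MulAut.conj k).injective]
    rcases hsplit x hx with hfx | ⟨kx, hkx⟩ <;> rcases hsplit y hy with hfy | ⟨ky, hky⟩
    · exact fpf_conj P hF hm hfy hfx hcard.symm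
    · exact absurd (hcard.trans (hct y ky hky)) (hfpf x hfx)
    · exact absurd (hcard.symm.trans (hct x kx hkx)) (hfpf y hfy)
    · refine ⟨kx⁻¹ * ky, Subgroup.map_injective (f := (MulAut.conj kx).toMonoidHom)
        (MulAut.conj kx).injective ?_⟩
      rw [hkx, Subgroup.map_map, ← hky]
      congr 1
      ext g
      simp [mul_assoc]
  refine ⟨k, ?_⟩
  set C := Subgroup.centralizer ({x} : Set 𝔾)
  have hyC : k * y * k⁻¹ ∈ C := hk ▸ ⟨y, mem_centralizer_self y, rfl⟩
  have hoy : orderOf (k * y * k⁻¹) = orderOf x := by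
    rw [← he]
    exact orderOf_injective (MulAut.conj k).toMonoidHom (MulAut.conj k).injective y
  haveI := hT.cyclic x hx
  haveI := Fintype.ofFinite ↥C
  let x' : ↥C := ⟨x, mem_centralizer_self x⟩
  let y' : ↥C := ⟨k * y * k⁻¹, hyC⟩
  have hox : orderOf x' = orderOf x := (Subgroup.orderOf_coe x').symm
  have hsub : (Subgroup.zpowers x' : Set ↥C) ⊆ {a | a ^ orderOf x = 1} := by
    rintro _ ⟨j, rfl⟩
    show (x' ^ j) ^ orderOf x = 1
    rw [← hox, ← zpow_natCast, ← zpow_mul, mul_comm, zpow_mul, zpow_natCast, pow_orderOf_eq_one,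
      one_zpow]
  have hle : ({a : ↥C | a ^ orderOf x = 1}).ncard ≤ (Subgroup.zpowers x' : Set ↥C).ncard := by
    rw [← Nat.card_coe_set_eq (Subgroup.zpowers x' : Set ↥C), SetLike.coe_sort_coe, Nat.card_zpowers,
      hox, show ({a : ↥C | a ^ orderOf x = 1}).ncard =
        (Finset.univ.filter fun a : ↥C => a ^ orderOf x = 1).card by
          rw [← Set.ncard_coe_finset]; congr 1; ext a; simp]
    exact IsCyclic.card_pow_eq_one_le (orderOf_pos x)
  have hy' : y' ∈ (Subgroup.zpowers x' : Set ↥C) := by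
    rw [Set.eq_of_subset_of_ncard_le hsub hle (Set.toFinite _)]
    show y' ^ orderOf x = 1
    apply Subtype.ext
    rw [Subgroup.coe_pow, ← hoy, pow_orderOf_eq_one]
    rfl
  obtain ⟨j, hj⟩ := hy'
  exact ⟨j, congrArg Subtype.val hj⟩

end CfsgLib.SuzukiGroup
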