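import Cfsg.Agent.Lib.SuzukiGroup.Group

/-!
# Characteristic polynomial of an element of a Suzuki group

`det (t + A) = t⁴ + a t³ + θ(a) t² + a t + 1` with `a` the trace of `A`.
-/

set_option autoImplicit false

open scoped MatrixGroups Matrix

namespace CfsgLib.SuzukiGroup

open Cfsg.Lie

section CommRing

variable {R : Type*} [CommRing R]

/-- sum of the principal minors of order two -/
def eTwo (A : Matrix (Fin 4) (Fin 4) R) : R :=
  (A 0 0 * A 1 1 - A 0 1 * A 1 0) + (A 0 0 * A 2 2 - A 0 2 * A 2 0) + (A 0 0 * A 3 3 - A 0 3 * A 3 0) +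
  (A 1 1 * A 2 2 - A 1 2 * A 2 1) + (A 1 1 * A 3 3 - A 1 3 * A 3 1) + (A 2 2 * A 3 3 - A 2 3 * A 3 2)

theorem det_scalar_add (A : Matrix (Fin 4) (Fin 4) R) (t : R) :
    (t • (1 : Matrix (Fin 4) (Fin 4) R) + A).det =
      t ^ 4 + A.trace * t ^ 3 + eTwo A * t ^ 2 + A.adjugate.trace * t + A.det := by
  simp [Matrix.trace, Matrix.diag, eTwo, Fin.sum_univ_four, Matrix.adjugate_fin_succ_eq_det_submatrix,
    Matrix.det_fin_three, Matrix.det_succ_row_zero, Fin.sum_univ_succ, Fin.succAbove,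
    Matrix.one_apply]
  ring

end CommRing

variable {F : Type*} [Field F] [CharP F 2]

theorem colSymp_inverse {A : Matrix (Fin 4) (Fin 4) F} (h : ColSymp A) :
    ((jMat : Matrix (Fin 4) (Fin 4) F) * Aᵀ * jMat) * A = 1 := by
  have h1 : Aᵀ * jMat * A = jMat := by
    ext i j
    have h2 := h i j
    simp only [Matrix.mul_apply, Fin.sum_univ_four, Matrix.transpose_apply, altForm4] at h2 ⊢
    fin_cases i <;> fin_cases j <;>
      simp [jMat] at h2 ⊢ <;> linear_combination h2
  calc (jMat * Aᵀ * jMat) * A = jMat * (Aᵀ * jMat * A) := by simp only [Matrix.mul_assoc]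
    _ = 1 := by rw [h1, jMat_mul_jMat]

theorem trace_adjugate {A : Matrix (Fin 4) (Fin 4) F} (h : ColSymp A) (hdet : A.det = 1) :
    A.adjugate.trace = A.trace := by
  have h1 : A.adjugate = jMat * Aᵀ * jMat := by
    calc A.adjugate = (jMat * Aᵀ * jMat * A) * A.adjugate := by rw [colSymp_inverse h, Matrix.one_mul]
      _ = jMat * Aᵀ * jMat := by rw [Matrix.mul_assoc, Matrix.mul_adjugate, hdet, one_smul, Matrix.mul_one]
  rw [h1, Matrix.trace_mul_cycle, jMat_mul_jMat, Matrix.one_mul, Matrix.trace_transpose]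

theorem eTwo_eq {θ : F →+* F} {A : Matrix (Fin 4) (Fin 4) F} (h : Rel θ A) : eTwo A = θ A.trace := by
  have hs : θ A.trace = ∑ p, star4 A p p := by
    rw [h.2]; simp [Matrix.trace]
  rw [hs]
  have c03 := h.1 0 3
  have c12 := h.1 1 2
  have r03 := row_symp h.1 0 3
  have r12 := row_symp h.1 1 2
  simp [altForm4] at c03 c12 r03 r12
  simp [eTwo, star4, Cfsg.Lie.pairOf, Fin.sum_univ_four]
  linear_combination c03 + r12 - (A 1 0 * A 2 3 + A 2 0 * A 1 3 + A 0 3 * A 3 0 + A 1 2 * A 2 1) *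
    (CharTwo.two_eq_zero (R := F)) + (1 : F) * (CharTwo.two_eq_zero (R := F))

theorem det_scalar_add_of_rel {θ : F →+* F} {A : Matrix (Fin 4) (Fin 4) F} (h : Rel θ A) (hdet : A.det = 1)
    {K : Type*} [Field K] [Algebra F K] (t : K) :
    (t • (1 : Matrix (Fin 4) (Fin 4) K) + A.map (algebraMap F K)).det =
      t ^ 4 + algebraMap F K A.trace * t ^ 3 + algebraMap F K (θ A.trace) * t ^ 2 +
        algebraMap F K A.trace * t + 1 := by
  set f := algebraMap F K with hf
  have h1 : (A.map f).trace = f A.trace := by simp [Matrix.trace]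
  have h2 : eTwo (A.map f) = f (θ A.trace) := by rw [← eTwo_eq h]; simp [eTwo]
  have h3 : (A.map f).adjugate.trace = f A.trace := by
    rw [← RingHom.mapMatrix_apply, ← RingHom.map_adjugate]
    conv_rhs => rw [← trace_adjugate h.1 hdet]
    simp [Matrix.trace]
  have h4 : (A.map f).det = 1 := by
    rw [← RingHom.mapMatrix_apply, ← RingHom.map_det, hdet, map_one]
  rw [det_scalar_add, h1, h2, h3, h4]

end CfsgLib.SuzukiGroup
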