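import Cfsg.Agent.Lib.SuzukiGroup.Structure
import Cfsg.Agent.Lib.SuzukiGroup.Eigenvalue
import Cfsg.Agent.Lib.Recog.SuzukiFixedPointFree
import Mathlib.FieldTheory.IsAlgClosed.AlgebraicClosure
import Mathlib.RingTheory.IntegralDomain
import Mathlib.LinearAlgebra.Eigenspace.Basic

/-!
# Elements of the Suzuki groups without fixed points on the ovoid

Their centralisers are cyclic of order dividing `q + r + 1` or `q - r + 1` (`r = 2^(m+1)`), with
trivial intersection and normaliser of index at most four.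
-/

set_option autoImplicit false

open scoped MatrixGroups Matrix

namespace CfsgLib.SuzukiGroup

open Cfsg.Lie

variable {F : Type*} [Field F] [Fintype F] [CharP F 2] {m : ℕ}

section arith

/-- `q + r + 1` -/
def toA (m : ℕ) : ℕ := 2 ^ (2 * m + 1) + 2 ^ (m + 1) + 1

/-- `q - r + 1` -/
def toB (m : ℕ) : ℕ := 2 ^ (2 * m + 1) - 2 ^ (m + 1) + 1

lemma r_le_q (m : ℕ) : 2 ^ (m + 1) ≤ 2 ^ (2 * m + 1) := Nat.pow_le_pow_right (by norm_num) (by omega)

lemma r_sq (m : ℕ) : (2 ^ (m + 1) * 2 ^ (m + 1) : ℕ) = 2 * 2 ^ (2 * m + 1) := by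
  rw [← pow_succ', ← pow_add]; congr 1; omega

lemma toA_mul_toB (m : ℕ) : toA m * toB m = (2 ^ (2 * m + 1)) ^ 2 + 1 := by
  have h := r_sq m
  have hle := r_le_q m
  unfold toA toB
  generalize 2 ^ (2 * m + 1) = q at h hle ⊢
  generalize 2 ^ (m + 1) = r at h hle ⊢
  zify [hle] at h ⊢
  linear_combination -h

lemma coprime_q_sq {m k : ℕ} (h : k ∣ (2 ^ (2 * m + 1)) ^ 2 + 1) : k.Coprime 2 := by
  refine Nat.Coprime.coprime_dvd_left h (Nat.coprime_two_right.2 ?_)
  exact (Even.pow_of_ne_zero (Nat.even_pow.2 ⟨even_two, by omega⟩) two_ne_zero).add_one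

end arith

variable (P : Params F (2 ^ (m + 1))) (hF : Fintype.card F = 2 ^ (2 * m + 1))

include P hF

omit [CharP F 2] P in
lemma q_coprime {d : ℕ} (hd : d ∣ Fintype.card F ^ 2 + 1) :
    d.Coprime (Fintype.card F) ∧ d.Coprime 2 := by
  rw [hF] at hd ⊢
  exact ⟨(coprime_q_sq hd).pow_right _, coprime_q_sq hd⟩

/-- An element whose order is prime to the index of the Borel subgroup has a fixed point. -/
lemma not_fpf_of_prime {h : ↥(Sz F (2 ^ (m + 1)))} {p : ℕ} (hp : p.Prime) (hh : orderOf h = p)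
    (hpd : ¬ p ∣ Fintype.card F ^ 2 + 1) : ¬ FPF h := by
  intro hfp
  haveI : Fact p.Prime := ⟨hp⟩
  have hP : IsPGroup p ↥(Subgroup.zpowers h) := IsPGroup.of_card (n := 1) (by
    rw [Nat.card_zpowers, hh, pow_one])
  obtain ⟨x, hx⟩ := hP.nonempty_fixed_point_of_prime_not_dvd_card
    (↥(Sz F (2 ^ (m + 1))) ⧸ borel (F := F) (e := 2 ^ (m + 1))) (by
      rw [← Subgroup.index_eq_card, index_borel P]; exact hpd)
  obtain ⟨k, rfl⟩ := QuotientGroup.mk_surjective x
  have h1 := hx ⟨h, Subgroup.mem_zpowers h⟩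
  change h • (QuotientGroup.mk k : ↥(Sz F (2 ^ (m + 1))) ⧸ borel (F := F) (e := 2 ^ (m + 1))) = _ at h1
  rw [MulAction.Quotient.smul_mk, smul_eq_mul, eq_comm, QuotientGroup.eq] at h1
  exact hfp k⁻¹ (by rwa [inv_inv, mul_assoc])

lemma fpf_card_dvd {g : ↥(Sz F (2 ^ (m + 1)))} (hg : FPF g) :
    Nat.card ↥(Subgroup.centralizer {g}) ∣ Fintype.card F ^ 2 + 1 := by
  have hG : Nat.card ↥(Subgroup.centralizer {g}) ∣
      Fintype.card F ^ 2 * (Fintype.card F - 1) * (Fintype.card F ^ 2 + 1) :=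
    card_sz P ▸ Subgroup.card_subgroup_dvd_card _
  refine Nat.Coprime.dvd_of_dvd_mul_left ?_ hG
  refine Nat.coprime_of_dvd fun p hp hpc hpB => ?_
  haveI : Fact p.Prime := ⟨hp⟩
  obtain ⟨h, hh⟩ := exists_prime_orderOf_dvd_card' (G := ↥(Subgroup.centralizer {g})) p hpc
  rw [← Subgroup.orderOf_coe] at hh
  have hne : (h : ↥(Sz F (2 ^ (m + 1)))) ≠ 1 := fun e => by
    rw [e, orderOf_one] at hh; exact hp.ne_one hh.symm
  refine not_fpf_of_prime P hF hp hh (fun hpd => ?_)
    (FPF.of_commute P hg (Subgroup.mem_centralizer_singleton_iff.1 h.2) hne)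
  have hq := q_coprime hF hpd
  rcases hp.dvd_mul.1 hpB with h | h
  · exact (hp.coprime_iff_not_dvd.1 hq.1) (hp.dvd_of_dvd_pow h)
  · refine (hp.coprime_iff_not_dvd.1 hq.2) ?_
    have h2 : p ∣ (Fintype.card F ^ 2 + 1) - (Fintype.card F + 1) * (Fintype.card F - 1) :=
      Nat.dvd_sub hpd (h.mul_left _)
    rwa [← Nat.sq_sub_sq, one_pow, show Fintype.card F ^ 2 + 1 - (Fintype.card F ^ 2 - 1) = 2 by
      have : 1 ≤ Fintype.card F ^ 2 := Nat.one_le_pow _ _ Fintype.card_pos
      omega] at h2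

lemma fpf_orderOf {g : ↥(Sz F (2 ^ (m + 1)))} (hg : FPF g) :
    orderOf g ∣ Fintype.card F ^ 2 + 1 :=
  (Subgroup.orderOf_dvd_natCard _ (Subgroup.mem_centralizer_singleton_iff.2 rfl)).trans (fpf_card_dvd P hF hg)

lemma det_mat (hm : 1 ≤ m) (g : ↥(Sz F (2 ^ (m + 1)))) : (mat g).det = 1 := by
  let d : ↥(Sz F (2 ^ (m + 1))) →* Fˣ := Matrix.GeneralLinearGroup.det.comp (Sz F (2 ^ (m + 1))).subtype
  have hker : commutator ↥(Sz F (2 ^ (m + 1))) ≤ d.ker := Abelianization.commutator_subset_ker d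
  rw [commutator_eq_top P (by
    rw [hF]; calc 2 = 2 ^ 1 := rfl
      _ < 2 ^ (2 * m + 1) := Nat.pow_lt_pow_right one_lt_two (by omega))] at hker
  exact congrArg Units.val (MonoidHom.mem_ker.1 (hker (Subgroup.mem_top g)))

/-- An element of odd order with eigenvalue `1` is trivial. -/
lemma eq_one_of_det {g : ↥(Sz F (2 ^ (m + 1)))} (hodd : Odd (orderOf g))
    (h : (mat g + 1).det = 0) : g = 1 := by
  obtain ⟨v, hv, hfix⟩ := Matrix.exists_mulVec_eq_zero_iff.2 h
  rw [Matrix.add_mulVec, Matrix.one_mulVec] at hfix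
  have hfix' : mat g *ᵥ v = v := by
    funext i
    exact CharTwo.add_eq_zero.1 (congrFun hfix i)
  exact Subtype.ext (CfsgLib.Recog.SuzukiFixedPointFree.eq_one_of_fixes (θ := P.θ)
    ((CfsgLib.Suzuki.mem_sz_iff P.pow_eq _).1 g.2) (by rwa [Subgroup.orderOf_coe]) hv hfix')

local notation "K" => AlgebraicClosure F

omit P hF in
/-- matrix over the algebraic closure -/
noncomputable def matK {e : ℕ} (g : ↥(Sz F e)) : Matrix (Fin 4) (Fin 4) (AlgebraicClosure F) :=
  (mat g).map (algebraMap F (AlgebraicClosure F))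

omit [Fintype F] [CharP F 2] P hF in
lemma matK_mul {e : ℕ} (g h : ↥(Sz F e)) : matK (g * h) = matK g * matK h := by
  simp only [matK, mat_mul]; exact Matrix.map_mul

omit [Fintype F] [CharP F 2] P hF in
lemma matK_one {e : ℕ} : matK (1 : ↥(Sz F e)) = 1 := by
  simp [matK]

lemma det_smul_add (hm : 1 ≤ m) (g : ↥(Sz F (2 ^ (m + 1)))) (t : K) :
    (t • (1 : Matrix (Fin 4) (Fin 4) K) + matK g).det =
      t ^ 4 + algebraMap F K (mat g).trace * t ^ 3 + algebraMap F K (P.θ (mat g).trace) * t ^ 2 +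
        algebraMap F K (mat g).trace * t + 1 :=
  det_scalar_add_of_rel (rel_mat P g) (det_mat P hF hm g) t

lemma eq_one_of_fix_K {g : ↥(Sz F (2 ^ (m + 1)))} (hodd : Odd (orderOf g)) {w : Fin 4 → K}
    (hw : w ≠ 0) (h : matK g *ᵥ w = w) : g = 1 := by
  refine eq_one_of_det P hF hodd ?_
  have h2 : (matK g + 1).det = 0 := Matrix.exists_mulVec_eq_zero_iff.1 ⟨w, hw, by
    haveI : CharP K 2 := charP_of_injective_algebraMap (algebraMap F K).injective 2
    rw [Matrix.add_mulVec, Matrix.one_mulVec, h]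
    funext i
    exact CharTwo.add_self_eq_zero _⟩
  apply (algebraMap F K).injective
  rw [map_zero, RingHom.map_det, map_add, map_one]
  exact h2

/-- The eigenvalues of an element without fixed points. -/
lemma exists_eigen (hm : 1 ≤ m) {g : ↥(Sz F (2 ^ (m + 1)))} (hg : FPF g) :
    ∃ (l : K) (w : Fin 4 → K), l ≠ 0 ∧ w ≠ 0 ∧ matK g *ᵥ w = l • w ∧ orderOf l = orderOf g := by
  haveI : CharP K 2 := charP_of_injective_algebraMap (algebraMap F K).injective 2
  obtain ⟨c, hc⟩ := Module.End.exists_eigenvalue (matK g).mulVecLin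
  obtain ⟨w, hw⟩ := hc.exists_hasEigenvector
  have hw' : matK g *ᵥ w = c • w := hw.apply_eq_smul
  have hpow : ∀ i : ℕ, matK (g ^ i) *ᵥ w = c ^ i • w := by
    intro i
    induction i with
    | zero => rw [pow_zero, pow_zero, matK_one, Matrix.one_mulVec, one_smul]
    | succ i ih =>
      rw [pow_succ g i, matK_mul, ← Matrix.mulVec_mulVec, hw', Matrix.mulVec_smul, ih, smul_smul,
        ← pow_succ' c i]
  have hinj := smul_left_injective K hw.2
  have h1 : c ^ orderOf g = 1 := by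
    refine hinj ?_
    show c ^ orderOf g • w = (1 : K) • w
    rw [← hpow, pow_orderOf_eq_one, matK_one, Matrix.one_mulVec, one_smul]
  refine ⟨c, w, fun h0 => ?_, hw.2, hw', orderOf_eq_of_pow_and_pow_div_prime (orderOf_pos g) h1
    fun p hp hpd hp1 => ?_⟩
  · rw [h0, zero_pow (orderOf_pos g).ne'] at h1
    exact zero_ne_one h1
  · have hodd : Odd (orderOf (g ^ (orderOf g / p))) := by
      refine Nat.coprime_two_right.1 (Nat.Coprime.coprime_dvd_left ?_ (q_coprime hF (fpf_orderOf P hF hg)).2)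
      exact orderOf_pow_dvd (orderOf g / p)
    have h2 := eq_one_of_fix_K P hF hodd hw.2 (by rw [hpow, hp1, one_smul])
    have hlt : orderOf g / p < orderOf g := Nat.div_lt_self (orderOf_pos g) hp.one_lt
    exact pow_ne_one_of_lt_orderOf (Nat.div_pos (Nat.le_of_dvd (orderOf_pos g) hpd) hp.pos).ne' hlt h2

omit [Fintype F] [CharP F 2] P hF in
lemma add_inv_eq {x y : K} (hx : x ≠ 0) (hy : y ≠ 0) (h : x + x⁻¹ = y + y⁻¹) : x = y ∨ x * y = 1 := by
  have h' : (x - y) * (x * y - 1) = 0 := by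
    field_simp at h
    linear_combination h
  rcases mul_eq_zero.1 h' with h | h
  · exact Or.inl (sub_eq_zero.1 h)
  · exact Or.inr (sub_eq_zero.1 h)

omit P in
lemma no_small {d : ℕ} (hd : d ∣ Fintype.card F ^ 2 + 1)
    (h : (d : ℤ) ∣ (Fintype.card F : ℤ) + 1 ∨ (d : ℤ) ∣ (Fintype.card F : ℤ) - 1) : d = 1 := by
  have hd' : (d : ℤ) ∣ (Fintype.card F : ℤ) ^ 2 + 1 := by exact_mod_cast hd
  have h2 : (d : ℤ) ∣ 2 := by
    have hk : (d : ℤ) ∣ ((Fintype.card F : ℤ) + 1) * ((Fintype.card F : ℤ) - 1) := by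
      rcases h with h | h
      · exact h.mul_right _
      · exact h.mul_left _
    have := dvd_sub hd' hk
    ring_nf at this
    exact this
  exact Nat.eq_one_of_dvd_coprimes (q_coprime hF hd).2 dvd_rfl (Int.natCast_dvd_natCast.1 (by exact_mod_cast h2))

omit [Fintype F] [CharP F 2] P hF in
lemma dvd_of_zpow {l : K} (hl0 : l ≠ 0) {k : ℤ} (hk : l ^ k = 1) : (orderOf l : ℤ) ∣ k := by
  let u : Kˣ := Units.mk0 l hl0
  have hu : orderOf u = orderOf l := (orderOf_units (y := u)).symm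
  rw [← hu, orderOf_dvd_iff_zpow_eq_one]
  exact Units.ext (by simpa [u] using hk)

lemma orderOf_dvd_toA_or (hm : 1 ≤ m) {g : ↥(Sz F (2 ^ (m + 1)))} (hg : FPF g) :
    orderOf g ∣ toA m ∨ orderOf g ∣ toB m := by
  haveI : CharP K 2 := charP_of_injective_algebraMap (algebraMap F K).injective 2
  haveI : Fact (Nat.Prime 2) := ⟨Nat.prime_two⟩
  haveI : ExpChar K 2 := ExpChar.prime Nat.prime_two
  obtain ⟨l, w, hl0, hw, hgw, hord⟩ := exists_eigen P hF hm hg
  set d := orderOf g with hd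
  have hdq : d ∣ Fintype.card F ^ 2 + 1 := fpf_orderOf P hF hg
  set f := algebraMap F K with hf
  set a := f (mat g).trace with ha
  set b := f (P.θ (mat g).trace) with hb
  have h0 : (l • (1 : Matrix (Fin 4) (Fin 4) K) + matK g).det = 0 :=
    Matrix.exists_mulVec_eq_zero_iff.1 ⟨w, hw, by
      rw [Matrix.add_mulVec, Matrix.smul_mulVec, Matrix.one_mulVec, hgw]
      funext i; exact CharTwo.add_self_eq_zero _⟩
  rw [det_smul_add P hF hm g l] at h0
  -- the two trace equations
  set σ : K →+* K := iterateFrobenius K 2 (2 * m + 1) with hσ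
  have hσdef : ∀ x : K, σ x = x ^ Fintype.card F := fun x => by rw [hσ, iterateFrobenius_def, hF]
  have hσf : ∀ x : F, σ (f x) = f x := fun x => by rw [hσdef, ← map_pow, FiniteField.pow_card]
  set τ : K →+* K := iterateFrobenius K 2 (m + 1) with hτ
  have hτdef : ∀ x : K, τ x = x ^ 2 ^ (m + 1) := fun x => by rw [hτ, iterateFrobenius_def]
  have hτf : ∀ x : F, τ (f x) = f (P.θ x) := fun x => by rw [hτdef, P.pow_eq, map_pow]
  set s := l + l⁻¹ with hs
  set s' := σ s with hs'
  have hq : s ^ 2 + a * s + b = 0 := by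
    have hexp : (l ^ 2) * (s ^ 2 + a * s + b) = l ^ 4 + a * l ^ 3 + b * l ^ 2 + a * l + 1 + 2 * l ^ 2 := by
      rw [hs]; field_simp; ring
    rw [h0, CharTwo.two_eq_zero (R := K), zero_mul, zero_add] at hexp
    exact (mul_eq_zero.1 hexp).resolve_left (pow_ne_zero _ hl0)
  have hq' : s' ^ 2 + a * s' + b = 0 := by
    have := congrArg σ hq
    rwa [map_add, map_add, map_pow, map_mul, hσf, hσf, map_zero] at this
  have hd1 : d ≠ 1 := fun h => hg.ne_one (orderOf_eq_one_iff.1 h)
  have hzp : ∀ k : ℤ, l ^ k = 1 → (d : ℤ) ∣ k := by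
    intro k hk
    exact hord ▸ dvd_of_zpow hl0 hk
  have hne : s' ≠ s := by
    intro h
    rw [hs', hs, map_add, map_inv₀, hσdef] at h
    refine hd1 (no_small hF hdq ?_)
    rcases add_inv_eq (pow_ne_zero _ hl0) hl0 h with h | h
    · refine Or.inr (hzp _ ?_)
      rw [zpow_sub₀ hl0, zpow_natCast, zpow_one, h, div_self hl0]
    · refine Or.inl (hzp _ ?_)
      rw [zpow_add₀ hl0, zpow_natCast, zpow_one, h]
  have hsum : s + s' = a := by
    have : (s' - s) * (s' + s + a) = 0 := by linear_combination hq' - hq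
    have := (mul_eq_zero.1 this).resolve_left (sub_ne_zero.2 hne)
    linear_combination this + (-a) * (CharTwo.two_eq_zero (R := K))
  have hprod : s * s' = b := by
    linear_combination (norm := ring_nf) hq
    rw [← hsum]
    ring_nf
    simp [CharTwo.two_eq_zero]
  set u := l * σ l with hu
  have hu0 : u ≠ 0 := mul_ne_zero hl0 (by simpa using hl0)
  have hσσ : σ (σ l) = l⁻¹ := by
    rw [hσdef, hσdef, ← pow_mul, ← pow_two]
    refine eq_inv_of_mul_eq_one_left ?_
    rw [← pow_succ]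
    exact orderOf_dvd_iff_pow_eq_one.1 (hord.symm ▸ hdq)
  have hσu : σ u = σ l * l⁻¹ := by rw [hu, map_mul, hσσ]
  set t := u + u⁻¹ with ht
  set x := τ l with hx
  have hx0 : x ≠ 0 := by simpa [hx] using hl0
  have e1 : t + σ t = b := by
    rw [← hprod, ht, hs', hs, map_add, map_add, map_inv₀, map_inv₀, hσu, hu, mul_inv, mul_inv, inv_inv]
    ring
  have e2 : t * σ t = a * a := by
    have hσl : σ l ≠ 0 := by simpa using hl0
    rw [← hsum, ← pow_two (s + s'), CharTwo.add_sq, hs', hs, ht, map_add, map_add, map_inv₀, map_inv₀,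
      hσu, hu, CharTwo.add_sq, CharTwo.add_sq]
    field_simp
    ring
  have e3 : τ s + σ (τ s) = b := by
    have hcomm : σ (τ s) = τ (σ s) := by rw [hσdef, hσdef, map_pow]
    rw [hcomm, ← map_add, ← hs', hsum, hb, ha, hτf]
  have e4 : τ s * σ (τ s) = a * a := by
    have hcomm : σ (τ s) = τ (σ s) := by rw [hσdef, hσdef, map_pow]
    rw [hcomm, ← map_mul, ← hs', hprod, hb, hτf, P.sq, ha, map_pow, sq]
  have key : (t - τ s) * (t - σ (τ s)) = 0 := by
    linear_combination e4 - e2 + t * (e1 - e3)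
  have hτs : τ s = x + x⁻¹ := by rw [hs, map_add, map_inv₀, hx]
  have hA : (toA m : ℤ) = (Fintype.card F : ℤ) + 1 + (2 : ℤ) ^ (m + 1) := by
    rw [hF, toA]; push_cast; ring
  have hB : (toB m : ℤ) = (Fintype.card F : ℤ) + 1 - (2 : ℤ) ^ (m + 1) := by
    rw [hF, toB]; push_cast [r_le_q]; ring
  have hlu : u = l ^ ((Fintype.card F : ℤ) + 1) := by
    rw [hu, hσdef, zpow_add₀ hl0, zpow_natCast, zpow_one, mul_comm]
  have hlx : x = l ^ ((2 : ℤ) ^ (m + 1)) := by
    rw [hx, hτdef, ← zpow_natCast]; push_cast; rfl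
  have hlσx : σ x = l ^ ((2 : ℤ) ^ (m + 1) * (Fintype.card F : ℤ)) := by
    rw [hσdef, hlx, zpow_mul, zpow_natCast]
  have hbad : ∀ ε : ℤ, ε * ε = 1 →
      l ^ ((Fintype.card F : ℤ) + 1 + ε * ((2 : ℤ) ^ (m + 1) * (Fintype.card F : ℤ))) = 1 → False := by
    intro ε hε hl
    apply hd1
    have h1 := hzp _ hl
    have hd' : (d : ℤ) ∣ (Fintype.card F : ℤ) ^ 2 + 1 := by exact_mod_cast hdq
    have hr : ((2 : ℤ) ^ (m + 1)) ^ 2 = 2 * (Fintype.card F : ℤ) := by
      rw [hF]; push_cast; rw [← pow_mul, ← pow_succ']; congr 1; ring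
    set q := (Fintype.card F : ℤ)
    set r := (2 : ℤ) ^ (m + 1)
    have h4 : (d : ℤ) ∣ 4 * q := by
      have h7 := dvd_sub (h1.mul_right q) (hd'.mul_right (1 + ε * r))
      have e7 : (q + 1 + ε * (r * q)) * q - (q ^ 2 + 1) * (1 + ε * r) = q - 1 - ε * r := by ring
      rw [e7] at h7
      have h9 := dvd_sub hd' (h7.mul_right (q - 1 + ε * r))
      have e9 : q ^ 2 + 1 - (q - 1 - ε * r) * (q - 1 + ε * r) = 4 * q := by
        linear_combination r ^ 2 * hε + hr
      rwa [e9] at h9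
    have h4' : d ∣ 4 * Fintype.card F := Int.natCast_dvd_natCast.1 (by push_cast; exact h4)
    refine Nat.Coprime.eq_one_of_dvd ?_ h4'
    exact (show (4 : ℕ) = 2 * 2 from rfl) ▸
      (((q_coprime hF hdq).2.mul_right (q_coprime hF hdq).2).mul_right (q_coprime hF hdq).1)
  rcases mul_eq_zero.1 key with h | h <;> rw [sub_eq_zero, hτs] at h
  · rcases add_inv_eq hu0 hx0 h with h | h
    · refine Or.inr (Int.natCast_dvd_natCast.1 (hB ▸ hzp _ ?_))
      rw [zpow_sub₀ hl0, ← hlu, ← hlx, h, div_self hx0]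
    · refine Or.inl (Int.natCast_dvd_natCast.1 (hA ▸ hzp _ ?_))
      rw [zpow_add₀ hl0, ← hlu, ← hlx, h]
  · rw [map_add, map_inv₀] at h
    exfalso
    rcases add_inv_eq hu0 (by simpa using hx0) h with h | h
    · refine hbad (-1) (by norm_num) ?_
      rw [neg_one_mul, ← sub_eq_add_neg, zpow_sub₀ hl0, ← hlu, ← hlσx, h, div_self (by simpa using hx0)]
    · refine hbad 1 (by norm_num) ?_
      rw [one_mul, zpow_add₀ hl0, ← hlu, ← hlσx, h]

lemma eigen_unique (hm : 1 ≤ m) {g : ↥(Sz F (2 ^ (m + 1)))} (hg : FPF g) {l : K} {w v : Fin 4 → K}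
    (hord : orderOf l = orderOf g) (hw : w ≠ 0) (hgw : matK g *ᵥ w = l • w) (hgv : matK g *ᵥ v = l • v) :
    ∃ c : K, v = c • w := by
  haveI : CharP K 2 := charP_of_injective_algebraMap (algebraMap F K).injective 2
  haveI : Fact (Nat.Prime 2) := ⟨Nat.prime_two⟩
  haveI : ExpChar K 2 := ExpChar.prime Nat.prime_two
  set σ : ℕ → (K →+* K) := fun i => iterateFrobenius K 2 ((2 * m + 1) * i) with hσ
  have hσdef : ∀ i (x : K), σ i x = x ^ Fintype.card F ^ i := fun i x => by
    rw [hσ, iterateFrobenius_def, hF, ← pow_mul]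
  have hσf : ∀ i (x : F), σ i (algebraMap F K x) = algebraMap F K x := fun i x => by
    rw [hσdef, ← map_pow, FiniteField.pow_card_pow]
  let μ : Fin 4 → K := fun i => l ^ Fintype.card F ^ (i : ℕ)
  let ws : Fin 4 → (Fin 4 → K) := fun i j => σ i (w j)
  have hdq := fpf_orderOf P hF hg
  have hd1 : orderOf g ≠ 1 := fun h => hg.ne_one (orderOf_eq_one_iff.1 h)
  have hμ : Function.Injective μ := by
    have key : ∀ i j : Fin 4, (i : ℕ) < j → μ i ≠ μ j := by
      intro i j hij h
      apply hd1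
      have hl0 : l ≠ 0 := fun h0 => by
        rw [h0, orderOf_zero] at hord
        exact (orderOf_pos g).ne hord
      have h' : (orderOf g : ℤ) ∣ (Fintype.card F : ℤ) ^ (i : ℕ) - (Fintype.card F : ℤ) ^ (j : ℕ) := by
        rw [← hord]
        refine dvd_of_zpow hl0 ?_
        rw [zpow_sub₀ hl0, ← Nat.cast_pow, ← Nat.cast_pow, zpow_natCast, zpow_natCast]
        exact (div_eq_one_iff_eq (pow_ne_zero _ hl0)).2 h
      have hd' : (orderOf g : ℤ) ∣ (Fintype.card F : ℤ) ^ 2 + 1 := by exact_mod_cast hdq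
      set q := (Fintype.card F : ℤ)
      set d := (orderOf g : ℤ)
      have hcop : IsCoprime d (q ^ (i : ℕ)) :=
        (Int.isCoprime_iff_nat_coprime.2 (by simpa [d, q] using (q_coprime hF hdq).1)).pow_right
      have h2 : d ∣ q ^ (i : ℕ) * (q ^ ((j : ℕ) - i) - 1) := by
        have e0 : q ^ (i : ℕ) * (q ^ ((j : ℕ) - i) - 1) = -(q ^ (i : ℕ) - q ^ (j : ℕ)) := by
          rw [mul_sub, ← pow_add, Nat.add_sub_cancel' hij.le, mul_one]; ring
        rw [e0]; exact h'.neg_right
      have h3 := hcop.dvd_of_dvd_mul_left h2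
      have hk : (j : ℕ) - i = 1 ∨ (j : ℕ) - i = 2 ∨ (j : ℕ) - i = 3 := by omega
      rcases hk with hk | hk | hk <;> rw [hk] at h3
      · exact no_small hF hdq (Or.inr (by simpa using h3))
      · refine Nat.eq_one_of_dvd_coprimes (q_coprime hF hdq).2 dvd_rfl (Int.natCast_dvd_natCast.1 ?_)
        have := dvd_sub hd' h3
        rw [show q ^ 2 + 1 - (q ^ 2 - 1) = (2 : ℤ) by ring] at this
        simpa [d] using this
      · refine no_small hF hdq (Or.inl ?_)
        have := dvd_sub (hd'.mul_right q) h3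
        rwa [show (q ^ 2 + 1) * q - (q ^ 3 - 1) = q + 1 by ring] at this
    intro i j h
    rcases lt_trichotomy (i : ℕ) j with hlt | he | hlt
    · exact absurd h (key i j hlt)
    · exact Fin.ext he
    · exact absurd h.symm (key j i hlt)
  have hws : ∀ i, Module.End.HasEigenvector (matK g).mulVecLin (μ i) (ws i) := by
    intro i
    refine ⟨Module.End.mem_eigenspace_iff.2 ?_, fun h => hw (funext fun j => ?_)⟩
    · funext j
      have := congrArg (σ i) (congrFun hgw j)
      simp only [Matrix.mulVecLin_apply, Matrix.mulVec, dotProduct, Pi.smul_apply, smul_eq_mul,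
        map_sum, map_mul, matK, Matrix.map_apply, hσf] at this ⊢
      rw [this, hσdef]
    · exact (σ i).injective ((congrFun h j).trans (map_zero _).symm)
  have hli := Module.End.eigenvectors_linearIndependent' (matK g).mulVecLin μ hμ ws hws
  have hspan := hli.span_eq_top_of_card_eq_finrank (by simp)
  obtain ⟨c, hc⟩ := (Submodule.mem_span_range_iff_exists_fun K).1 (hspan ▸ Submodule.mem_top (x := v))
  have h0 : ∑ i, (c i * (μ i - l)) • ws i = 0 := by
    have e1 : (matK g).mulVecLin v = ∑ i, (c i * μ i) • ws i := by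
      rw [← hc, map_sum]
      exact Finset.sum_congr rfl fun i _ => by rw [map_smul, (hws i).apply_eq_smul, smul_smul]
    have e2 : (matK g).mulVecLin v = l • v := hgv
    rw [e1, ← hc, Finset.smul_sum] at e2
    simp only [mul_sub, sub_smul, Finset.sum_sub_distrib, smul_smul] at e2 ⊢
    rw [e2, sub_eq_zero]
    exact Finset.sum_congr rfl fun i _ => by rw [mul_comm]
  have hcoef := Fintype.linearIndependent_iff.1 hli _ h0
  refine ⟨c 0, ?_⟩
  have h00 : ws 0 = w := funext fun j => by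
    show σ ((0 : Fin 4) : ℕ) (w j) = w j
    rw [hσdef]; simp
  rw [← hc, Finset.sum_eq_single 0 (fun i _ hi => ?_) (fun h => absurd (Finset.mem_univ _) h), h00]
  have hne : μ i - l ≠ 0 := sub_ne_zero.2 fun h => hi (hμ (by rw [h]; simp [μ]))
  rw [(mul_eq_zero.1 (hcoef i)).resolve_right hne, zero_smul]

/-- A character of the centraliser, with the corresponding eigenvalue equation. -/
lemma exists_char (hm : 1 ≤ m) {g : ↥(Sz F (2 ^ (m + 1)))} (hg : FPF g) :
    ∃ (χ : ↥(Subgroup.centralizer {g}) →* K), Function.Injective χ ∧ ∀ x,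
      (χ x • (1 : Matrix (Fin 4) (Fin 4) K) + matK (x : ↥(Sz F (2 ^ (m + 1))))).det = 0 := by
  haveI : CharP K 2 := charP_of_injective_algebraMap (algebraMap F K).injective 2
  obtain ⟨l, w, -, hw, hgw, hord⟩ := exists_eigen P hF hm hg
  have hex : ∀ x : ↥(Subgroup.centralizer {g}), ∃ c : K, matK (x : ↥(Sz F (2 ^ (m + 1)))) *ᵥ w = c • w := by
    intro x
    refine eigen_unique P hF hm hg hord hw hgw ?_
    rw [Matrix.mulVec_mulVec, ← matK_mul, ← Subgroup.mem_centralizer_singleton_iff.1 x.2, matK_mul,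
      ← Matrix.mulVec_mulVec, hgw, Matrix.mulVec_smul]
  choose c hc using hex
  have hinj : ∀ {s t : K}, s • w = t • w → s = t := fun {s t} h => smul_left_injective K hw h
  refine ⟨{ toFun := c
            map_one' := hinj (by
              rw [← hc, one_smul, OneMemClass.coe_one, matK_one, Matrix.one_mulVec])
            map_mul' := fun x y => hinj (by
              rw [← hc, Subgroup.coe_mul, matK_mul, ← Matrix.mulVec_mulVec, hc, Matrix.mulVec_smul, hc,
                smul_smul, mul_comm]) }, ?_, fun x => ?_⟩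
  · refine (injective_iff_map_eq_one _).2 fun x hx => ?_
    have hx' : c x = 1 := hx
    have hodd : Odd (orderOf (x : ↥(Sz F (2 ^ (m + 1))))) := by
      refine Nat.coprime_two_right.1 (Nat.Coprime.coprime_dvd_left ?_ (q_coprime hF (fpf_card_dvd P hF hg)).2)
      exact Subgroup.orderOf_dvd_natCard _ x.2
    exact Subtype.ext (eq_one_of_fix_K P hF hodd hw (by rw [hc x, hx', one_smul]))
  · refine Matrix.exists_mulVec_eq_zero_iff.1 ⟨w, hw, ?_⟩
    show (c x • (1 : Matrix (Fin 4) (Fin 4) K) + _) *ᵥ w = 0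
    rw [Matrix.add_mulVec, Matrix.smul_mulVec, Matrix.one_mulVec, hc x]
    funext i; exact CharTwo.add_self_eq_zero _

lemma fpf_isCyclic (hm : 1 ≤ m) {g : ↥(Sz F (2 ^ (m + 1)))} (hg : FPF g) :
    IsCyclic ↥(Subgroup.centralizer {g}) := by
  obtain ⟨χ, hχ, -⟩ := exists_char P hF hm hg
  exact isCyclic_of_subgroup_isDomain χ hχ

lemma fpf_centralizer_eq (hm : 1 ≤ m) {g h : ↥(Sz F (2 ^ (m + 1)))} (hg : FPF g)
    (hh : h ∈ Subgroup.centralizer {g}) (h1 : h ≠ 1) :
    Subgroup.centralizer {h} = Subgroup.centralizer {g} := by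
  have hc := Subgroup.mem_centralizer_singleton_iff.1 hh
  have hfh : FPF h := FPF.of_commute P hg hc h1
  have comm : ∀ {u v w : ↥(Sz F (2 ^ (m + 1)))}, FPF w → u ∈ Subgroup.centralizer {w} →
      v ∈ Subgroup.centralizer {w} → u * v = v * u := by
    intro u v w hw hu hv
    haveI := fpf_isCyclic P hF hm hw
    exact congrArg Subtype.val
      ((IsCyclic.commGroup (α := ↥(Subgroup.centralizer {w}))).mul_comm ⟨u, hu⟩ ⟨v, hv⟩)
  refine le_antisymm (fun x hx => ?_) (fun x hx => ?_)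
  · exact Subgroup.mem_centralizer_singleton_iff.2
      (comm hfh hx (Subgroup.mem_centralizer_singleton_iff.2 hc.symm))
  · exact Subgroup.mem_centralizer_singleton_iff.2 (comm hg hx hh)

lemma fpf_card_dvd_toA_or (hm : 1 ≤ m) {g : ↥(Sz F (2 ^ (m + 1)))} (hg : FPF g) :
    Nat.card ↥(Subgroup.centralizer {g}) ∣ toA m ∨ Nat.card ↥(Subgroup.centralizer {g}) ∣ toB m := by
  haveI := fpf_isCyclic P hF hm hg
  obtain ⟨h, hh⟩ := IsCyclic.exists_ofOrder_eq_natCard (α := ↥(Subgroup.centralizer {g}))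
  rw [← hh, ← Subgroup.orderOf_coe]
  have h1 : (h : ↥(Sz F (2 ^ (m + 1)))) ≠ 1 := by
    intro h1
    rw [← Subgroup.orderOf_coe, h1, orderOf_one] at hh
    have hmem : g ∈ Subgroup.centralizer {g} := Subgroup.mem_centralizer_singleton_iff.2 rfl
    rw [(Subgroup.eq_bot_of_card_eq _ hh.symm), Subgroup.mem_bot] at hmem
    exact hg.ne_one hmem
  exact orderOf_dvd_toA_or P hF hm (FPF.of_commute P hg (Subgroup.mem_centralizer_singleton_iff.1 h.2) h1)

/-- The normaliser of the centraliser has index at most four over it. -/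
lemma fpf_card_normalizer_le (hm : 1 ≤ m) {g : ↥(Sz F (2 ^ (m + 1)))} (hg : FPF g) :
    Nat.card ↥(Subgroup.normalizer (Subgroup.centralizer {g} : Set ↥(Sz F (2 ^ (m + 1))))) ≤
      4 * Nat.card ↥(Subgroup.centralizer {g}) := by
  classical
  set C := Subgroup.centralizer {g}
  set N := Subgroup.normalizer (C : Set ↥(Sz F (2 ^ (m + 1))))
  obtain ⟨χ, hχ, hroot⟩ := exists_char P hF hm hg
  have hgC : g ∈ C := Subgroup.mem_centralizer_singleton_iff.2 rfl
  have hmem : ∀ x : N, (x : ↥(Sz F (2 ^ (m + 1)))) * g * (x : ↥(Sz F (2 ^ (m + 1))))⁻¹ ∈ C := fun x =>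
    (Subgroup.mem_normalizer_iff.1 x.2 g).1 hgC
  let φ : N → K := fun x => χ ⟨_, hmem x⟩
  let p : Polynomial K := Polynomial.X ^ 4 + Polynomial.C (algebraMap F K (mat g).trace) * Polynomial.X ^ 3 +
    Polynomial.C (algebraMap F K (P.θ (mat g).trace)) * Polynomial.X ^ 2 +
    Polynomial.C (algebraMap F K (mat g).trace) * Polynomial.X + 1
  have hdeg : p.natDegree = 4 := by
    simp only [p]; compute_degree!
  have hp0 : p ≠ 0 := fun h => by rw [h, Polynomial.natDegree_zero] at hdeg; omega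
  have hφ : ∀ x, φ x ∈ p.roots.toFinset := by
    intro x
    rw [Multiset.mem_toFinset, Polynomial.mem_roots hp0, Polynomial.IsRoot]
    have h := hroot ⟨_, hmem x⟩
    set xx : ↥(Sz F (2 ^ (m + 1))) := (x : ↥(Sz F (2 ^ (m + 1)))) with hxx
    have h2 : φ x • (1 : Matrix (Fin 4) (Fin 4) K) + matK (xx * g * xx⁻¹) =
        matK xx * (φ x • (1 : Matrix (Fin 4) (Fin 4) K) + matK g) * matK xx⁻¹ := by
      have hxi : matK xx * matK xx⁻¹ = 1 := by rw [← matK_mul, mul_inv_cancel, matK_one]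
      rw [Matrix.mul_add, Matrix.add_mul, matK_mul, matK_mul, Matrix.mul_smul, Matrix.smul_mul,
        Matrix.mul_one, hxi]
    have h3 : (matK xx).det * (matK xx⁻¹).det = 1 := by
      rw [← Matrix.det_mul, ← matK_mul, mul_inv_cancel, matK_one, Matrix.det_one]
    change (φ x • (1 : Matrix (Fin 4) (Fin 4) K) + matK (xx * g * xx⁻¹)).det = 0 at h
    rw [h2, Matrix.det_mul, Matrix.det_mul] at h
    have h4 : (φ x • (1 : Matrix (Fin 4) (Fin 4) K) + matK g).det = 0 := by
      rw [mul_right_comm, h3, one_mul] at h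
      exact h
    rw [det_smul_add P hF hm] at h4
    simpa [p] using h4
  have hfib : ∀ c ∈ p.roots.toFinset,
      (Finset.univ.filter fun x : N => φ x = c).card ≤ Nat.card ↥C := by
    intro c _
    rcases (Finset.univ.filter fun x : N => φ x = c).eq_empty_or_nonempty with h | ⟨x₀, hx₀⟩
    · simp [h]
    rw [Nat.card_eq_fintype_card, ← Finset.card_univ]
    have hmap : ∀ x ∈ Finset.univ.filter (fun x : N => φ x = c),
        (x₀ : ↥(Sz F (2 ^ (m + 1))))⁻¹ * (x : ↥(Sz F (2 ^ (m + 1)))) ∈ C := by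
      intro x hx
      have he : φ x = φ x₀ := ((Finset.mem_filter.1 hx).2).trans (Finset.mem_filter.1 hx₀).2.symm
      have he' := congrArg Subtype.val (hχ (show χ ⟨_, hmem x⟩ = χ ⟨_, hmem x₀⟩ from he))
      simp only at he'
      rw [Subgroup.mem_centralizer_singleton_iff]
      calc (x₀ : ↥(Sz F (2 ^ (m + 1))))⁻¹ * x * g =
          (x₀ : ↥(Sz F (2 ^ (m + 1))))⁻¹ * ((x : ↥(Sz F (2 ^ (m + 1)))) * g * (x : ↥(Sz F (2 ^ (m + 1))))⁻¹) * x := by group
        _ = g * ((x₀ : ↥(Sz F (2 ^ (m + 1))))⁻¹ * x) := by rw [he']; group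
    refine Finset.card_le_card_of_injOn (fun x => if h : _ then ⟨_, hmap x h⟩ else ⟨1, one_mem C⟩)
      (fun x _ => Finset.mem_coe.2 (Finset.mem_univ _)) ?_
    intro x hx y hy hxy
    simp only [Finset.coe_filter, Set.mem_ofPred_eq] at hx hy
    have hx' : x ∈ Finset.univ.filter (fun x : N => φ x = c) := Finset.mem_filter.2 hx
    have hy' : y ∈ Finset.univ.filter (fun x : N => φ x = c) := Finset.mem_filter.2 hy
    simp only [dif_pos hx', dif_pos hy'] at hxy
    exact Subtype.ext (mul_left_cancel (congrArg Subtype.val hxy))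
  have hroots : p.roots.toFinset.card ≤ 4 :=
    (Multiset.toFinset_card_le _).trans (hdeg ▸ p.card_roots')
  calc Nat.card ↥N = (Finset.univ : Finset N).card := by rw [Nat.card_eq_fintype_card, Finset.card_univ]
    _ ≤ Nat.card ↥C * p.roots.toFinset.card := by
        refine Finset.card_le_mul_card_image_of_maps_to (f := φ) (fun x _ => hφ x) _ hfib
    _ ≤ 4 * Nat.card ↥C := by rw [mul_comm 4]; exact Nat.mul_le_mul_left _ hroots

end CfsgLib.SuzukiGroup
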