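import Cfsg.Agent.Lib.SuzukiGroup.Automorphisms
import Cfsg.Agent.Lib.SuzukiGroup.Tori

/-!
# Subgroups of the Suzuki groups which can be point stabilisers of fixity two

If every non-trivial element of `H` fixes at most two cosets, then each subgroup `N` fusing an element
`x ∈ H` only into `H` meets `H` in index at most two; this forces `H` to be a Borel subgroup or a torus.
-/

set_option autoImplicit false

open scoped MatrixGroups Matrix

namespace CfsgLib.SuzukiGroup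

open Cfsg.Lie

section generic

variable {G : Type*} [Group G]

/-- The consequence of fixity two for a point stabiliser. -/
def HalfFusion (H : Subgroup G) : Prop :=
  ∀ x ∈ H, x ≠ 1 → ∀ N : Subgroup G, (∀ n ∈ N, n⁻¹ * x * n ∈ H) → H.relIndex N ≤ 2

theorem HalfFusion.map {H : Subgroup G} (h : HalfFusion H) (k : G) :
    HalfFusion (H.map (MulAut.conj k).toMonoidHom) := by
  set f := (MulAut.conj k).toMonoidHom with hf
  rintro _ ⟨x, hx, rfl⟩ h1 N hN
  have hinj : Function.Injective f := (MulAut.conj k).injective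
  have hN' : (N.comap f).map f = N :=
    Subgroup.map_comap_eq_self_of_surjective (MulAut.conj k).surjective N
  rw [← hN', Subgroup.relIndex_map_map_of_injective _ _ hinj]
  refine h x hx (fun e => h1 (by rw [e, map_one])) _ fun n hn => ?_
  obtain ⟨y, hy, hxy⟩ := hN (f n) hn
  rw [← map_inv, ← map_mul, ← map_mul] at hxy
  exact hinj hxy ▸ hy

theorem sq_mem_of_relIndex_le [Finite G] {H N : Subgroup G} (h : H.relIndex N ≤ 2) {n : G}
    (hn : n ∈ N) : n * n ∈ H := by
  have h0 : H.relIndex N ≠ 0 := Subgroup.index_ne_zero_of_finite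
  obtain h1 | h2 : H.relIndex N = 1 ∨ H.relIndex N = 2 := by omega
  · exact mul_mem (Subgroup.relIndex_eq_one.1 h1 hn) (Subgroup.relIndex_eq_one.1 h1 hn)
  · exact Subgroup.mul_self_mem_of_index_two (show (H.subgroupOf N).index = 2 from h2) ⟨n, hn⟩

theorem comm_mem_of_relIndex_le [Finite G] {H N : Subgroup G} (h : H.relIndex N ≤ 2) {a b : G}
    (ha : a ∈ N) (hb : b ∈ N) : a * b * a⁻¹ * b⁻¹ ∈ H := by
  have h0 : H.relIndex N ≠ 0 := Subgroup.index_ne_zero_of_finite
  obtain h1 | h2 : H.relIndex N = 1 ∨ H.relIndex N = 2 := by omega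
  · exact Subgroup.relIndex_eq_one.1 h1
      (mul_mem (mul_mem (mul_mem ha hb) (inv_mem ha)) (inv_mem hb))
  · have h2' : (H.subgroupOf N).index = 2 := h2
    have hm : ∀ x y : ↥N, x * y * x⁻¹ * y⁻¹ ∈ H.subgroupOf N := fun x y => by
      simp only [Subgroup.mul_mem_iff_of_index_two h2', Subgroup.inv_mem_iff]
      tauto
    exact hm ⟨a, ha⟩ ⟨b, hb⟩

theorem mem_of_sq_of_odd {H N : Subgroup G} (hsq : ∀ n ∈ N, n * n ∈ H) {n : G} (hn : n ∈ N)
    (ho : Odd (orderOf n)) : n ∈ H := by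
  obtain ⟨i, hi⟩ := ho
  have e : n = n ^ (i + 1) * n ^ (i + 1) := by
    rw [← pow_add, show i + 1 + (i + 1) = orderOf n + 1 by omega, pow_succ, pow_orderOf_eq_one,
      one_mul]
  exact e ▸ hsq _ (pow_mem hn _)

end generic

variable {F : Type*} [Field F] [Fintype F] [CharP F 2] {m : ℕ}
  (P : Params F (2 ^ (m + 1))) (hF : Fintype.card F = 2 ^ (2 * m + 1)) (hm : 1 ≤ m)

set_option quotPrecheck false
local notation "𝔾" => ↥(Sz F (2 ^ (m + 1)))

include hF hm in
/-- A stabiliser containing a non-trivial unipotent element contains the Borel subgroup. -/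
lemma borel_le_of_unip {H : Subgroup 𝔾} (hH : HalfFusion H) {u : 𝔾} (hu : u ∈ unip P) (huH : u ∈ H)
    (h1 : u ≠ 1) : borel (F := F) (e := 2 ^ (m + 1)) ≤ H := by
  obtain ⟨b, hb, hbH⟩ : ∃ b : F, b ≠ 0 ∧ uEl P 0 b ∈ H := by
    rcases unip_cases P hu h1 with ⟨-, b, hb, rfl⟩ | ⟨-, a, b, ha, rfl⟩
    · exact ⟨b, hb, huH⟩
    · exact ⟨a * P.θ a, mul_ne_zero ha (by simpa using ha), uEl_sq P a b ▸ pow_mem huH 2⟩
  have hne : uEl P 0 b ≠ 1 := fun h => hb ((uEl_eq_one P).1 h).2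
  have hC := hH _ hbH hne (unip P) (by
    rintro _ ⟨c, d, rfl⟩
    rw [mul_assoc, (uEl_comm_iff P 0 b c d).2 (by simp), inv_mul_cancel_left]
    exact hbH)
  have hQs : Function.Surjective fun a : F => a * P.θ a :=
    Finite.injective_iff_surjective.1 fun a b h => theta_mul_inj P h
  have hZ : ∀ c, uEl P 0 c ∈ H := by
    intro c
    obtain ⟨a, rfl⟩ := hQs c
    show uEl P 0 (a * P.θ a) ∈ H
    rw [← uEl_sq P a 0, pow_two]
    exact sq_mem_of_relIndex_le hC ⟨a, 0, rfl⟩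
  have hB := hH _ hbH hne (borel (F := F) (e := 2 ^ (m + 1))) (fun n hn => by
    obtain ⟨a, c, x, -, hconj⟩ := conj_borel_scale P (inv_mem hn)
    have e := hconj b
    rw [inv_inv] at e
    rw [e]
    exact hZ _)
  have hT : ∀ x, dEl P x ∈ H := by
    intro x
    refine mem_of_sq_of_odd (fun n hn => sq_mem_of_relIndex_le hB hn) (dEl_mem_borel P x) ?_
    refine Odd.of_dvd_nat (odd_q_sub_one hF hm) ?_
    rw [← card_torus P]
    exact Subgroup.orderOf_dvd_natCard _ (dEl_mem_torus P x)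
  have hU : ∀ a c, uEl P a c ∈ H := by
    intro a c
    obtain ⟨t, ht0, ht1⟩ := exists_ne_zero_one (F := F) (two_lt_card hm hF)
    obtain ⟨x, hx⟩ := exists_scale' P ht0
    have hne1 : (x : F) * x / P.θ x + 1 ≠ 0 := by
      rw [hx]
      exact fun h => ht1 (CharTwo.add_eq_zero.1 h)
    have h2 := comm_mem_of_relIndex_le hB (dEl_mem_borel P x)
      (uEl_mem_borel P (a / ((x : F) * x / P.θ x + 1)) 0)
    rw [dEl_mul_uEl, mul_inv_cancel_right, mul_zero, uEl_inv, uEl_mul] at h2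
    set k := (x : F) * x / P.θ x with hk
    have ea : k * (a / (k + 1)) + a / (k + 1) = a := by field_simp
    rw [ea] at h2
    obtain ⟨w, hw⟩ : ∃ w, uEl P a w ∈ H := ⟨_, h2⟩
    have h3 := mul_mem hw (hZ (w + c))
    rw [uEl_mul, add_zero, map_zero, mul_zero, add_zero, ← add_assoc, CharTwo.add_self_eq_zero,
      zero_add] at h3
    exact h3
  intro g hg
  obtain ⟨a, c, x, rfl⟩ := borel_form P hg
  exact mul_mem (hU a c) (hT x)

include P in
/-- The Borel subgroup is maximal. -/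
lemma borel_maximal {H : Subgroup 𝔾} (hle : borel (F := F) (e := 2 ^ (m + 1)) ≤ H) (hne : H ≠ ⊤) :
    H = borel (F := F) (e := 2 ^ (m + 1)) := by
  refine le_antisymm (fun g hg => ?_) hle
  by_contra hgB
  obtain ⟨a, b, h, hh, rfl⟩ := bruhat P hgB
  have hj : jEl P ∈ H := by
    have := mul_mem (mul_mem (inv_mem (hle (uEl_mem_borel P a b))) hg) (inv_mem (hle hh))
    rwa [mul_assoc (uEl P a b), inv_mul_cancel_left, mul_inv_cancel_right] at this
  refine hne ((Subgroup.eq_top_iff' H).2 fun y => ?_)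
  by_cases hy : y ∈ borel (F := F) (e := 2 ^ (m + 1))
  · exact hle hy
  · obtain ⟨a, b, h, hh, rfl⟩ := bruhat P hy
    exact mul_mem (mul_mem (hle (uEl_mem_borel P a b)) hj) (hle hh)

include P hF hm in
/-- A proper non-trivial stabiliser of fixity two is a Borel subgroup or has order `q - 1`. -/
theorem halfFusion_cases {H : Subgroup 𝔾} (hH : HalfFusion H) (hbot : H ≠ ⊥) (htop : H ≠ ⊤) :
    (∃ k : 𝔾, H.map (MulAut.conj k).toMonoidHom = borel (F := F) (e := 2 ^ (m + 1))) ∨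
      Nat.card ↥H = Fintype.card F - 1 := by
  classical
  haveI : Fact (Nat.Prime 2) := ⟨Nat.prime_two⟩
  by_cases hu : ∃ x ∈ H, x ≠ 1 ∧ ∃ k : 𝔾, k * x * k⁻¹ ∈ unip P
  · obtain ⟨x, hx, h1, k, hk⟩ := hu
    refine Or.inl ⟨k, borel_maximal P ?_ fun e => htop ?_⟩
    · exact borel_le_of_unip P hF hm (hH.map k) hk ⟨x, hx, rfl⟩
        (fun e => h1 (conj_eq_one_iff.1 e))
    · exact Subgroup.map_injective (f := (MulAut.conj k).toMonoidHom) (MulAut.conj k).injective
        (e.trans (Subgroup.map_top_of_surjective _ (MulAut.conj k).surjective).symm)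
  push Not at hu
  have hinv : ∀ x ∈ H, orderOf x ≠ 2 := by
    intro x hx ho
    have h1 : x ≠ 1 := fun e => by simp [e] at ho
    obtain ⟨k, hk⟩ := (even_iff_conj_unip P hF hm h1).1 (by rw [ho]; norm_num)
    exact hu x hx h1 k hk
  have htor : ∀ x ∈ H, x ≠ 1 → ∃ k : 𝔾, ∃ t : Fˣ, t ≠ 1 ∧ k * x * k⁻¹ = dEl P t := by
    intro x hx h1
    rcases trichotomy P h1 with ⟨k, hk⟩ | h | hf
    · exact absurd hk (hu x hx h1 k)
    · exact h
    exfalso
    set C := Subgroup.centralizer ({x} : Set 𝔾) with hC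
    have hCc : ∀ n ∈ C, n⁻¹ * x * n ∈ H := by
      intro n hn
      rwa [mul_assoc, ← Subgroup.mem_centralizer_singleton_iff.1 hn, inv_mul_cancel_left]
    have hodd : Odd (Nat.card ↥C) := by
      have hx4 : ¬ orderOf x ∣ 4 := fun h => by
        obtain ⟨k, hk⟩ := (even_iff_conj_unip P hF hm h1).1 h
        exact hu x hx h1 k hk
      exact (oddTI P hF hm).odd x hx4
    have hCH : C ≤ H := fun n hn => mem_of_sq_of_odd
      (fun n hn => sq_mem_of_relIndex_le (hH x hx h1 C hCc) hn) hn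
      (Odd.of_dvd_nat hodd (Subgroup.orderOf_dvd_natCard _ hn))
    set N := Subgroup.normalizer (C : Set 𝔾) with hN
    have hNc : ∀ n ∈ N, n⁻¹ * x * n ∈ H := fun n hn => hCH <| by
      have := (Subgroup.mem_normalizer_iff.1 (inv_mem hn) x).1
        (Subgroup.mem_centralizer_singleton_iff.2 rfl)
      rwa [inv_inv] at this
    have hidx := hH x hx h1 N hNc
    have hcard := Subgroup.card_mul_index (H.subgroupOf N)
    rw [hN, fpf_card_normalizer P hF hm hf] at hcard
    have h2 : 2 ∣ Nat.card ↥(H.subgroupOf N) := by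
      have h0 : H.relIndex N ≠ 0 := Subgroup.index_ne_zero_of_finite
      have e : Nat.card ↥(H.subgroupOf N) * H.relIndex N = 4 * Nat.card ↥C := hcard
      obtain h | h : H.relIndex N = 1 ∨ H.relIndex N = 2 := by omega
      · rw [h] at e; omega
      · rw [h] at e; omega
    obtain ⟨y, hy⟩ := exists_prime_orderOf_dvd_card' 2 h2
    exact hinv _ (Subgroup.mem_subgroupOf.1 y.2) (by rw [Subgroup.orderOf_coe, Subgroup.orderOf_coe, hy])
  have hself : ∀ y ∈ H, y ≠ 1 → Subgroup.centralizer ({y} : Set 𝔾) ≤ H ∧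
      Nat.card ↥(Subgroup.centralizer ({y} : Set 𝔾)) = Fintype.card F - 1 := by
    intro y hy h1
    obtain ⟨k, t, ht, hk⟩ := htor y hy h1
    have hc : Nat.card ↥(Subgroup.centralizer ({y} : Set 𝔾)) = Fintype.card F - 1 := by
      rw [← card_centralizer_conj k y, hk, centralizer_dEl P ht, card_torus P]
    refine ⟨fun n hn => mem_of_sq_of_odd (fun n hn => sq_mem_of_relIndex_le
      (hH y hy h1 _ (fun n hn => ?_)) hn) hn (Odd.of_dvd_nat (odd_q_sub_one hF hm)
      (hc ▸ Subgroup.orderOf_dvd_natCard _ hn)), hc⟩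
    rwa [mul_assoc, ← Subgroup.mem_centralizer_singleton_iff.1 hn, inv_mul_cancel_left]
  have hfour : ∀ y ∈ H, y ≠ 1 → ¬ orderOf y ∣ 4 := fun y hy h1 h => by
    obtain ⟨k, hk⟩ := (even_iff_conj_unip P hF hm h1).1 h
    exact hu y hy h1 k hk
  have hTI : ∀ y ∈ H, y ≠ 1 → ∀ z : 𝔾, z ∈ Subgroup.centralizer ({y} : Set 𝔾) → z ≠ 1 →
      Subgroup.centralizer ({z} : Set 𝔾) = Subgroup.centralizer ({y} : Set 𝔾) :=
    fun y hy h1 z hz hz1 => (oddTI P hF hm).centralizer_eq y z (hfour y hy h1) hz hz1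
  -- the subgroup of `H` attached to an element
  let cy : ↥H → Subgroup ↥H := fun y => (Subgroup.centralizer ({(y : 𝔾)} : Set 𝔾)).subgroupOf H
  have hmemc : ∀ y z : ↥H, z ∈ cy y ↔ (z : 𝔾) * y = y * z := fun y z => by
    show (z : 𝔾) ∈ Subgroup.centralizer ({(y : 𝔾)} : Set 𝔾) ↔ _
    rw [Subgroup.mem_centralizer_singleton_iff]
  have hcs : ∀ y : ↥H, y ≠ 1 → (conjSet (cy y)).ncard * (Fintype.card F - 1) =
      Nat.card ↥H * (Fintype.card F - 1 - 1) ∧
      ∀ z : ↥H, z ∈ cy y → z ≠ 1 → cy z = cy y := by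
    intro y hy1
    have hy1' : (y : 𝔾) ≠ 1 := fun e => hy1 (Subtype.ext e)
    obtain ⟨hle, hc⟩ := hself y y.2 hy1'
    have hsame : ∀ z : ↥H, z ∈ cy y → z ≠ 1 → cy z = cy y := fun z hz hz1 => by
      show (Subgroup.centralizer ({(z : 𝔾)} : Set 𝔾)).subgroupOf H = _
      rw [hTI y y.2 hy1' z hz (fun e => hz1 (Subtype.ext e))]
    have hconj : ∀ (k z w : ↥H), w ∈ cy z ↔ k * w * k⁻¹ ∈ cy (k * z * k⁻¹) := fun k z w => by
      rw [hmemc, hmemc]
      simp only [Subgroup.coe_mul, Subgroup.coe_inv]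
      exact ((centralizer_conj (k : 𝔾) z).trans Subgroup.mem_centralizer_singleton_iff).symm.trans
        (by rw [Subgroup.mem_centralizer_singleton_iff]) |>.symm.symm
    have hTI' : ∀ u ∈ cy y, u ≠ 1 → ∀ k : ↥H, k * u * k⁻¹ ∈ cy y →
        k ∈ Subgroup.normalizer (cy y : Set ↥H) := by
      intro u hu hu1 k hk
      refine Subgroup.mem_normalizer_iff.2 fun n => ?_
      rw [← hsame u hu hu1]
      conv_rhs => rw [hsame u hu hu1, ← hsame _ hk (fun e => hu1 (conj_eq_one_iff.1 e))]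
      exact hconj k u n
    have hNeq : Subgroup.normalizer (cy y : Set ↥H) = cy y := by
      refine le_antisymm (fun k hk => ?_) Subgroup.le_normalizer
      obtain ⟨g, t, ht, hg⟩ := htor y y.2 hy1'
      have hky := (Subgroup.mem_normalizer_iff.1 hk y).1 ((hmemc y y).2 rfl)
      have hT : (Subgroup.centralizer ({(y : 𝔾)} : Set 𝔾)).map (MulAut.conj g).toMonoidHom =
          torus P := by
        rw [centralizer_map_conj, hg, centralizer_dEl P ht]
      have hgk : g * k * g⁻¹ ∈ Subgroup.normalizer (torus P : Set 𝔾) := by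
        refine torus_TI P (u := dEl P t) (dEl_mem_torus P t) (fun e => ht ((dEl_eq_one P).1 e)) _ ?_
        rw [← hg, ← hT]
        exact ⟨(k * y * k⁻¹ : ↥H), hky, by
          show g * ((k : 𝔾) * y * (k : 𝔾)⁻¹) * g⁻¹ = _
          group⟩
      rcases (mem_normalizer_torus P (two_lt_card hm hF)).1 hgk with h | h
      · rw [← hT] at h
        obtain ⟨w, hw, hwk⟩ := h
        have : w = (k : 𝔾) := (MulAut.conj g).injective hwk
        exact Subgroup.mem_subgroupOf.2 (this ▸ hw)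
      · exfalso
        obtain ⟨s, hs⟩ := (mem_torus P).1 h
        have hk2 : (g * k * g⁻¹) * (g * k * g⁻¹) = 1 := by
          have e : g * k * g⁻¹ = jEl P * dEl P s := by rw [hs, ← mul_assoc, jEl_mul_self, one_mul]
          rw [e, ← mul_assoc, jEl_mul_dEl, mul_assoc (dEl P s⁻¹), jEl_mul_self, mul_one, dEl_mul,
            inv_mul_cancel, dEl_one]
        refine hinv k k.2 (orderOf_eq_prime ?_ fun e => ?_)
        · rw [pow_two]
          apply (MulAut.conj g).injective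
          rw [map_mul, map_one]
          exact hk2
        · rw [e, mul_one, mul_inv_cancel, mul_one] at hs
          exact jEl_notMem_borel P (hs ▸ dEl_mem_borel P s)
    have hcard : Nat.card ↥(cy y) = Fintype.card F - 1 := by
      rw [← hc]; exact Nat.card_congr (Subgroup.subgroupOfEquivOfLe hle).toEquiv
    refine ⟨?_, hsame⟩
    rw [ncard_conjSet (cy y) hTI', hNeq, hcard, ← Subgroup.card_mul_index (cy y), hcard]
    ring
  obtain ⟨⟨y, hyH⟩, hy1⟩ : ∃ y : ↥H, y ≠ 1 := by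
    haveI : Nontrivial ↥H := (Subgroup.nontrivial_iff_ne_bot H).2 hbot
    exact exists_ne 1
  set y₀ : ↥H := ⟨y, hyH⟩
  obtain ⟨hn₀, hs₀⟩ := hcs y₀ hy1
  have hq : 8 ≤ Fintype.card F := eight_le hF hm
  have hsub : conjSet (cy y₀) ⊆ {1}ᶜ := fun z hz => hz.1
  have hone : ({1}ᶜ : Set ↥H).ncard + 1 = Nat.card ↥H := by
    rw [Set.ncard_compl, Set.ncard_singleton]
    have : 0 < Nat.card ↥H := Nat.card_pos
    omega
  have hall : ∀ z : ↥H, z ≠ 1 → z ∈ conjSet (cy y₀) := by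
    by_contra hcon
    push Not at hcon
    obtain ⟨z, hz1, hz⟩ := hcon
    obtain ⟨hn, hs⟩ := hcs z hz1
    have hdis : Disjoint (conjSet (cy y₀)) (conjSet (cy z)) := by
      rw [Set.disjoint_left]
      rintro w ⟨hw1, k, hk⟩ ⟨-, l, hl⟩
      refine hz ⟨hz1, k * l⁻¹, ?_⟩
      have e1 := hs₀ _ hk (fun e => hw1 (conj_eq_one_iff.1 e))
      have e2 := hs _ hl (fun e => hw1 (conj_eq_one_iff.1 e))
      have hzc : z ∈ cy (l * w * l⁻¹) := by rw [e2]; exact (hmemc z z).2 rfl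
      rw [← e1, hmemc]
      rw [hmemc] at hzc
      simp only [Subgroup.coe_mul, Subgroup.coe_inv] at hzc ⊢
      calc (k : 𝔾) * (l : 𝔾)⁻¹ * z * ((k : 𝔾) * (l : 𝔾)⁻¹)⁻¹ * ((k : 𝔾) * w * (k : 𝔾)⁻¹) =
          (k : 𝔾) * (l : 𝔾)⁻¹ * ((z : 𝔾) * ((l : 𝔾) * w * (l : 𝔾)⁻¹)) * ((l : 𝔾) * (k : 𝔾)⁻¹) := by group
        _ = (k : 𝔾) * w * (k : 𝔾)⁻¹ * ((k : 𝔾) * (l : 𝔾)⁻¹ * z * ((k : 𝔾) * (l : 𝔾)⁻¹)⁻¹) := by
          rw [hzc]; group
    have hle := Set.ncard_le_ncard (s := conjSet (cy y₀) ∪ conjSet (cy z)) (t := {1}ᶜ)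
      (Set.union_subset hsub fun w hw => hw.1) (Set.toFinite _)
    rw [Set.ncard_union_eq hdis] at hle
    obtain ⟨a, ha⟩ : ∃ a, Fintype.card F - 1 = a + 2 := ⟨Fintype.card F - 3, by omega⟩
    rw [ha] at hn hn₀
    rw [show a + 2 - 1 = a + 1 by omega] at hn hn₀
    have := Nat.mul_le_mul_right (a + 2) hle
    nlinarith
  right
  have heq : conjSet (cy y₀) = {1}ᶜ := Set.Subset.antisymm hsub fun z hz => hall z hz
  rw [heq] at hn₀
  obtain ⟨a, ha⟩ : ∃ a, Fintype.card F - 1 = a + 2 := ⟨Fintype.card F - 3, by omega⟩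
  rw [ha, show a + 2 - 1 = a + 1 by omega] at hn₀
  rw [ha]
  nlinarith

end CfsgLib.SuzukiGroup
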