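import Cfsg.Prelude.Def_Sz

/-!
Matrices of the Suzuki group `Cfsg.Lie.Sz`: the set `g* = g^θ` in `Sp4` is closed under multiplication,
unitriangular elements, diagonal elements, the antidiagonal involution, and the first column of an element.
-/

set_option autoImplicit false

open scoped MatrixGroups Matrix

namespace CfsgLib.SuzukiGroup

open Cfsg.Lie (altForm4 star4 Sp4 Sz)

variable {F : Type*} [Field F] [CharP F 2]

/-- the columns of `A` have the same products as the standard basis -/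
def ColSymp (A : Matrix (Fin 4) (Fin 4) F) : Prop :=
  ∀ i j : Fin 4, altForm4 (fun k => A k i) (fun k => A k j) = if i.val + j.val = 3 then 1 else 0

omit [CharP F 2] in
theorem mem_sp4_iff (g : GL (Fin 4) F) : g ∈ Sp4 F ↔ ColSymp (g : Matrix (Fin 4) (Fin 4) F) := by
  show (∀ u v, altForm4 ((g : Matrix (Fin 4) (Fin 4) F) *ᵥ u) ((g : Matrix (Fin 4) (Fin 4) F) *ᵥ v)
    = altForm4 u v) ↔ _
  generalize (g : Matrix (Fin 4) (Fin 4) F) = A
  constructor
  · intro h i j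
    have h1 := h (Pi.single i 1) (Pi.single j 1)
    rw [Matrix.mulVec_single_one, Matrix.mulVec_single_one] at h1
    refine h1.trans ?_
    fin_cases i <;> fin_cases j <;> simp [altForm4]
  · intro h u v
    have e : altForm4 (A *ᵥ u) (A *ᵥ v) =
        ∑ i, ∑ j, u i * v j * altForm4 (fun k => A k i) (fun k => A k j) := by
      simp only [altForm4, Matrix.mulVec, dotProduct, Fin.sum_univ_four]
      ring
    rw [e, Finset.sum_congr rfl fun i _ => Finset.sum_congr rfl fun j _ => by rw [h i j]]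
    simp [altForm4, Fin.sum_univ_four]

omit [CharP F 2] in
theorem row_symp {A : Matrix (Fin 4) (Fin 4) F} (h : ColSymp A) : ColSymp A.transpose := by
  let J : Matrix (Fin 4) (Fin 4) F := Matrix.of fun i j => if i.val + j.val = 3 then 1 else 0
  have h1 : Aᵀ * J * A = J := by
    ext i j
    have h2 := h i j
    simp only [J, Matrix.mul_apply, Fin.sum_univ_four, Matrix.transpose_apply, Matrix.of_apply,
      altForm4] at h2 ⊢
    norm_num
    rw [← h2]
    ring
  have hJ : J * J = 1 := by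
    ext i j
    fin_cases i <;> fin_cases j <;> simp [J, Matrix.mul_apply, Fin.sum_univ_four]
  have h3 : (J * Aᵀ * J) * A = 1 := by
    calc (J * Aᵀ * J) * A = J * (Aᵀ * J * A) := by simp only [Matrix.mul_assoc]
      _ = 1 := by rw [h1, hJ]
  have h5 : A * J * Aᵀ = J := by
    have h4 : A * (J * Aᵀ * J) = 1 := mul_eq_one_comm.1 h3
    calc A * J * Aᵀ = A * J * Aᵀ * (J * J) := by rw [hJ, Matrix.mul_one]
      _ = (A * (J * Aᵀ * J)) * J := by simp only [Matrix.mul_assoc]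
      _ = J := by rw [h4, Matrix.one_mul]
  intro i j
  have h6 := congrFun (congrFun h5 i) j
  simp only [J, Matrix.mul_apply, Fin.sum_univ_four, Matrix.of_apply, Matrix.transpose_apply] at h6
  simp only [altForm4, Matrix.transpose_apply]
  norm_num at h6 ⊢
  rw [← h6]
  ring

/-- the pairs of `pairOf` are isotropic -/
theorem pairOf_isotropic (r : Fin 4) :
    (Cfsg.Lie.pairOf r).1.val + (Cfsg.Lie.pairOf r).2.val ≠ 3 := by
  fin_cases r <;> simp [Cfsg.Lie.pairOf]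

theorem star4_mul {A B : Matrix (Fin 4) (Fin 4) F} (hA : ColSymp A) (hB : ColSymp B) :
    star4 (A * B) = star4 A * star4 B := by
  ext p r
  have ha := row_symp hA (Cfsg.Lie.pairOf p).1 (Cfsg.Lie.pairOf p).2
  have hb := hB (Cfsg.Lie.pairOf r).1 (Cfsg.Lie.pairOf r).2
  rw [if_neg (pairOf_isotropic p)] at ha
  rw [if_neg (pairOf_isotropic r)] at hb
  simp only [altForm4, Matrix.transpose_apply] at ha hb
  generalize hk : (Cfsg.Lie.pairOf p).1 = k at ha
  generalize hl : (Cfsg.Lie.pairOf p).2 = l at ha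
  generalize hi : (Cfsg.Lie.pairOf r).1 = i at hb
  generalize hj : (Cfsg.Lie.pairOf r).2 = j at hb
  simp only [star4, Matrix.mul_apply, Fin.sum_univ_four, Matrix.of_apply, hk, hl, hi, hj]
  simp only [Cfsg.Lie.pairOf, Matrix.cons_val_zero, Matrix.cons_val_one, Matrix.cons_val]
  grind

variable (θ : F →+* F)

/-- `g ∈ Sp4` with `g* = g^θ` -/
def Rel (A : Matrix (Fin 4) (Fin 4) F) : Prop := ColSymp A ∧ star4 A = A.map θ

variable {θ}

omit [CharP F 2] in
theorem colSymp_mul {A B : Matrix (Fin 4) (Fin 4) F} (hA : ColSymp A) (hB : ColSymp B) :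
    ColSymp (A * B) := by
  intro i j
  refine Eq.trans ?_ (hB i j)
  have e : altForm4 (fun k => (A * B) k i) (fun k => (A * B) k j) =
      ∑ a, ∑ b, B a i * B b j * altForm4 (fun k => A k a) (fun k => A k b) := by
    simp only [altForm4, Matrix.mul_apply, Fin.sum_univ_four]
    ring
  rw [e, Finset.sum_congr rfl fun a _ => Finset.sum_congr rfl fun b _ => by rw [hA a b]]
  simp [altForm4, Fin.sum_univ_four]

theorem Rel.mul {A B : Matrix (Fin 4) (Fin 4) F} (hA : Rel θ A) (hB : Rel θ B) : Rel θ (A * B) :=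
  ⟨colSymp_mul hA.1 hB.1, by rw [star4_mul hA.1 hB.1, hA.2, hB.2, Matrix.map_mul]⟩

variable (θ) in
/-- unitriangular element -/
def uMat (a b : F) : Matrix (Fin 4) (Fin 4) F :=
  !![1, a, b, θ b + a * b + a * a * θ a; 0, 1, θ a, b + a * θ a; 0, 0, 1, a; 0, 0, 0, 1]

variable (θ) in
/-- diagonal element -/
def dMat (x : F) : Matrix (Fin 4) (Fin 4) F :=
  !![x, 0, 0, 0; 0, θ x / x, 0, 0; 0, 0, x / θ x, 0; 0, 0, 0, 1 / x]

/-- antidiagonal -/
def jMat : Matrix (Fin 4) (Fin 4) F := !![0, 0, 0, 1; 0, 0, 1, 0; 0, 1, 0, 0; 1, 0, 0, 0]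

omit [CharP F 2] in
theorem rel_iff (A : Matrix (Fin 4) (Fin 4) F) :
    Rel θ A ↔ ColSymp A ∧ ∀ p r, star4 A p r = θ (A p r) := by
  refine and_congr_right fun _ => ?_
  constructor
  · intro h p r; rw [h]; rfl
  · intro h; ext p r; exact h p r

theorem rel_uMat (hθ : ∀ x, θ (θ x) = x ^ 2) (a b : F) : Rel θ (uMat θ a b) := by
  rw [rel_iff]
  constructor
  · intro i j
    fin_cases i <;> fin_cases j <;> simp [uMat, altForm4] <;> grind
  · intro p r
    fin_cases p <;> fin_cases r <;>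
      simp [uMat, star4, Cfsg.Lie.pairOf, map_add, map_mul, hθ] <;> grind

theorem rel_dMat (hθ : ∀ x, θ (θ x) = x ^ 2) {x : F} (hx : x ≠ 0) : Rel θ (dMat θ x) := by
  have hx' : θ x ≠ 0 := by simpa using hx
  rw [rel_iff]
  constructor
  · intro i j
    fin_cases i <;> fin_cases j <;> simp [dMat, altForm4, hx, hx'] <;> field_simp
  · intro p r
    fin_cases p <;> fin_cases r <;>
      simp [dMat, star4, Cfsg.Lie.pairOf, hθ] <;> field_simp

theorem rel_jMat : Rel θ (jMat : Matrix (Fin 4) (Fin 4) F) := by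
  rw [rel_iff]
  constructor
  · intro i j
    fin_cases i <;> fin_cases j <;> simp [jMat, altForm4]
  · intro p r
    fin_cases p <;> fin_cases r <;> simp [jMat, star4, Cfsg.Lie.pairOf, CharTwo.neg_eq]

/-- the multiplication of unitriangular elements -/
theorem uMat_mul (hθ : ∀ x, θ (θ x) = x ^ 2) (a b a' b' : F) :
    uMat θ a b * uMat θ a' b' = uMat θ (a + a') (b + b' + a * θ a') := by
  ext i j
  fin_cases i <;> fin_cases j <;>
    simp [uMat, Matrix.mul_apply, Fin.sum_univ_four, map_add, map_mul, hθ] <;> grind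

theorem dMat_mul_uMat {x : F} (hx : x ≠ 0) (hθ : ∀ x, θ (θ x) = x ^ 2) (a b : F) :
    dMat θ x * uMat θ a b = uMat θ (x * x / θ x * a) (θ x * b) * dMat θ x := by
  have hx' : θ x ≠ 0 := by simpa using hx
  ext i j
  fin_cases i <;> fin_cases j <;>
    simp [uMat, dMat, Matrix.mul_apply, Fin.sum_univ_four, map_mul, map_div₀, hθ] <;>
    (try field_simp) <;> (try grind)

theorem jMat_mul_dMat {x : F} (hx : x ≠ 0) :
    jMat * dMat θ x = dMat θ x⁻¹ * jMat := by
  ext i j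
  fin_cases i <;> fin_cases j <;>
    simp [jMat, dMat, Matrix.mul_apply, Fin.sum_univ_four, map_inv₀] <;> field_simp

omit [CharP F 2] in
theorem dMat_mul (x y : F) : dMat θ x * dMat θ y = dMat θ (x * y) := by
  ext i j
  fin_cases i <;> fin_cases j <;>
    simp [dMat, Matrix.mul_apply, Fin.sum_univ_four, map_mul] <;> ring

omit [CharP F 2] in
theorem jMat_mul_jMat : (jMat : Matrix (Fin 4) (Fin 4) F) * jMat = 1 := by
  ext i j
  fin_cases i <;> fin_cases j <;> simp [jMat, Matrix.mul_apply, Fin.sum_univ_four]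

/-- shape of the first column -/
theorem first_col (hθ : ∀ x, θ (θ x) = x ^ 2) {A : Matrix (Fin 4) (Fin 4) F} (hA : Rel θ A) :
    (A 1 0 = 0 ∧ A 2 0 = 0 ∧ A 3 0 = 0) ∨
    (A 3 0 ≠ 0 ∧ ∃ a b : F, A 2 0 = A 3 0 * uMat θ a b 2 3 ∧ A 1 0 = A 3 0 * uMat θ a b 1 3 ∧
      A 0 0 = A 3 0 * uMat θ a b 0 3) := by
  obtain ⟨hs, hr⟩ := (rel_iff A).1 hA
  have e0 := hr 0 0
  have e1 := hr 1 0
  have e2 := hr 2 0
  have e3 := hr 3 0
  have hi := hs 0 1
  simp [star4, Cfsg.Lie.pairOf, altForm4] at e0 e1 e2 e3 hi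
  generalize A 0 0 = v₁, A 1 0 = v₂, A 2 0 = v₃, A 3 0 = v₄, A 0 1 = u₁, A 1 1 = u₂, A 2 1 = u₃,
    A 3 1 = u₄ at *
  have p1 : v₂ * θ v₄ + v₃ * θ v₃ + v₄ * (v₁ * u₄ - u₁ * v₄) = 0 := by grind
  have p2 : v₁ * θ v₄ + v₃ * (v₁ * u₄ - u₁ * v₄) + v₄ * θ v₂ = 0 := by grind
  have p3 : v₁ * (v₁ * u₄ - u₁ * v₄) + v₂ * θ v₂ + v₃ * θ v₁ = 0 := by grind
  have p4 : (v₁ * u₄ - u₁ * v₄) ^ 2 + θ v₁ * θ v₄ + θ v₂ * θ v₃ = 0 := by grind
  by_cases h4 : v₄ = 0
  · left
    subst h4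
    simp only [map_zero, mul_zero, zero_mul, zero_add, add_zero] at p1 p4
    have h3 : v₃ = 0 := by
      rcases mul_eq_zero.1 p1 with h | h
      · exact h
      · simpa using h
    subst h3
    simp only [map_zero, mul_zero, zero_mul, zero_add, add_zero] at p3 p4
    have hE := pow_eq_zero_iff (n := 2) two_ne_zero |>.1 p4
    rw [hE, mul_zero, zero_add] at p3
    refine ⟨?_, rfl, rfl⟩
    rcases mul_eq_zero.1 p3 with h | h
    · exact h
    · simpa using h
  · right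
    have h4' : θ v₄ ≠ 0 := by simpa using h4
    refine ⟨h4, v₃ / v₄, v₂ / v₄ + v₃ / v₄ * θ (v₃ / v₄), ?_⟩
    have q2 : v₁ * θ v₄ * v₄ + v₃ * (v₂ * θ v₄ + v₃ * θ v₃) + v₄ * v₄ * θ v₂ = 0 := by grind
    simp [uMat, map_add, map_mul, map_div₀, hθ]
    refine ⟨?_, ?_, ?_⟩ <;> field_simp <;> grind

omit [CharP F 2] in
theorem colSymp_upper_bottom {A : Matrix (Fin 4) (Fin 4) F} (hs : ColSymp A)
    (h0 : A 0 0 = 1) (h1 : A 1 0 = 0) (h2 : A 2 0 = 0) (h3 : A 3 0 = 0) :
    A 3 1 = 0 ∧ A 3 2 = 0 ∧ A 3 3 = 1 := by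
  have f1 := hs 0 1
  have f2 := hs 0 2
  have f3 := hs 0 3
  simp [altForm4, h0, h1, h2, h3] at f1 f2 f3
  exact ⟨f1, f2, f3⟩

theorem eq_uMat_of_first_col {A : Matrix (Fin 4) (Fin 4) F}
    (hA : Rel θ A) (h0 : A 0 0 = 1) (h1 : A 1 0 = 0) (h2 : A 2 0 = 0) (h3 : A 3 0 = 0) :
    A = uMat θ (A 0 1) (A 0 2) := by
  obtain ⟨hs, hr⟩ := (rel_iff A).1 hA
  obtain ⟨b1, b2, b3⟩ := colSymp_upper_bottom hs h0 h1 h2 h3
  have c00 := hr 0 0
  have c10 := hr 1 0
  have c01 := hr 0 1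
  have c11 := hr 1 1
  have c02 := hr 0 2
  simp [star4, Cfsg.Lie.pairOf, h0, h1, h2, h3] at c00 c10 c01 c11
  simp [c00, c10] at c11
  simp [star4, Cfsg.Lie.pairOf] at c02
  have f13 := hs 1 3
  have f23 := hs 2 3
  simp [altForm4, c00, c10, c01, c11, b1, b2, b3] at f13 f23
  ext i j
  fin_cases i <;> fin_cases j <;> simp [uMat, h0, h1, h2, h3, b1, b2, b3, c00, c10, c01, c11] <;> grind

end CfsgLib.SuzukiGroup
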