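import Cfsg.Agent.Lib.SuzukiGroup.Tori
import Mathlib.GroupTheory.SpecificGroups.ZGroup

/-!
# The counting argument for subgroups of the Suzuki groups, in abstract form

`OddTI G`: elements whose order does not divide four have cyclic centralisers of odd order with
trivial intersection and normaliser of index at most four, and three does not divide the order.
-/

set_option autoImplicit false

namespace CfsgLib.SuzukiGroup

open scoped Pointwise

/-- The group-theoretic properties used in the counting. -/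
structure OddTI (G : Type*) [Group G] : Prop where
  cyclic : ∀ g : G, ¬ orderOf g ∣ 4 → IsCyclic ↥(Subgroup.centralizer {g})
  odd : ∀ g : G, ¬ orderOf g ∣ 4 → Odd (Nat.card ↥(Subgroup.centralizer {g}))
  centralizer_eq : ∀ g h : G, ¬ orderOf g ∣ 4 → h ∈ Subgroup.centralizer {g} → h ≠ 1 →
    Subgroup.centralizer {h} = Subgroup.centralizer {g}
  normalizer_le : ∀ g : G, ¬ orderOf g ∣ 4 →
    Nat.card ↥(Subgroup.normalizer (Subgroup.centralizer {g} : Set G)) ≤
      4 * Nat.card ↥(Subgroup.centralizer {g})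
  three : ¬ 3 ∣ Nat.card G

section

variable {G : Type*} [Group G] [Finite G]

omit [Finite G] in
theorem centralizer_subgroupOf (M : Subgroup G) (g : ↥M) :
    Subgroup.centralizer {g} = (Subgroup.centralizer {(g : G)}).subgroupOf M := by
  ext x
  rw [Subgroup.mem_subgroupOf, Subgroup.mem_centralizer_singleton_iff,
    Subgroup.mem_centralizer_singleton_iff]
  exact Subtype.ext_iff

omit [Finite G] in
theorem mem_centralizer_self (g : G) : g ∈ Subgroup.centralizer {g} :=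
  Subgroup.mem_centralizer_singleton_iff.2 rfl

theorem OddTI.odd_order (h : OddTI G) {g : G} (hg : ¬ orderOf g ∣ 4) : Odd (orderOf g) :=
  Odd.of_dvd_nat (h.odd g hg) (Subgroup.orderOf_dvd_natCard _ (mem_centralizer_self g))

theorem OddTI.not_dvd_four (h : OddTI G) {g u : G} (hg : ¬ orderOf g ∣ 4)
    (hu : u ∈ Subgroup.centralizer {g}) (h1 : u ≠ 1) : ¬ orderOf u ∣ 4 := by
  intro h4
  refine h1 (orderOf_eq_one_iff.1 (Nat.eq_one_of_dvd_coprimes ?_ (Subgroup.orderOf_dvd_natCard _ hu) h4))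
  rw [show 4 = 2 ^ 2 from rfl]
  exact (Nat.coprime_two_right.2 (h.odd g hg)).pow_right 2

theorem OddTI.ti (h : OddTI G) {g u : G} (hg : ¬ orderOf g ∣ 4) (hu : u ∈ Subgroup.centralizer {g})
    (h1 : u ≠ 1) {k : G} (hk : k * u * k⁻¹ ∈ Subgroup.centralizer {g}) :
    k ∈ Subgroup.normalizer (Subgroup.centralizer {g} : Set G) := by
  refine Subgroup.mem_normalizer_iff.2 fun n => ?_
  conv_lhs => rw [← h.centralizer_eq g u hg hu h1]
  rw [← h.centralizer_eq g _ hg hk (fun e => h1 (conj_eq_one_iff.1 e))]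
  exact (centralizer_conj k u).symm

/-- The property passes to subgroups. -/
theorem OddTI.subgroup (h : OddTI G) (M : Subgroup G) : OddTI ↥M := by
  have ho : ∀ g : ↥M, orderOf (g : G) = orderOf g := fun g => Subgroup.orderOf_coe g
  refine ⟨fun g hg => ?_, fun g hg => ?_, fun g x hg hx h1 => ?_, fun g hg => ?_,
    fun h3 => h.three (h3.trans (Subgroup.card_subgroup_dvd_card M))⟩
  · haveI := h.cyclic (g : G) (by rwa [ho])
    rw [centralizer_subgroupOf]
    exact isCyclic_of_injective (((M.subtype).comp (Subgroup.subtype _)).codRestrict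
      (Subgroup.centralizer {(g : G)}) (fun x => x.2)) (fun a b hab => Subtype.ext (Subtype.ext
        (congrArg Subtype.val hab :)))
  · refine Odd.of_dvd_nat (h.odd (g : G) (by rwa [ho])) ?_
    rw [centralizer_subgroupOf]
    exact Subgroup.card_comap_dvd_of_injective _ M.subtype M.subtype_injective
  · rw [centralizer_subgroupOf, centralizer_subgroupOf, h.centralizer_eq (g : G) x (by rwa [ho]) ?_
      (fun e => h1 (Subtype.ext e))]
    exact Subgroup.mem_centralizer_singleton_iff.2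
      (congrArg Subtype.val (Subgroup.mem_centralizer_singleton_iff.1 hx))
  · have hg' : ¬ orderOf (g : G) ∣ 4 := by rwa [ho]
    set C := Subgroup.centralizer {(g : G)} with hC
    set N := Subgroup.normalizer (C : Set G) with hN
    set C' := Subgroup.centralizer {g} with hC'
    set N' := Subgroup.normalizer (C' : Set ↥M) with hN'
    have hcoe : ∀ x : ↥M, x ∈ C' ↔ (x : G) ∈ C := fun x => by
      rw [hC', centralizer_subgroupOf, Subgroup.mem_subgroupOf]
    have hNN : ∀ x : ↥M, x ∈ N' → (x : G) ∈ N := fun x hx =>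
      h.ti hg' (mem_centralizer_self (g : G)) (fun e => hg' (by rw [e, orderOf_one]; exact one_dvd 4))
        ((hcoe _).1 ((Subgroup.mem_normalizer_iff.1 hx g).1 (mem_centralizer_self g)))
    have hle : Nat.card (↥N' ⧸ C'.subgroupOf N') ≤ Nat.card (↥N ⧸ C.subgroupOf N) := by
      refine Nat.card_le_card_of_injective
        (Quotient.lift (fun x : ↥N' => (QuotientGroup.mk ⟨((x : ↥M) : G), hNN x x.2⟩ :
          ↥N ⧸ C.subgroupOf N)) fun a b hab => ?_) ?_
      · refine QuotientGroup.eq.2 ?_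
        have := QuotientGroup.leftRel_apply.1 hab
        rw [Subgroup.mem_subgroupOf] at this ⊢
        exact (hcoe _).1 this
      · intro a b
        refine Quotient.inductionOn₂ a b fun x y hxy => ?_
        refine QuotientGroup.eq.2 ?_
        have h2 := QuotientGroup.eq.1 hxy
        rw [Subgroup.mem_subgroupOf] at h2 ⊢
        exact (hcoe _).2 h2
    have e1 := Subgroup.card_mul_index (C'.subgroupOf N')
    have e2 := Subgroup.card_mul_index (C.subgroupOf N)
    rw [Nat.card_congr (Subgroup.subgroupOfEquivOfLe (Subgroup.le_normalizer (H := C'))).toEquiv] at e1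
    rw [Nat.card_congr (Subgroup.subgroupOfEquivOfLe (Subgroup.le_normalizer (H := C))).toEquiv] at e2
    rw [Subgroup.index_eq_card] at e1 e2
    have hb : Nat.card (↥N ⧸ C.subgroupOf N) ≤ 4 := by
      refine Nat.le_of_mul_le_mul_left ?_ (Nat.card_pos (α := ↥C))
      rw [e2, mul_comm _ 4]
      exact h.normalizer_le _ hg'
    rw [← e1, mul_comm 4]
    exact Nat.mul_le_mul_left _ (hle.trans hb)

theorem OddTI.five_le (h : OddTI G) {g : G} (hg : ¬ orderOf g ∣ 4) :
    5 ≤ Nat.card ↥(Subgroup.centralizer {g}) := by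
  have ho := h.odd g hg
  have h3 : Nat.card ↥(Subgroup.centralizer {g}) ≠ 3 := fun e =>
    h.three (e ▸ Subgroup.card_subgroup_dvd_card (Subgroup.centralizer {g}))
  have h1 : Nat.card ↥(Subgroup.centralizer {g}) ≠ 1 := fun e => hg (by
    have hm := mem_centralizer_self g
    rw [Subgroup.eq_bot_of_card_eq _ e, Subgroup.mem_bot] at hm
    rw [hm, orderOf_one]; exact one_dvd 4)
  rw [Nat.odd_iff] at ho
  omega

/-- size of a class: `i c S = |G| (c - 1)` with `i ∈ {1, 2, 4}`. -/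
theorem OddTI.class_eq (h : OddTI G) {g : G} (hg : ¬ orderOf g ∣ 4) :
    ∃ i : ℕ, (i = 1 ∨ i = 2 ∨ i = 4) ∧
      Nat.card ↥(Subgroup.normalizer (Subgroup.centralizer {g} : Set G)) =
        i * Nat.card ↥(Subgroup.centralizer {g}) ∧
      i * Nat.card ↥(Subgroup.centralizer {g}) * (conjSet (Subgroup.centralizer {g})).ncard =
        Nat.card G * (Nat.card ↥(Subgroup.centralizer {g}) - 1) := by
  obtain ⟨i, hi⟩ : Nat.card ↥(Subgroup.centralizer {g}) ∣
      Nat.card ↥(Subgroup.normalizer (Subgroup.centralizer {g} : Set G)) :=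
    Subgroup.card_dvd_of_le Subgroup.le_normalizer
  have hle := h.normalizer_le g hg
  rw [hi, mul_comm] at hle
  have hi4 : i ≤ 4 := Nat.le_of_mul_le_mul_right hle Nat.card_pos
  have hi0 : i ≠ 0 := fun e => (Nat.card_pos (α := ↥(Subgroup.normalizer (Subgroup.centralizer {g} : Set G)))).ne'
    (by rw [hi, e, mul_zero])
  have hi3 : i ≠ 3 := fun e => h.three (by
    have := Subgroup.card_subgroup_dvd_card (Subgroup.normalizer (Subgroup.centralizer {g} : Set G))
    rw [hi, e] at this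
    exact (dvd_mul_left 3 _).trans this)
  refine ⟨i, by omega, by rw [hi, mul_comm], ?_⟩
  rw [ncard_conjSet _ (fun u hu h1 k hk => h.ti hg hu h1 hk), ← mul_assoc, mul_comm i, ← hi,
    Subgroup.card_mul_index]

theorem OddTI.conjSet_subset (h : OddTI G) {g : G} (hg : ¬ orderOf g ∣ 4) :
    conjSet (Subgroup.centralizer {g}) ⊆ {x | ¬ orderOf x ∣ 4} := by
  rintro x ⟨h1, k, hk⟩
  show ¬ orderOf x ∣ 4
  rw [← orderOf_injective (MulAut.conj k).toMonoidHom (MulAut.conj k).injective x]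
  exact h.not_dvd_four hg hk (fun e => h1 (conj_eq_one_iff.1 e))

theorem OddTI.not_disjoint (h : OddTI G) {g g' : G} (hg : ¬ orderOf g ∣ 4) (hg' : ¬ orderOf g' ∣ 4)
    (hd : ¬ Disjoint (conjSet (Subgroup.centralizer {g})) (conjSet (Subgroup.centralizer {g'}))) :
    g' ∈ conjSet (Subgroup.centralizer {g}) := by
  rw [Set.not_disjoint_iff] at hd
  obtain ⟨x, ⟨h1, k, hk⟩, -, l, hl⟩ := hd
  have e1 := h.centralizer_eq g _ hg hk (fun e => h1 (conj_eq_one_iff.1 e))
  have e2 := h.centralizer_eq g' _ hg' hl (fun e => h1 (conj_eq_one_iff.1 e))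
  refine ⟨fun e => hg' (by rw [e, orderOf_one]; exact one_dvd 4), k * l⁻¹, ?_⟩
  have h2 : g' ∈ Subgroup.centralizer {l * x * l⁻¹} := e2 ▸ mem_centralizer_self g'
  have h3 := (centralizer_conj (k * l⁻¹) (l * x * l⁻¹)).2 h2
  rw [show k * l⁻¹ * (l * x * l⁻¹) * (k * l⁻¹)⁻¹ = k * x * k⁻¹ by group, e1] at h3
  exact h3

/-- A centraliser contains a Sylow subgroup for each prime dividing its order. -/
theorem OddTI.exists_sylow_le (h : OddTI G) {g : G} (hg : ¬ orderOf g ∣ 4) {p : ℕ} [Fact p.Prime]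
    (hp : p ∣ Nat.card ↥(Subgroup.centralizer {g})) :
    ∃ S : Sylow p G, (S : Subgroup G) ≤ Subgroup.centralizer {g} ∧ (S : Subgroup G) ≠ ⊥ := by
  obtain ⟨u, hu⟩ := exists_prime_orderOf_dvd_card' (G := ↥(Subgroup.centralizer {g})) p hp
  rw [← Subgroup.orderOf_coe] at hu
  have h1 : (u : G) ≠ 1 := fun e => by
    rw [e, orderOf_one] at hu; exact (Fact.out : p.Prime).ne_one hu.symm
  obtain ⟨S, hS⟩ := (IsPGroup.of_card (p := p) (G := ↥(Subgroup.zpowers (u : G)))
    (n := 1) (by rw [Nat.card_zpowers, hu, pow_one])).exists_le_sylow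
  have huS : (u : G) ∈ (S : Subgroup G) := hS (Subgroup.mem_zpowers _)
  refine ⟨S, ?_, fun hbot => h1 (by rwa [hbot, Subgroup.mem_bot] at huS)⟩
  haveI : Nontrivial ↥(S : Subgroup G) := ⟨⟨⟨u, huS⟩, 1, fun e => h1 (congrArg Subtype.val e)⟩⟩
  haveI := S.2.center_nontrivial
  obtain ⟨⟨z, hzc⟩, hz⟩ := exists_ne (1 : ↥(Subgroup.center ↥(S : Subgroup G)))
  have hz1 : (z : G) ≠ 1 := fun e => hz (Subtype.ext (Subtype.ext e))
  rw [Subgroup.mem_center_iff] at hzc
  have hzC : (z : G) ∈ Subgroup.centralizer {g} := by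
    rw [← h.centralizer_eq g u hg u.2 h1, Subgroup.mem_centralizer_singleton_iff]
    exact (congrArg Subtype.val (hzc ⟨u, huS⟩)).symm
  intro x hx
  rw [← h.centralizer_eq g z hg hzC hz1, Subgroup.mem_centralizer_singleton_iff]
  exact congrArg Subtype.val (hzc ⟨x, hx⟩)

/-- Non-conjugate centralisers have coprime orders. -/
theorem OddTI.coprime (h : OddTI G) {g g' : G} (hg : ¬ orderOf g ∣ 4) (hg' : ¬ orderOf g' ∣ 4)
    (hd : g' ∉ conjSet (Subgroup.centralizer {g})) :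
    (Nat.card ↥(Subgroup.centralizer {g})).Coprime (Nat.card ↥(Subgroup.centralizer {g'})) := by
  refine Nat.coprime_of_dvd fun p hp h1 h2 => hd ?_
  haveI : Fact p.Prime := ⟨hp⟩
  obtain ⟨S, hS, hne⟩ := h.exists_sylow_le hg h1
  obtain ⟨S', hS', -⟩ := h.exists_sylow_le hg' h2
  obtain ⟨k, hk⟩ := MulAction.exists_smul_eq G S S'
  obtain ⟨⟨u, hu⟩, hu1⟩ := Subgroup.ne_bot_iff_exists_ne_one.1 hne
  have hu1' : u ≠ 1 := fun e => hu1 (Subtype.ext e)
  have hmem : k * u * k⁻¹ ∈ (S' : Subgroup G) := by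
    rw [← hk, Sylow.coe_subgroup_smul]
    exact ⟨u, hu, rfl⟩
  refine h.not_disjoint hg hg' (Set.not_disjoint_iff.2 ⟨k * u * k⁻¹,
    ⟨fun e => hu1' (conj_eq_one_iff.1 e), k⁻¹, ?_⟩, fun e => hu1' (conj_eq_one_iff.1 e), 1, ?_⟩)
  · have := hS hu
    simpa [mul_assoc] using this
  · simpa using hS' hmem

/-- The number of conjugates of a trivial-intersection Sylow subgroup is `1` modulo its order. -/
theorem index_normalizer_mod (T : Subgroup G)
    (hTI : ∀ u ∈ T, u ≠ 1 → ∀ k : G, k * u * k⁻¹ ∈ T → k ∈ Subgroup.normalizer (T : Set G))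
    (hNT : ∀ u ∈ T, ∀ k : G, k * u * k⁻¹ ∈ Subgroup.normalizer (T : Set G) → k * u * k⁻¹ ∈ T) :
    ∃ j, (Subgroup.normalizer (T : Set G)).index = 1 + j * Nat.card ↥T := by
  classical
  haveI := Fintype.ofFinite G
  set N := Subgroup.normalizer (T : Set G) with hN
  let e := MulAction.selfEquivSigmaOrbits ↥T (G ⧸ N)
  set b : G ⧸ N := QuotientGroup.mk 1 with hb
  set ω₀ : Quotient (MulAction.orbitRel ↥T (G ⧸ N)) := Quotient.mk _ b
  have hfix : ∀ (u : ↥T) (k : G), u • (QuotientGroup.mk k : G ⧸ N) = QuotientGroup.mk k →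
      u = 1 ∨ (QuotientGroup.mk k : G ⧸ N) = b := by
    intro u k h
    refine or_iff_not_imp_left.2 fun hu => ?_
    have hu' : (u : G) ≠ 1 := fun e => hu (Subtype.ext e)
    have h1 : QuotientGroup.mk ((u : G) * k) = (QuotientGroup.mk k : G ⧸ N) := h
    rw [eq_comm, QuotientGroup.eq] at h1
    have h2 : k⁻¹ * u * k⁻¹⁻¹ ∈ N := by rwa [inv_inv, mul_assoc]
    have h3 := hTI u u.2 hu' _ (hNT u u.2 _ h2)
    exact QuotientGroup.eq.2 (by simpa using h3)
  have hb0 : MulAction.orbit ↥T b = {b} := by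
    ext y
    simp only [MulAction.mem_orbit_iff, Set.mem_singleton_iff]
    constructor
    · rintro ⟨u, rfl⟩
      show QuotientGroup.mk ((u : G) * 1) = b
      exact QuotientGroup.eq.2 (by simpa using Subgroup.le_normalizer (inv_mem u.2))
    · rintro rfl
      exact ⟨1, one_smul _ _⟩
  have horb : ∀ ω : Quotient (MulAction.orbitRel ↥T (G ⧸ N)), ω ≠ ω₀ →
      Nat.card (MulAction.orbit ↥T ω.out) = Nat.card ↥T := by
    intro ω hω
    refine (Nat.card_eq_of_bijective (fun u : ↥T => (⟨u • ω.out, u, rfl⟩ : MulAction.orbit ↥T ω.out))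
      ⟨?_, ?_⟩).symm
    · intro u v huv
      have h1 : (v⁻¹ * u) • ω.out = ω.out := by
        rw [mul_smul, show u • ω.out = v • ω.out from congrArg Subtype.val huv, inv_smul_smul]
      obtain ⟨k, hk⟩ := QuotientGroup.mk_surjective ω.out
      rw [← hk] at h1
      rcases hfix _ k h1 with h | h
      · exact (inv_mul_eq_one.1 h).symm
      · refine absurd ?_ hω
        rw [← Quotient.out_eq ω, ← hk, h]
    · rintro ⟨y, u, rfl⟩
      exact ⟨u, rfl⟩
  have h0 : Nat.card (MulAction.orbit ↥T ω₀.out) = 1 := by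
    rw [show MulAction.orbit ↥T ω₀.out = MulAction.orbit ↥T b from
      MulAction.orbit_eq_iff.2 (Quotient.mk_out (s := MulAction.orbitRel ↥T (G ⧸ N)) b), hb0]
    exact Nat.card_unique
  refine ⟨(Finset.univ.erase ω₀).card, ?_⟩
  rw [Subgroup.index_eq_card, Nat.card_congr e, Nat.card_sigma,
    ← Finset.add_sum_erase _ _ (Finset.mem_univ ω₀), h0,
    Finset.sum_congr rfl (fun ω hω => horb ω (Finset.ne_of_mem_erase hω)), Finset.sum_const, smul_eq_mul]

/-- The main counting lemma. -/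
theorem count_analysis (h : OddTI G) (T : Subgroup G)
    (hT2 : ∀ u ∈ T, orderOf u ∣ 4) (hT : ∀ x : G, x ≠ 1 → orderOf x ∣ 4 → x ∈ conjSet T)
    (hTI : ∀ u ∈ T, u ≠ 1 → ∀ k : G, k * u * k⁻¹ ∈ T → k ∈ Subgroup.normalizer (T : Set G))
    {t hh n : ℕ} (ht : Nat.card ↥T = t) (hN : Nat.card ↥(Subgroup.normalizer (T : Set G)) = t * hh)
    (hn : (Subgroup.normalizer (T : Set G)).index = n) (hn2 : 2 ≤ n) (hnodd : Odd n)
    {d : G} (hd : ¬ orderOf d ∣ 4) (hdC : Nat.card ↥(Subgroup.centralizer {d}) = hh) (hh7 : 7 ≤ hh)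
    (ht7 : hh < t)
    (hdN : Nat.card ↥(Subgroup.normalizer (Subgroup.centralizer {d} : Set G)) ≤ 2 * hh) :
    Nat.card ↥(Subgroup.normalizer (Subgroup.centralizer {d} : Set G)) = 2 * hh ∧
    ((∃ (c : ℕ) (g : G), ¬ orderOf g ∣ 4 ∧ Nat.card ↥(Subgroup.centralizer {g}) = c ∧
        Nat.card ↥(Subgroup.normalizer (Subgroup.centralizer {g} : Set G)) = 2 * c ∧ n = c ∧
        (2 : ℤ) * n + (t : ℤ) * hh = (n : ℤ) * t + 2) ∨
      (∃ (c₁ c₂ : ℕ) (g : G), ¬ orderOf g ∣ 4 ∧ Nat.card ↥(Subgroup.centralizer {g}) = c₁ ∧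
        Nat.card ↥(Subgroup.normalizer (Subgroup.centralizer {g} : Set G)) = 4 * c₁ ∧ n = c₁ * c₂ ∧
        (t : ℤ) * hh * (c₁ + c₂) = 2 * (n : ℤ) * t - 4 * n + 4)) := by
  classical
  have hM : Nat.card G = n * (t * hh) := by
    rw [← hn, ← hN, mul_comm, Subgroup.card_mul_index]
  -- the odd elements
  set O : Set G := {x | ¬ orderOf x ∣ 4} with hO
  have hsplit : (Set.univ : Set G) = ({1} ∪ conjSet T) ∪ O := by
    ext x
    simp only [Set.mem_univ, true_iff, Set.mem_union, Set.mem_singleton_iff, hO, Set.mem_ofPred_eq]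
    by_cases h4 : orderOf x ∣ 4
    · rcases eq_or_ne x 1 with h1 | h1
      · exact Or.inl (Or.inl h1)
      · exact Or.inl (Or.inr (hT x h1 h4))
    · exact Or.inr h4
  have hdis1 : Disjoint ({1} : Set G) (conjSet T) := Set.disjoint_singleton_left.2 fun e => e.1 rfl
  have hdis2 : Disjoint ({1} ∪ conjSet T) O := by
    rw [Set.disjoint_left]
    rintro x (rfl | ⟨-, k, hk⟩) hx
    · exact hx (by rw [orderOf_one]; exact one_dvd 4)
    · refine hx ?_
      rw [← orderOf_injective (MulAut.conj k).toMonoidHom (MulAut.conj k).injective x]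
      exact hT2 _ hk
  have hcard : n * (t * hh) = 1 + n * (t - 1) + O.ncard := by
    rw [← hM, ← Set.ncard_univ, hsplit, Set.ncard_union_eq hdis2, Set.ncard_union_eq hdis1,
      Set.ncard_singleton, ncard_conjSet T hTI, hn, ht]
  have hcardZ : (n : ℤ) * (t * hh) = 1 + (n : ℤ) * ((t : ℤ) - 1) + (O.ncard : ℤ) := by
    have := congrArg (Nat.cast : ℕ → ℤ) hcard
    push_cast [Nat.cast_sub (show 1 ≤ t by omega)] at this
    exact this
  have hnZ : (2 : ℤ) ≤ n := by exact_mod_cast hn2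
  have hhZ : (7 : ℤ) ≤ hh := by exact_mod_cast hh7
  have htZ : (hh : ℤ) + 1 ≤ t := by exact_mod_cast ht7
  -- classes
  have hclass : ∀ g : G, ¬ orderOf g ∣ 4 → ∃ (i c : ℕ) (S : ℤ), (i = 1 ∨ i = 2 ∨ i = 4) ∧
      Nat.card ↥(Subgroup.centralizer {g}) = c ∧ 5 ≤ c ∧ S = ((conjSet (Subgroup.centralizer {g})).ncard : ℤ) ∧
      Nat.card ↥(Subgroup.normalizer (Subgroup.centralizer {g} : Set G)) = i * c ∧
      (i : ℤ) * c * S = (n : ℤ) * (t * hh) * ((c : ℤ) - 1) := by
    intro g hg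
    obtain ⟨i, hi, hiN, hiS⟩ := h.class_eq hg
    refine ⟨i, _, _, hi, rfl, h.five_le hg, rfl, hiN, ?_⟩
    have := congrArg (Nat.cast : ℕ → ℤ) hiS
    rw [hM] at this
    push_cast [Nat.cast_sub (show 1 ≤ Nat.card ↥(Subgroup.centralizer {g}) from Nat.card_pos)] at this
    exact this
  have hlow : ∀ (i c : ℕ) (S : ℤ), (i = 1 ∨ i = 2 ∨ i = 4) → 5 ≤ c →
      (i : ℤ) * c * S = (n : ℤ) * (t * hh) * ((c : ℤ) - 1) → (n : ℤ) * (t * hh) ≤ 5 * S ∧
        (i ≤ 2 → 2 * ((n : ℤ) * (t * hh)) ≤ 5 * S) ∧ (i = 1 → 4 * ((n : ℤ) * (t * hh)) ≤ 5 * S) ∧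
        (i = 4 → 4 * S < (n : ℤ) * (t * hh)) := by
    intro i c S hi hc hS
    have hpos : (0 : ℤ) < (n : ℤ) * (t * hh) := by
      have : (0 : ℤ) < t := by omega
      positivity
    have hc' : (5 : ℤ) ≤ c := by exact_mod_cast hc
    generalize (n : ℤ) * (t * hh) = M at hS hpos ⊢
    rcases hi with rfl | rfl | rfl <;> push_cast at hS <;>
      refine ⟨?_, fun _ => ?_, fun _ => ?_, fun _ => ?_⟩ <;>
      first | omega | nlinarith
  -- the class of `d`
  obtain ⟨id, cd, Sd, hid, hcd, -, hSd, hidN, hdeq⟩ := hclass d hd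
  have hcdh : cd = hh := hcd.symm.trans hdC
  subst hcdh
  have hd_sub : conjSet (Subgroup.centralizer {d}) ⊆ O := h.conjSet_subset hd
  have hrest_dis : ∀ g, g ∈ O → g ∉ conjSet (Subgroup.centralizer {d}) →
      Disjoint (conjSet (Subgroup.centralizer {d})) (conjSet (Subgroup.centralizer {g})) := by
    intro g hg hgd
    by_contra hdd
    exact hgd (h.not_disjoint hd hg hdd)
  have hrest_le : ∀ g, g ∈ O → g ∉ conjSet (Subgroup.centralizer {d}) →
      Sd + ((conjSet (Subgroup.centralizer {g})).ncard : ℤ) ≤ (O.ncard : ℤ) := by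
    intro g hg hgd
    rw [hSd]
    have := Set.ncard_le_ncard (Set.union_subset hd_sub (h.conjSet_subset hg)) (Set.toFinite _)
    rw [Set.ncard_union_eq (hrest_dis g hg hgd)] at this
    exact_mod_cast this
  have hid2 : id ≤ 2 := by
    rw [hidN] at hdN
    exact Nat.le_of_mul_le_mul_right hdN (by omega)
  have hid_two : id = 2 := by
    rcases hid with rfl | rfl | rfl
    · exfalso
      rw [Nat.cast_one, one_mul] at hdeq
      have hSd' : Sd = (n : ℤ) * t * ((cd : ℤ) - 1) :=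
        mul_left_cancel₀ (show (cd : ℤ) ≠ 0 by omega) (by linear_combination hdeq)
      by_cases hO' : O ⊆ conjSet (Subgroup.centralizer {d})
      · have : (O.ncard : ℤ) = Sd := by rw [hSd, Set.Subset.antisymm hO' hd_sub]
        rw [this, hSd'] at hcardZ
        nlinarith
      · obtain ⟨g, hg, hgd⟩ := Set.not_subset.1 hO'
        obtain ⟨i, c, S, hi, -, hc, hS, -, heq⟩ := hclass g hg
        have h1 := (hlow i c S hi hc heq).1
        have h2 := hrest_le g hg hgd
        rw [← hS] at h2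
        nlinarith
    · rfl
    · omega
  subst hid_two
  refine ⟨hidN, ?_⟩
  push_cast at hdeq
  have hSd' : 2 * Sd = (n : ℤ) * t * ((cd : ℤ) - 1) :=
    mul_left_cancel₀ (show (cd : ℤ) ≠ 0 by omega) (by linear_combination hdeq)
  -- the remaining elements number `R` with `2 R = n t (h - 1) + 2 (n - 1)`
  have hR : 2 * ((O.ncard : ℤ) - Sd) = (n : ℤ) * t * ((cd : ℤ) - 1) + 2 * ((n : ℤ) - 1) := by
    linear_combination (-2 : ℤ) * hcardZ - hSd'
  have hR_hi : 2 * ((O.ncard : ℤ) - Sd) * 56 < 58 * ((n : ℤ) * (t * cd)) := by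
    rw [hR]; nlinarith
  have hR_lo : 3 * ((n : ℤ) * (t * cd)) < 7 * ((O.ncard : ℤ) - Sd) + 1 := by
    nlinarith [hR, mul_le_mul_of_nonneg_left hhZ (show (0 : ℤ) ≤ (n : ℤ) * t by positivity)]
  obtain ⟨g₁, hg₁, hg₁d⟩ : ∃ g, g ∈ O ∧ g ∉ conjSet (Subgroup.centralizer {d}) := by
    by_contra hno
    have hO' : O ⊆ conjSet (Subgroup.centralizer {d}) := fun g hg => by
      by_contra hgd; exact hno ⟨g, hg, hgd⟩
    have : (O.ncard : ℤ) = Sd := by rw [hSd, Set.Subset.antisymm hO' hd_sub]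
    rw [this] at hR_lo
    nlinarith
  obtain ⟨i₁, c₁, S₁, hi₁, hc₁, hc₁5, hS₁, hiN₁, heq₁⟩ := hclass g₁ hg₁
  have hl₁ := hlow i₁ c₁ S₁ hi₁ hc₁5 heq₁
  have hcop₁ : Nat.Coprime c₁ cd := by
    rw [← hc₁, ← hdC]
    exact Nat.Coprime.symm (h.coprime hd hg₁ hg₁d)
  have hdvdn : ∀ (c : ℕ) (g : G), ¬ orderOf g ∣ 4 → Nat.card ↥(Subgroup.centralizer {g}) = c →
      Nat.Coprime c cd → c ∣ n := by
    intro c g hg hc hcop
    have h1 : c ∣ n * (t * cd) := hM ▸ hc ▸ Subgroup.card_subgroup_dvd_card _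
    refine Nat.Coprime.dvd_of_dvd_mul_right (Nat.Coprime.mul_right ?_ hcop) h1
    refine Nat.coprime_of_dvd fun p hp hpc hpt => ?_
    haveI : Fact p.Prime := ⟨hp⟩
    obtain ⟨u, hu⟩ := exists_prime_orderOf_dvd_card' (G := ↥T) p (ht ▸ hpt)
    have h4 := hT2 u u.2
    rw [Subgroup.orderOf_coe, hu, show 4 = 2 ^ 2 from rfl] at h4
    have h2 := (Nat.prime_dvd_prime_iff_eq hp Nat.prime_two).1 (hp.dvd_of_dvd_pow h4)
    have hodd := h.odd g hg
    rw [hc] at hodd
    rw [h2] at hpc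
    exact Nat.not_even_iff_odd.2 hodd (even_iff_two_dvd.2 hpc)
  set R₁ := conjSet (Subgroup.centralizer {g₁})
  by_cases hO₁ : O ⊆ conjSet (Subgroup.centralizer {d}) ∪ R₁
  · -- one further class
    have hsum : (O.ncard : ℤ) = Sd + S₁ := by
      rw [hSd, hS₁, Set.Subset.antisymm hO₁ (Set.union_subset hd_sub (h.conjSet_subset hg₁)),
        Set.ncard_union_eq (hrest_dis g₁ hg₁ hg₁d)]
      push_cast; rfl
    rw [hsum, add_sub_cancel_left] at hR hR_hi hR_lo
    rcases hi₁ with rfl | rfl | rfl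
    · have := hl₁.2.2.1 rfl; omega
    · left
      obtain ⟨e, he⟩ := hdvdn c₁ g₁ hg₁ hc₁ hcop₁
      push_cast at heq₁
      have h2 : (n : ℤ) * (t * cd) * ((c₁ : ℤ) - 1) =
          (c₁ : ℤ) * ((n : ℤ) * t * ((cd : ℤ) - 1) + 2 * ((n : ℤ) - 1)) := by
        linear_combination (c₁ : ℤ) * hR - heq₁
      have hne : (n : ℤ) = c₁ * e := by exact_mod_cast he
      have h3 : (e : ℤ) * (t * cd) * ((c₁ : ℤ) - 1) = (n : ℤ) * t * ((cd : ℤ) - 1) + 2 * ((n : ℤ) - 1) :=
        mul_left_cancel₀ (show (c₁ : ℤ) ≠ 0 by omega) (by rw [← h2, hne]; ring)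
      have hed : (e : ℤ) ∣ 2 := ⟨-(t * cd * ((c₁ : ℤ) - 1)) + c₁ * t * ((cd : ℤ) - 1) + 2 * c₁, by
        rw [hne] at h3; linear_combination h3⟩
      have he2 : e = 1 := by
        have h4 : e ∣ 2 := Int.natCast_dvd_natCast.1 (by exact_mod_cast hed)
        rcases (Nat.dvd_prime Nat.prime_two).1 h4 with h5 | h5
        · exact h5
        · exfalso
          subst h5
          rw [he, Nat.odd_mul] at hnodd
          exact absurd hnodd.2 (by decide)
      subst he2
      rw [mul_one] at he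
      refine ⟨c₁, g₁, hg₁, hc₁, hiN₁, he, ?_⟩
      rw [← he, Nat.cast_one, one_mul] at h3
      linear_combination (-1 : ℤ) * h3
    · have := hl₁.2.2.2 rfl; omega
  · -- two further classes
    obtain ⟨g₂, hg₂, hg₂'⟩ := Set.not_subset.1 hO₁
    rw [Set.mem_union, not_or] at hg₂'
    obtain ⟨hg₂d, hg₂1⟩ := hg₂'
    obtain ⟨i₂, c₂, S₂, hi₂, hc₂, hc₂5, hS₂, -, heq₂⟩ := hclass g₂ hg₂
    have hl₂ := hlow i₂ c₂ S₂ hi₂ hc₂5 heq₂
    have hd12 : Disjoint R₁ (conjSet (Subgroup.centralizer {g₂})) := by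
      by_contra hdd
      exact hg₂1 (h.not_disjoint hg₁ hg₂ hdd)
    have hu_sub : conjSet (Subgroup.centralizer {d}) ∪ R₁ ∪ conjSet (Subgroup.centralizer {g₂}) ⊆ O :=
      Set.union_subset (Set.union_subset hd_sub (h.conjSet_subset hg₁)) (h.conjSet_subset hg₂)
    have hu_dis : Disjoint (conjSet (Subgroup.centralizer {d}) ∪ R₁) (conjSet (Subgroup.centralizer {g₂})) :=
      Set.disjoint_union_left.2 ⟨hrest_dis g₂ hg₂ hg₂d, hd12⟩
    by_cases hO₂ : O ⊆ conjSet (Subgroup.centralizer {d}) ∪ R₁ ∪ conjSet (Subgroup.centralizer {g₂})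
    swap
    · exfalso
      obtain ⟨g₃, hg₃, hg₃'⟩ := Set.not_subset.1 hO₂
      rw [Set.mem_union, Set.mem_union, not_or, not_or] at hg₃'
      obtain ⟨i₃, c₃, S₃, hi₃, -, hc₃5, hS₃, -, heq₃⟩ := hclass g₃ hg₃
      have hl₃ := hlow i₃ c₃ S₃ hi₃ hc₃5 heq₃
      have hd3 : Disjoint (conjSet (Subgroup.centralizer {d}) ∪ R₁ ∪ conjSet (Subgroup.centralizer {g₂}))
          (conjSet (Subgroup.centralizer {g₃})) := by
        rw [Set.disjoint_union_left, Set.disjoint_union_left]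
        refine ⟨⟨hrest_dis g₃ hg₃ hg₃'.1.1, ?_⟩, ?_⟩
        · by_contra hdd; exact hg₃'.1.2 (h.not_disjoint hg₁ hg₃ hdd)
        · by_contra hdd; exact hg₃'.2 (h.not_disjoint hg₂ hg₃ hdd)
      have hle := Set.ncard_le_ncard (Set.union_subset hu_sub (h.conjSet_subset hg₃)) (Set.toFinite _)
      rw [Set.ncard_union_eq hd3, Set.ncard_union_eq hu_dis, Set.ncard_union_eq (hrest_dis g₁ hg₁ hg₁d)] at hle
      have hleZ : Sd + S₁ + S₂ + S₃ ≤ (O.ncard : ℤ) := by
        rw [hSd, hS₁, hS₂, hS₃]; exact_mod_cast hle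
      have := hl₁.1
      have := hl₂.1
      have := hl₃.1
      omega
    have hsum : (O.ncard : ℤ) = Sd + S₁ + S₂ := by
      rw [hSd, hS₁, hS₂, Set.Subset.antisymm hO₂ hu_sub, Set.ncard_union_eq hu_dis,
        Set.ncard_union_eq (hrest_dis g₁ hg₁ hg₁d)]
      push_cast; rfl
    rw [hsum, add_assoc, add_sub_cancel_left] at hR hR_hi hR_lo
    have hi₁4 : i₁ = 4 := by
      rcases hi₁ with rfl | rfl | rfl
      · have := hl₁.2.1 (by norm_num); have := hl₂.1; omega
      · have := hl₁.2.1 le_rfl; have := hl₂.1; omega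
      · rfl
    have hi₂4 : i₂ = 4 := by
      rcases hi₂ with rfl | rfl | rfl
      · have := hl₂.2.1 (by norm_num); have := hl₁.1; omega
      · have := hl₂.2.1 le_rfl; have := hl₁.1; omega
      · rfl
    subst hi₁4 hi₂4
    right
    have hcop₂ : Nat.Coprime c₂ cd := by
      rw [← hc₂, ← hdC]
      exact Nat.Coprime.symm (h.coprime hd hg₂ hg₂d)
    have hcop12 : Nat.Coprime c₁ c₂ := by
      rw [← hc₁, ← hc₂]
      exact h.coprime hg₁ hg₂ hg₂1
    obtain ⟨e, he⟩ := hcop12.mul_dvd_of_dvd_of_dvd (hdvdn c₁ g₁ hg₁ hc₁ hcop₁) (hdvdn c₂ g₂ hg₂ hc₂ hcop₂)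
    push_cast at heq₁ heq₂
    have hne : (n : ℤ) = c₁ * c₂ * e := by exact_mod_cast he
    have h3 : (n : ℤ) * (t * cd) * (((c₁ : ℤ) - 1) * c₂ + ((c₂ : ℤ) - 1) * c₁) =
        2 * c₁ * c₂ * ((n : ℤ) * t * ((cd : ℤ) - 1) + 2 * ((n : ℤ) - 1)) := by
      linear_combination (-(c₂ : ℤ)) * heq₁ + (-(c₁ : ℤ)) * heq₂ + 2 * (c₁ : ℤ) * (c₂ : ℤ) * hR
    have h4 : (e : ℤ) * (t * cd) * (((c₁ : ℤ) - 1) * c₂ + ((c₂ : ℤ) - 1) * c₁) =
        2 * ((n : ℤ) * t * ((cd : ℤ) - 1) + 2 * ((n : ℤ) - 1)) := by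
      refine mul_left_cancel₀ (show (c₁ : ℤ) * c₂ ≠ 0 from mul_ne_zero (by omega) (by omega)) ?_
      rw [hne] at h3 ⊢
      linear_combination h3
    have hed : (e : ℤ) ∣ 4 := ⟨-(t * cd * (((c₁ : ℤ) - 1) * c₂ + ((c₂ : ℤ) - 1) * c₁)) +
        2 * c₁ * c₂ * t * ((cd : ℤ) - 1) + 4 * c₁ * c₂, by
      rw [hne] at h4; linear_combination h4⟩
    have he1 : e = 1 := by
      have h5 : e ∣ 2 ^ 2 := Int.natCast_dvd_natCast.1 (by exact_mod_cast hed)
      obtain ⟨j, -, rfl⟩ := (Nat.dvd_prime_pow Nat.prime_two).1 h5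
      rw [he, Nat.odd_mul] at hnodd
      rcases j with _ | j
      · rfl
      · exact absurd hnodd.2 (Nat.not_odd_iff_even.2 (Nat.even_pow.2 ⟨even_two, by omega⟩))
    subst he1
    rw [mul_one] at he
    refine ⟨c₁, c₂, g₁, hg₁, hc₁, hiN₁, he, ?_⟩
    rw [Nat.cast_one, mul_one] at hne
    rw [hne] at h4
    rw [hne]
    linear_combination (-1 : ℤ) * h4

end

end CfsgLib.SuzukiGroup
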